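import Groth.Agent.InvX.GenEpi
import Groth.Agent.CurveCohLib.Proper
import Groth.Agent.KFlatLib.Perfect.Tensor
import Groth.Agent.Lib.CurveBundle
import Groth.Agent.KFlatLib.Scheme.Exact

/-!
# Submodules of coherent modules supported on finitely many closed points
-/

set_option linter.style.haveILetI false
set_option linter.unusedSectionVars false
set_option backward.isDefEq.respectTransparency false
set_option backward.isDefEq.respectTransparency.types false

universe u

open CategoryTheory CategoryTheory.Limits AlgebraicGeometry TopologicalSpace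

noncomputable section

namespace Groth.Agent.StabH89

open Groth.Agent

variable {X : Scheme.{u}}

lemma hom_structure_eq_zero {M : X.Modules} (φ : Coh.structureModule X ⟶ M) (h : InvX.one φ = 0) : φ = 0 := by
  refine Scheme.Modules.hom_ext _ _ fun U => ?_
  ext r
  refine (InvX.app_eq_smul φ r).trans ?_
  rw [h]
  simp [AModX.res]

/-- Any submodule of a coherent module supported on closed points is coherent. -/
theorem isCoh_of_mono_closedPoints [IsNoetherian X] {K Q : X.Modules} (ι : K ⟶ Q) [Mono ι] (hQ : Coh.IsCoh Q)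
    (h0 : ∀ x ∈ CohB1.support Q, IsClosed ({x} : Set X)) : Coh.IsCoh K := by
  classical
  have hinj : ∀ x, Function.Injective ((DerSch.stalkFunctor X x).map ι) := fun x =>
    (ModuleCat.mono_iff_injective _).1 inferInstance
  have hfin := CurveCohLib.finite_of_closedPoints (QCoh.isClosed_support_of_isFT hQ.1 hQ.2) h0
  have hfg : ∀ x, (⊤ : Submodule (X.presheaf.stalk x) (K.presheaf.stalk x)).FG := by
    intro x
    haveI : IsNoetherianRing (X.presheaf.stalk x) := inferInstance
    haveI : Module.Finite (X.presheaf.stalk x) (Q.presheaf.stalk x) := CurveBundle.finite_stalk_of_coh hQ x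
    haveI : Module.Finite (X.presheaf.stalk x) ((DerSch.stalkFunctor X x).obj Q) := ‹_›
    haveI := Module.Finite.of_injective ((DerSch.stalkFunctor X x).map ι).hom (hinj x)
    exact (inferInstance : Module.Finite (X.presheaf.stalk x) ((DerSch.stalkFunctor X x).obj K)).fg_top
  choose G hG using hfg
  let T : Finset (Σ x : X, K.presheaf.stalk x) := hfin.toFinset.sigma G
  have hlift : ∀ p : T, ∃ t : Γ(K, ⊤), K.presheaf.germ ⊤ p.1.1 trivial t = p.1.2 := by
    rintro ⟨⟨x, m⟩, hp⟩
    have hxS : x ∈ CohB1.support Q := hfin.mem_toFinset.1 (Finset.mem_sigma.1 hp).1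
    obtain ⟨t, ht, ht0⟩ := CurveCohLib.exists_section_single hQ h0 hxS ((DerSch.stalkFunctor X x).map ι m)
    have hπ : InvX.ofSect t ≫ cokernel.π ι = 0 := by
      refine hom_structure_eq_zero _ ?_
      show (cokernel.π ι).app ⊤ (InvX.one (InvX.ofSect t)) = 0
      rw [InvX.one_ofSect]
      refine TopCat.Presheaf.section_ext ⟨(cokernel ι).presheaf, (cokernel ι).isSheaf⟩ _ _ _ fun y hy => ?_
      rw [map_zero]
      show (cokernel ι).presheaf.germ ⊤ y hy ((cokernel.π ι).app ⊤ t) = 0
      rw [← DerSch.stalkFunctor_map_germ]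
      by_cases hyx : y = x
      · subst hyx
        rw [ht, ← ConcreteCategory.comp_apply, ← Functor.map_comp, cokernel.condition, Functor.map_zero]
        rfl
      · rw [ht0 y hyx, map_zero]
    obtain ⟨s, hs⟩ : ∃ s, s ≫ ι = InvX.ofSect t :=
      ⟨(Abelian.monoIsKernelOfCokernel _ (colimit.isColimit _)).lift (KernelFork.ofι _ hπ),
        (Abelian.monoIsKernelOfCokernel _ (colimit.isColimit _)).fac (KernelFork.ofι _ hπ) WalkingParallelPair.zero⟩
    refine ⟨InvX.one s, hinj x ?_⟩
    rw [DerSch.stalkFunctor_map_germ]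
    have h2 : ι.app ⊤ (InvX.one s) = t := (congrArg InvX.one hs).trans (InvX.one_ofSect t)
    rw [h2]
    exact ht
  choose t ht using hlift
  let e := T.equivFin
  have hgen : ProjUP.GeneratedBy K (fun i => t (e.symm i)) := by
    intro x
    by_cases hx : x ∈ hfin.toFinset
    · rw [eq_top_iff, ← hG x]
      refine Submodule.span_mono fun m hm => ⟨e ⟨⟨x, m⟩, Finset.mem_sigma.2 ⟨hx, hm⟩⟩, ?_⟩
      show K.presheaf.germ ⊤ x trivial (t (e.symm (e _))) = m
      rw [Equiv.symm_apply_apply]
      exact ht ⟨⟨x, m⟩, _⟩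
    · haveI : Subsingleton (Q.presheaf.stalk x) := not_not.1 fun h => hx (hfin.mem_toFinset.2 h)
      haveI : Subsingleton (K.presheaf.stalk x) :=
        ⟨fun a b => hinj x (@Subsingleton.elim _ ‹Subsingleton (Q.presheaf.stalk x)› _ _)⟩
      exact Subsingleton.elim _ _
  obtain ⟨p, hp⟩ := InvX.exists_epi_freeMod hgen
  haveI := hp
  have hfree : Coh.IsCoh (FlatMod.freeMod X T.card) :=
    CurveDeg.isCoh_of_isFinLocFree (KFlatLib.isFinLocFree_freeMod T.card)
  have hk : Coh.IsCoh (kernel p) :=

      QCoh.isCoh_of_mono (kernel.ι p) hfree ((QCoh.isQCoh_iff_iso (kernelCompMono p ι)).1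
        (QCoh.isCoh_kernel hfree hQ (p ≫ ι)).1)
  have e' : cokernel (kernel.ι p) ≅ K :=
    IsColimit.coconePointUniqueUpToIso (cokernelIsCokernel _) (Abelian.epiIsCokernelOfKernel _ (limit.isLimit _))
  exact QCoh.isCoh_of_mono e'.inv (QCoh.isCoh_cokernel hk.1 hfree _)
    ((QCoh.isQCoh_iff_iso e').1 (QCoh.isCoh_cokernel hk.1 hfree _).1)

end Groth.Agent.StabH89
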