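import Groth.Agent.StabH89.ParDeg
import Groth.Agent.StabH89.SubCoh
import Groth.Agent.Coh32.PushDevissage

/-!
# Parabolic bundles on a curve: coherence, additivity, homomorphisms
-/

set_option linter.style.haveILetI false
set_option linter.unusedSectionVars false
set_option maxHeartbeats 400000
set_option backward.isDefEq.respectTransparency false
set_option backward.isDefEq.respectTransparency.types false

universe u

open CategoryTheory CategoryTheory.Limits AlgebraicGeometry TopologicalSpace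

noncomputable section

namespace Groth.Agent.StabH89

open Groth.Agent

variable (k : Type u) [Field k] {X : Scheme.{u}} [X.Over (Spec (CommRingCat.of k))]
  [IsProper (X ↘ Spec (CommRingCat.of k))] [IsIntegral X]

variable (hdim : topologicalKrullDim X = 1) (I : X.IdealSheafData) (hD : FGA.IsEffCartier I)

include k hdim hD in
lemma isCoh_pieceX {E : X.Modules} (hE : FlatMod.IsFinLocFree E) {𝓔 : ParSh.Str E} (h𝓔 : 𝓔.Along I)
    (j : Fin (𝓔.l + 2)) : Coh.IsCoh ((𝓔.pieceX j : Subobject E) : X.Modules) := by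
  haveI := CurveCohLib.isNoetherian_of_proper (k := k) (X := X)
  have hEc : Coh.IsCoh E := CurveDeg.isCoh_of_isFinLocFree hE
  have hIc : Coh.IsCoh (ClSub.idealMod I) := AmpleVan.isCoh_invertible (ArSurfX.isInvertible_idealMod hD)
  haveI := mono_twistMap I hE
  have hB : Coh.IsCoh ((ParSh.twistSub I E : Subobject E) : X.Modules) :=
    ParShLib.isCoh_ofIso (eqToIso (congrArg (fun S : Subobject E => (S : X.Modules))
      (imageSubobject_mono (ParSh.twistMap I E))) ≪≫ Subobject.underlyingIso _).symm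
      (AmpleVan.isCoh_tensor hEc hIc)
  set B := ParSh.twistSub I E
  have hle : B ≤ 𝓔.pieceX j := (show 𝓔.bot = B from h𝓔) ▸ 𝓔.bot_le_pieceX j
  set P := 𝓔.pieceX j
  have hQ : Coh.IsCoh (cokernel B.arrow) := QCoh.isCoh_cokernel hB.1 hEc _
  have hsupp : ∀ x ∈ CohB1.support (cokernel B.arrow), IsClosed ({x} : Set X) := by
    intro x hx
    refine ParShLib.isClosed_singleton_of_mem_support k hdim I hD (by_contra fun hI => ?_)
    haveI : Epi ((DerSch.stalkFunctor X x).map B.arrow) := ParShLib.isOn_twistSub I E hI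
    haveI := isIso_of_mono_of_epi ((DerSch.stalkFunctor X x).map B.arrow)
    exact Snapper.notMem_support_cokernel B.arrow inferInstance hx
  obtain ⟨w, hT⟩ := ParShLib.shortExact_pullback_image
    (CurveSlope.shortExact_cokernel_of_mono B.arrow) P
  haveI := hT.mono_f
  have h3 := isCoh_of_mono_closedPoints (imageSubobject (P.arrow ≫ cokernel.π B.arrow)).arrow hQ hsupp
  haveI : IsIso ((Subobject.pullback B.arrow).obj P).arrow :=
    ⟨(Subobject.isPullback B.arrow P).lift (Subobject.ofLE _ _ hle) (𝟙 _)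
        (by rw [Subobject.ofLE_arrow, Category.id_comp]), by
      rw [← cancel_mono ((Subobject.pullback B.arrow).obj P).arrow, Category.assoc, IsPullback.lift_snd]
      simp, IsPullback.lift_snd _ _ _ _⟩
  have h1 := ParShLib.isCoh_ofIso (asIso ((Subobject.pullback B.arrow).obj P).arrow).symm hB
  exact Coh32.isCoh_extension _ _ w hT.exact h1 h3 (QCoh.isQCoh_X₂ hT h1.1 h3.1)

include k hdim hD in
lemma isCoh_at {E : X.Modules} (hE : FlatMod.IsFinLocFree E) {𝓔 : ParSh.Str E} (h𝓔 : 𝓔.Along I) (a : ℝ) :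
    Coh.IsCoh ((𝓔.at a : Subobject E) : X.Modules) := by
  obtain ⟨j, hj⟩ := at_eq_pieceX 𝓔 a
  rw [hj]
  exact isCoh_pieceX k hdim I hD hE h𝓔 j

lemma euler_split {S : ShortComplex X.Modules} (hS : S.ShortExact) (h₃ : Coh.IsCoh S.X₃) (P : Subobject S.X₂)
    (hP : Coh.IsCoh (P : X.Modules)) : Curv2.euler k X (P : X.Modules) =
      Curv2.euler k X (((Subobject.pullback S.f).obj P : Subobject S.X₁) : X.Modules) +
        Curv2.euler k X ((imageSubobject (P.arrow ≫ S.g) : Subobject S.X₃) : X.Modules) := by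
  haveI := CurveCohLib.isNoetherian_of_proper (k := k) (X := X)
  obtain ⟨w, hT⟩ := ParShLib.shortExact_pullback_image hS P
  obtain ⟨h1, h3⟩ := ParShLib.isCoh_parts _ (P.arrow ≫ S.g) hP h₃ w hT
  exact CurveCohLib.euler_additive (k := k) (S := ShortComplex.mk (Subobject.pullbackπ S.f P)
    (factorThruImageSubobject (P.arrow ≫ S.g)) w) hT h1 hP h3

/-- Additivity of the parabolic degree. -/
theorem parDeg_add {S : ShortComplex X.Modules} (hS : S.ShortExact) [Epi S.g] (h₁ : Coh.IsCoh S.X₁)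
    (h₂ : Coh.IsCoh S.X₂) (h₃ : Coh.IsCoh S.X₃) (𝓔 : ParSh.Str S.X₂)
    (hc : ∀ j, Coh.IsCoh ((𝓔.pieceX j : Subobject S.X₂) : X.Modules)) {r r₁ r₂ : ℕ} (hr : r = r₁ + r₂) :
    𝓔.parDeg k X r = (𝓔.induced S.f).parDeg k X r₁ + (𝓔.coinduced S.g).parDeg k X r₂ := by
  have hX : ∀ j, (Curv2.euler k X ((𝓔.pieceX j : Subobject S.X₂) : X.Modules) : ℝ) =
      Curv2.euler k X (((𝓔.induced S.f).pieceX j : Subobject S.X₁) : X.Modules) +
        Curv2.euler k X (((𝓔.coinduced S.g).pieceX j : Subobject S.X₃) : X.Modules) := by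
    intro j
    have h := euler_split k hS h₃ (𝓔.pieceX j) (hc j)
    have e2 : (𝓔.coinduced S.g).pieceX j = imageSubobject ((𝓔.pieceX j).arrow ≫ S.g) := by
      induction j using Fin.lastCases with
      | last => rw [𝓔.pieceX_last]; exact (𝓔.coinduced S.g).pieceX_last
      | cast j => rw [𝓔.pieceX_castSucc]; exact (𝓔.coinduced S.g).pieceX_castSucc j
    rw [ParShLib.induced_pieceX 𝓔 S.f j, e2, h]
    push_cast
    ring
  have hE := CurveCohLib.euler_additive (k := k) hS h₁ h₂ h₃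
  have hw : 𝓔.parWt k X = (𝓔.induced S.f).parWt k X + (𝓔.coinduced S.g).parWt k X := by
    unfold ParSh.Str.parWt
    refine Eq.trans ?_ Finset.sum_add_distrib
    refine Finset.sum_congr rfl fun (j : Fin (𝓔.l + 1)) _ => ?_
    have a := hX j.castSucc
    have a' := hX j.succ
    have e1 : (𝓔.induced S.f).pieceX j.castSucc = (𝓔.induced S.f).piece j := (𝓔.induced S.f).pieceX_castSucc j
    have e2 : (𝓔.coinduced S.g).pieceX j.castSucc = (𝓔.coinduced S.g).piece j :=
      (𝓔.coinduced S.g).pieceX_castSucc j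
    rw [𝓔.pieceX_castSucc, e1, e2] at a
    rw [a, a']
    show _ = 𝓔.wt j * _ + 𝓔.wt j * _
    ring
  unfold ParSh.Str.parDeg Curv2.deg
  rw [hw, hE, hr]
  push_cast
  ring

theorem parHom_eq_zero [Smooth (X ↘ Spec (CommRingCat.of k))] (hdim : topologicalKrullDim X = 1)
    (I : X.IdealSheafData) (hD : FGA.IsEffCartier I) {F F' F'' : X.Modules} {r : ℕ}
    (hF : FlatMod.IsFinLocFreeOfRank r F) (𝓕 : ParSh.Str F) (h𝓕 : 𝓕.Along I) (hst : ParSh.IsParStable k X 𝓕 r)
    (i : F' ⟶ F) (p : F ⟶ F'') [Epi p] (𝓕' : ParSh.Str F') (𝓕'' : ParSh.Str F'')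
    (hext : ParSh.IsParExt i p 𝓕' 𝓕 𝓕'') (hF' : FlatMod.IsFinLocFree F') (hF'' : FlatMod.IsFinLocFree F'')
    (φ : F'' ⟶ F') (hφ : ParSh.IsParHom 𝓕'' 𝓕' φ) : φ = 0 := by
  obtain ⟨w, hS, rfl, rfl⟩ := hext
  haveI : Mono i := hS.mono_f
  haveI := CurveCohLib.isNoetherian_of_proper (k := k) (X := X)
  have hη := ParShLib.genericPoint_notMem_support I hD
  have hI := ArSurfX.isInvertible_idealMod hD
  have hFf := CurveStable.isFinLocFree_of_rank hF
  have hFc := CurveDeg.isCoh_of_isFinLocFree hFf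
  have hpc := isCoh_pieceX k hdim I hD hFf h𝓕
  have hψ : ParSh.IsParHom 𝓕 𝓕 (p ≫ φ ≫ i) := by
    intro a h0 h1
    have h := hφ a h0 h1
    rw [at_coinduced, at_induced] at h
    obtain ⟨g, hg⟩ := (Subobject.factors_iff _ _).1 h
    refine (Subobject.factors_iff _ _).2 ⟨factorThruImageSubobject ((𝓕.at a).arrow ≫ p) ≫ g ≫
      Subobject.pullbackπ i (𝓕.at a), ?_⟩
    have hg' : g ≫ ((Subobject.pullback i).obj (𝓕.at a)).arrow =
        (imageSubobject ((𝓕.at a).arrow ≫ p)).arrow ≫ φ := hg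
    show (_ ≫ _ ≫ _) ≫ (𝓕.at a).arrow = _
    rw [Category.assoc, Category.assoc, (Subobject.isPullback i (𝓕.at a)).w, reassoc_of% hg',
      ← Category.assoc, imageSubobject_arrow_comp, Category.assoc]
  by_contra hne
  have hne' : p ≫ φ ≫ i ≠ 0 := fun h => hne (by rwa [← cancel_epi p, ← cancel_mono i, comp_zero, zero_comp, Category.assoc])
  obtain ⟨V, π, j, hj, hfac, hKc, hVc, hπ, wK, hSK⟩ := CurveSlope.exists_factor hFc hFc (p ≫ φ ≫ i)
  haveI := hj
  haveI := hπ
  have hVf := CurveBundle.isFinLocFree_of_mono k hdim.le hVc j hFf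
  obtain ⟨C, V', pC, ι, u, w', hS', hV'f, hCf, hu, hum, -, -, hrV', -, -, -⟩ :=
    VBCurvesLib.exists_saturation k hdim hFf hVc j
  haveI : Mono ι := hS'.mono_f
  haveI := hum
  have hrV : 0 < CurveBundle.rk V := Nat.pos_of_ne_zero fun h0 =>
    hne' (by rw [← hfac, (CurveBundle.isZero_of_rk_zero hVf h0).eq_of_tgt π 0, zero_comp])
  have hrF' : 0 < CurveBundle.rk F' := Nat.pos_of_ne_zero fun h0 =>
    hne ((CurveBundle.isZero_of_rk_zero hF' h0).eq_of_tgt φ 0)
  have hrF : CurveBundle.rk F = r := CurveBundle.rk_eq hF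
  have hadd := CurveSlope.rk_add_coh k i p w hS hFc
  have hiπ : i ≫ π = 0 := by rw [← cancel_mono j, Category.assoc, hfac, reassoc_of% w, zero_comp, zero_comp]
  let π' : F'' ⟶ V := hS.exact.desc π hiπ
  have hπ' : p ≫ π' = π := hS.exact.g_desc π hiπ
  haveI : Epi (p ≫ π') := hπ'.symm ▸ hπ
  haveI : Epi π' := epi_of_epi p π'
  have hle := CurveSlope.rk_add_coh k _ _ _ (CurveSlope.shortExact_kernel_of_epi π')
    (CurveDeg.isCoh_of_isFinLocFree hF'')
  have hK := CurveSlope.rk_add_coh k _ _ wK hSK hFc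
  haveI : Mono (kernel.ι (p ≫ φ ≫ i)) := inferInstance
  have hKf := CurveBundle.isFinLocFree_of_mono k hdim.le hKc (kernel.ι (p ≫ φ ≫ i)) hFf
  have h1 := hst (kernel (p ≫ φ ≫ i)) (CurveBundle.rk (kernel (p ≫ φ ≫ i))) (kernel.ι _) inferInstance
    (by omega) (by omega) (CurveBundle.isFinLocFreeOfRank_rk hKf)
  have h2 := hst V' (CurveBundle.rk V) ι inferInstance hrV (by omega) (hrV' ▸ CurveBundle.isFinLocFreeOfRank_rk hV'f)
  have h3 : 𝓕.parDeg k X r = (𝓕.induced (kernel.ι (p ≫ φ ≫ i))).parDeg k X (CurveBundle.rk (kernel (p ≫ φ ≫ i))) +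
      (𝓕.coinduced π).parDeg k X (CurveBundle.rk V) :=
    parDeg_add k (S := ShortComplex.mk _ π wK) hSK hKc hFc hVc 𝓕 hpc (by omega)
  have h4 := parDeg_le_saturation k I hdim hI hη hFc hFf h𝓕 (isCoh_at k hdim I hD hFf h𝓕) h𝓕
    (isCoh_at k hdim I hD hFf h𝓕) π u ι (by rw [hu, hfac]; exact hψ)
    (CurveBundle.isFinLocFreeOfRank_rk hVf) (hrV' ▸ CurveBundle.isFinLocFreeOfRank_rk hV'f) w' hS' hCf
  have hr : (r : ℝ) = (CurveBundle.rk (kernel (p ≫ φ ≫ i)) : ℝ) + (CurveBundle.rk V : ℝ) := by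
    exact_mod_cast (show r = CurveBundle.rk (kernel (p ≫ φ ≫ i)) + CurveBundle.rk V by omega)
  have e1 := congrArg (fun t => 𝓕.parDeg k X r * t) hr
  have e2 := congrArg (fun t => t * (r : ℝ)) h3
  have e3 := mul_le_mul_of_nonneg_right h4 (Nat.cast_nonneg (α := ℝ) r)
  rw [add_mul] at e2
  rw [mul_add] at e1
  linarith

end Groth.Agent.StabH89
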