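import Groth.Prelude.Def_ParBun
import Mathlib.CategoryTheory.Abelian.Basic

/-!
# Real-indexed pieces of induced and coinduced parabolic structures
-/

set_option linter.unusedSectionVars false
set_option backward.isDefEq.respectTransparency false
set_option backward.isDefEq.respectTransparency.types false

universe u v

open CategoryTheory CategoryTheory.Limits

noncomputable section

namespace Groth.Agent.StabH89

/-! ### The filtration indexed by real numbers -/

section At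

variable {C : Type u} [Category.{v} C] [Abelian C] {E : C} (𝓔 : ParSh.Str E)

lemma at_cases (a : ℝ) : (∀ j, 𝓔.wt j < a) ∨ ∃ j, a ≤ 𝓔.wt j ∧ ∀ j' < j, 𝓔.wt j' < a := by
  classical
  by_cases h : ∀ j, 𝓔.wt j < a
  · exact Or.inl h
  · push Not at h
    obtain ⟨j0, hj0⟩ := h
    let S := Finset.univ.filter fun j => a ≤ 𝓔.wt j
    have hne : S.Nonempty := ⟨j0, by simp [S, hj0]⟩
    refine Or.inr ⟨S.min' hne, (Finset.mem_filter.1 (S.min'_mem hne)).2, fun j' hj' => lt_of_not_ge fun hle => ?_⟩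
    exact absurd (S.min'_le j' (by simp [S, hle])) (not_le.2 hj')

lemma at_eq_pieceX (a : ℝ) : ∃ j, 𝓔.at a = 𝓔.pieceX j := by
  rcases at_cases 𝓔 a with h | ⟨j, h, h'⟩
  · exact ⟨Fin.last _, by rw [𝓔.at_eq_bot h, 𝓔.pieceX_last]⟩
  · exact ⟨j.castSucc, by rw [𝓔.at_eq_piece j h h', 𝓔.pieceX_castSucc]⟩

lemma at_induced {F : C} (i : F ⟶ E) (a : ℝ) :
    (𝓔.induced i).at a = (Subobject.pullback i).obj (𝓔.at a) := by
  rcases at_cases 𝓔 a with h | ⟨j, h, h'⟩
  · rw [𝓔.at_eq_bot h, (𝓔.induced i).at_eq_bot h]; rfl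
  · rw [𝓔.at_eq_piece j h h', (𝓔.induced i).at_eq_piece j h h']; rfl

lemma at_coinduced {G : C} (p : E ⟶ G) [Epi p] (a : ℝ) :
    (𝓔.coinduced p).at a = imageSubobject ((𝓔.at a).arrow ≫ p) := by
  rcases at_cases 𝓔 a with h | ⟨j, h, h'⟩
  · rw [𝓔.at_eq_bot h, (𝓔.coinduced p).at_eq_bot h]; rfl
  · rw [𝓔.at_eq_piece j h h', (𝓔.coinduced p).at_eq_piece j h h']; rfl

lemma imageSubobject_epi_comp {A B P : C} (h : A ⟶ B) [Epi h] (f : B ⟶ P) :
    imageSubobject (h ≫ f) = imageSubobject f := by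
  let o := Subobject.ofLE _ _ (imageSubobject_comp_le h f)
  haveI : IsIso o := isIso_of_mono_of_epi o
  exact le_antisymm (imageSubobject_comp_le h f)
    (Subobject.le_of_comm (inv o) (by rw [IsIso.inv_comp_eq, Subobject.ofLE_arrow]))

/-- The induced map between the filtrations on the image and on its saturation. -/
lemma exists_at_map {V V' F : C} {q : E ⟶ V} [Epi q] {u : V ⟶ V'} [Mono u] {ι : V' ⟶ F} {𝓕 : ParSh.Str F}
    (hφ : ParSh.IsParHom 𝓔 𝓕 (q ≫ u ≫ ι)) (a : ℝ) (h0 : 0 ≤ a) (h1 : a ≤ 1) :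
    ∃ g : ((𝓔.coinduced q).at a : C) ⟶ ((𝓕.induced ι).at a : C),
      g ≫ ((𝓕.induced ι).at a).arrow = ((𝓔.coinduced q).at a).arrow ≫ u := by
  rw [at_coinduced, at_induced]
  set S := imageSubobject ((𝓔.at a).arrow ≫ q)
  set e := factorThruImageSubobject ((𝓔.at a).arrow ≫ q)
  obtain ⟨g0, hg0⟩ := (Subobject.factors_iff _ _).1 (hφ a h0 h1)
  haveI : StrongEpi e := strongEpi_of_epi e
  have sq : CommSq g0 e (𝓕.at a).arrow (S.arrow ≫ u ≫ ι) := ⟨by
    rw [← Category.assoc e, imageSubobject_arrow_comp, Category.assoc]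
    exact hg0⟩
  refine ⟨(Subobject.isPullback ι (𝓕.at a)).lift sq.lift (S.arrow ≫ u) (by rw [sq.fac_right, Category.assoc]),
    IsPullback.lift_snd _ _ _ _⟩

end At

end Groth.Agent.StabH89
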