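import Groth.Agent.StabH89.ParModOne
import Groth.Agent.StabH89.ParAt
import Groth.Agent.ParShLib.Additive
import Groth.Agent.QCoh.Support

/-!
# Kernel and image of a parabolic homomorphism between semistable parabolic sheaves
-/

set_option linter.style.haveILetI false
set_option linter.unusedSectionVars false
set_option maxHeartbeats 800000
set_option backward.isDefEq.respectTransparency false
set_option backward.isDefEq.respectTransparency.types false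

universe u v

open CategoryTheory CategoryTheory.Limits AlgebraicGeometry Polynomial StabCat TopologicalSpace

noncomputable section

namespace Groth.Agent.StabH89

open Groth.Agent Groth.Agent.HilbPoly W4swparbununimod

section Index

variable {C : Type u} [Category.{v} C] [Abelian C] {E : C} (𝓔 : ParSh.Str E)

lemma wtX_nonneg (j : Fin (𝓔.l + 2)) : 0 ≤ 𝓔.wtX j ∧ 𝓔.wtX j ≤ 1 := by
  induction j using Fin.lastCases with
  | last => rw [𝓔.wtX_last]; exact ⟨zero_le_one, le_rfl⟩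
  | cast j =>
    rw [𝓔.wtX_castSucc]
    exact ⟨𝓔.wt_nonneg.trans (𝓔.wt_strictMono.monotone (Fin.zero_le j)),
      (𝓔.wt_strictMono.monotone (Fin.le_last j)).trans 𝓔.wt_lt_one.le⟩

lemma at_wtX (j : Fin (𝓔.l + 2)) : 𝓔.at (𝓔.wtX j) = 𝓔.pieceX j := by
  induction j using Fin.lastCases with
  | last =>
    rw [𝓔.wtX_last, 𝓔.pieceX_last]
    exact 𝓔.at_eq_bot fun j => (𝓔.wt_strictMono.monotone (Fin.le_last j)).trans_lt 𝓔.wt_lt_one
  | cast j =>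
    rw [𝓔.wtX_castSucc, 𝓔.pieceX_castSucc]
    exact 𝓔.at_eq_piece j le_rfl fun j' h => 𝓔.wt_strictMono h

lemma wt_step_pos (j : Fin (𝓔.l + 1)) : 0 < 𝓔.wtX j.succ - 𝓔.wtX j.castSucc := by
  rw [𝓔.wtX_castSucc]
  induction j using Fin.lastCases with
  | last =>
    rw [Fin.succ_last, 𝓔.wtX_last]
    have := 𝓔.wt_lt_one
    linarith
  | cast i =>
    rw [Fin.succ_castSucc, 𝓔.wtX_castSucc]
    have := 𝓔.wt_strictMono (Fin.castSucc_lt_succ (i := i))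
    linarith

lemma pieceX_zero : 𝓔.pieceX 0 = ⊤ := (𝓔.pieceX_castSucc 0).trans 𝓔.piece_zero

lemma pieceX_coinduced {G : C} (p : E ⟶ G) [Epi p] (j : Fin (𝓔.l + 2)) :
    (𝓔.coinduced p).pieceX j = imageSubobject ((𝓔.pieceX j).arrow ≫ p) := by
  induction j using Fin.lastCases with
  | last => rw [𝓔.pieceX_last]; exact (𝓔.coinduced p).pieceX_last
  | cast j => rw [𝓔.pieceX_castSucc]; exact (𝓔.coinduced p).pieceX_castSucc j

lemma pieceX_induced {F : C} (i : F ⟶ E) (j : Fin (𝓔.l + 2)) :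
    (𝓔.induced i).pieceX j = (Subobject.pullback i).obj (𝓔.pieceX j) := by
  induction j using Fin.lastCases with
  | last => rw [𝓔.pieceX_last]; exact (𝓔.induced i).pieceX_last
  | cast j => rw [𝓔.pieceX_castSucc]; exact (𝓔.induced i).pieceX_castSucc j

/-- The image of a piece lies in the induced piece when the weights agree. -/
lemma pieceX_le {F V : C} {piece : Fin (𝓔.l + 1) → Subobject F} {bot : Subobject F} {h₁ h₂ h₃ h₄ h₅ h₆}
    (q : E ⟶ V) [Epi q] (u : V ⟶ F) [Mono u]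
    (hf : ParSh.IsParHom 𝓔 (⟨𝓔.l, piece, bot, 𝓔.wt, h₁, h₂, h₃, h₄, h₅, h₆⟩ : ParSh.Str F) (q ≫ u))
    (j : Fin (𝓔.l + 2)) :
    (𝓔.coinduced q).pieceX j ≤
      ((⟨𝓔.l, piece, bot, 𝓔.wt, h₁, h₂, h₃, h₄, h₅, h₆⟩ : ParSh.Str F).induced u).pieceX j := by
  obtain ⟨g, hg⟩ := exists_at_map 𝓔 (V' := V) (u := 𝟙 V) (ι := u) (q := q)
    (𝓕 := ⟨𝓔.l, piece, bot, 𝓔.wt, h₁, h₂, h₃, h₄, h₅, h₆⟩) (by simpa using hf) _
    (wtX_nonneg 𝓔 j).1 (wtX_nonneg 𝓔 j).2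
  rw [Category.comp_id] at hg
  have h := Subobject.le_of_comm g hg
  rw [show 𝓔.wtX j = (𝓔.coinduced q).wtX j from rfl, at_wtX (𝓔.coinduced q) j] at h
  rw [show (𝓔.coinduced q).wtX j =
      (((⟨𝓔.l, piece, bot, 𝓔.wt, h₁, h₂, h₃, h₄, h₅, h₆⟩ : ParSh.Str F)).induced u).wtX j from rfl,
    at_wtX (((⟨𝓔.l, piece, bot, 𝓔.wt, h₁, h₂, h₃, h₄, h₅, h₆⟩ : ParSh.Str F)).induced u) j] at h
  exact h

end Index

lemma eq_of_eventually_eval {P Q : ℚ[X]} (h : ∃ N : ℕ, ∀ m : ℕ, N ≤ m → P.eval (m : ℚ) = Q.eval (m : ℚ)) : P = Q := by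
  obtain ⟨N, hN⟩ := h
  refine Polynomial.eq_of_infinite_eval_eq P Q (Set.Infinite.mono ?_
    ((Set.Ici_infinite N).image Nat.cast_injective.injOn))
  rintro _ ⟨m, hm, rfl⟩
  exact hN m hm

lemma real_eq_of_eventually {P Q : ℝ[X]} (h : ∃ N : ℕ, ∀ m : ℕ, N ≤ m → P.eval (m : ℝ) = Q.eval (m : ℝ)) : P = Q := by
  obtain ⟨N, hN⟩ := h
  refine Polynomial.eq_of_infinite_eval_eq P Q (Set.Infinite.mono ?_
    ((Set.Ici_infinite N).image Nat.cast_injective.injOn))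
  rintro _ ⟨m, hm, rfl⟩
  exact hN m hm

lemma eval_parPoly' {C : Type u} [Category C] {E : C} (𝓔 : ParSh.Str E) (P : ℚ[X])
    (PX : Fin (𝓔.l + 2) → ℚ[X]) (h0 : PX 0 = P) (m : ℕ) :
    (parPoly 𝓔 PX).eval (m : ℝ) = 𝓔.wt 0 * ((P.eval (m : ℚ) : ℚ) : ℝ) +
      ∑ j : Fin (𝓔.l + 1), (𝓔.wtX j.succ - 𝓔.wtX j.castSucc) * (((PX j.succ).eval (m : ℚ) : ℚ) : ℝ) := by
  rw [eval_parPoly 𝓔 P PX h0 m]
  simp only [Polynomial.eval_sub, Rat.cast_sub, mul_sub, Finset.sum_sub_distrib, ← Finset.sum_mul]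
  rw [← Finset.sum_sub_distrib, sum_wt_step 𝓔]
  ring

variable {X : Scheme.{u}} (k : Type u) [Field k] [X.Over (Spec (CommRingCat.of k))]
  [IsProper (X ↘ Spec (CommRingCat.of k))] {L : X.Modules}

include k in
lemma isCoh_image {E F : X.Modules} (hE : Coh.IsCoh E) (hF : Coh.IsCoh F) {V : X.Modules} (q : E ⟶ V) [Epi q]
    (u : V ⟶ F) [Mono u] : Coh.IsCoh V ∧ Coh.IsCoh (kernel (q ≫ u)) := by
  haveI := CurveCohLib.isNoetherian_of_proper (k := k) (X := X)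
  have hk := QCoh.isCoh_kernel hE hF (q ≫ u)
  have hk' : Coh.IsCoh (kernel q) := ParShLib.isCoh_ofIso (kernelCompMono q u) hk
  exact ⟨ParShLib.isCoh_ofIso (IsColimit.coconePointUniqueUpToIso (cokernelIsCokernel _)
    (Abelian.epiIsCokernelOfKernel _ (limit.isLimit _))) (QCoh.isCoh_cokernel hk'.1 hE (kernel.ι q)), hk⟩

lemma hilb_split (hL : PicF.IsInvertible L) {S : ShortComplex X.Modules} (hS : S.ShortExact)
    (h1 : Coh.IsCoh S.X₁) (h2 : Coh.IsCoh S.X₂) (h3 : Coh.IsCoh S.X₃) {P1 P2 P3 : ℚ[X]}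
    (hP1 : ShStab.IsHilbPoly k X L S.X₁ P1) (hP2 : ShStab.IsHilbPoly k X L S.X₂ P2)
    (hP3 : ShStab.IsHilbPoly k X L S.X₃ P3) : P2 = P1 + P3 := by
  refine ParShLib.eq_of_eval_nat fun m => ?_
  rw [Polynomial.eval_add, ← hP1 m, ← hP2 m, ← hP3 m, ParShLib.euler_twist_add k hS h1 h2 h3 hL m]
  push_cast
  rfl

/-- Two nested submodules with the same Hilbert polynomial are equal. -/
lemma eq_of_le_of_hilb (hL : CohB1.IsAmple L) {V : X.Modules} {S T : Subobject V} (h : S ≤ T)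
    (hS : Coh.IsCoh (S : X.Modules)) (hT : Coh.IsCoh (T : X.Modules)) {P : ℚ[X]}
    (hPS : ShStab.IsHilbPoly k X L (S : X.Modules) P) (hPT : ShStab.IsHilbPoly k X L (T : X.Modules) P) : S = T := by
  haveI := CurveCohLib.isNoetherian_of_proper (k := k) (X := X)
  obtain ⟨n, hn⟩ := exists_dim_bound X k
  obtain ⟨hQ, hdQ, hpQ⟩ := cokernel_data (k := k) hL hS hT (hn _) (Subobject.ofLE S T h) hPS hPT
  have hz : IsZero (cokernel (Subobject.ofLE S T h)) := by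
    by_contra hne
    obtain ⟨N, hN⟩ := hilb_eventually_pos hL hQ hne hdQ hpQ
    have := hN N le_rfl
    simp at this
  haveI : Epi (Subobject.ofLE S T h) := Preadditive.epi_of_isZero_cokernel _ hz
  haveI := isIso_of_mono_of_epi (Subobject.ofLE S T h)
  exact le_antisymm h (Subobject.le_of_comm (inv (Subobject.ofLE S T h))
    (by rw [IsIso.inv_comp_eq, Subobject.ofLE_arrow]))

theorem kerIm (hL : CohB1.IsAmple L) {d : ℕ} {E F : X.Modules} (hE : Coh.IsCoh E) (hF : Coh.IsCoh F)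
    (hE0 : ¬ IsZero E) (hF0 : ¬ IsZero F) (hEp : ShStab.IsPure X E d) (hFp : ShStab.IsPure X F d)
    (𝓔 : ParSh.Str E) (𝓕 : ParSh.Str F)
    (hcE : ∀ j, Coh.IsCoh ((𝓔.pieceX j : Subobject E) : X.Modules))
    (hcF : ∀ j, Coh.IsCoh ((𝓕.pieceX j : Subobject F) : X.Modules))
    (hw : Set.range 𝓕.wt = Set.range 𝓔.wt) (hw0 : 0 < 𝓔.wt 0)
    {P R : ℚ[X]} (hP : ShStab.IsHilbPoly k X L E P) (hR : ShStab.IsHilbPoly k X L F R)
    {PX : Fin (𝓔.l + 2) → ℚ[X]} (hPX : ∀ j, ShStab.IsHilbPoly k X L ((𝓔.pieceX j : Subobject E) : X.Modules) (PX j))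
    {RX : Fin (𝓕.l + 2) → ℚ[X]} (hRX : ∀ j, ShStab.IsHilbPoly k X L ((𝓕.pieceX j : Subobject F) : X.Modules) (RX j))
    (hssE : (∀ (W : X.Modules) (ι : W ⟶ E), Mono ι → Coh.IsCoh W → ¬ IsZero W → ShStab.IsPure X (cokernel ι) d →
        ∀ (Q : ℚ[X]) (QX : Fin (𝓔.l + 2) → ℚ[X]), ShStab.IsHilbPoly k X L W Q →
          (∀ j, ShStab.IsHilbPoly k X L (((𝓔.induced ι).pieceX j : Subobject W) : X.Modules) (QX j)) →
          ∃ M : ℕ, ∀ m : ℕ, M ≤ m →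
            (parPoly (𝓔.induced ι) QX).eval (m : ℝ) * (StabCat.alpha d P : ℝ) ≤
              (parPoly 𝓔 PX).eval (m : ℝ) * (StabCat.alpha d Q : ℝ)))
    (hssF : (∀ (W : X.Modules) (ι : W ⟶ F), Mono ι → Coh.IsCoh W → ¬ IsZero W → ShStab.IsPure X (cokernel ι) d →
        ∀ (Q : ℚ[X]) (QX : Fin (𝓕.l + 2) → ℚ[X]), ShStab.IsHilbPoly k X L W Q →
          (∀ j, ShStab.IsHilbPoly k X L (((𝓕.induced ι).pieceX j : Subobject W) : X.Modules) (QX j)) →
          ∃ M : ℕ, ∀ m : ℕ, M ≤ m →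
            (parPoly (𝓕.induced ι) QX).eval (m : ℝ) * (StabCat.alpha d R : ℝ) ≤
              (parPoly 𝓕 RX).eval (m : ℝ) * (StabCat.alpha d Q : ℝ)))
    (hred : parPoly 𝓔 PX * Polynomial.C (StabCat.alpha d R : ℝ) = parPoly 𝓕 RX * Polynomial.C (StabCat.alpha d P : ℝ))
    (f : E ⟶ F) (hf : ParSh.IsParHom 𝓔 𝓕 f)
    {K V : X.Modules} (j : K ⟶ E) [Mono j] (w : j ≫ f = 0) (hex : (ShortComplex.mk j f w).Exact)
    (q : E ⟶ V) [Epi q] (u : V ⟶ F) [Mono u] (hqu : q ≫ u = f) :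
    (∀ (QK : ℚ[X]) (QKX : Fin (𝓔.l + 2) → ℚ[X]), ShStab.IsHilbPoly k X L K QK →
        (∀ j', ShStab.IsHilbPoly k X L (((𝓔.induced j).pieceX j' : Subobject K) : X.Modules) (QKX j')) →
        parPoly (𝓔.induced j) QKX * Polynomial.C (StabCat.alpha d P : ℝ) =
          parPoly 𝓔 PX * Polynomial.C (StabCat.alpha d QK : ℝ)) ∧
    ShStab.IsPure X (cokernel u) d ∧
    (∀ a : ℝ, 0 ≤ a → a ≤ 1 → (𝓔.coinduced q).at a = (𝓕.induced u).at a) := by
  haveI := CurveCohLib.isNoetherian_of_proper (k := k) (X := X)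
  obtain ⟨l', piece, bot, wt', h₁, h₂, h₃, h₄, h₅, h₆⟩ := 𝓕
  obtain rfl : l' = 𝓔.l := by
    have h := congrArg Nat.card (show (Set.range wt' : Type) = (Set.range 𝓔.wt : Type) by
      exact congrArg (fun s : Set ℝ => (s : Type)) hw)
    rw [Nat.card_range_of_injective h₄.injective, Nat.card_range_of_injective 𝓔.wt_strictMono.injective,
      Nat.card_eq_fintype_card, Nat.card_eq_fintype_card, Fintype.card_fin, Fintype.card_fin] at h
    omega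
  obtain rfl : wt' = 𝓔.wt := (StrictMono.range_inj h₄ 𝓔.wt_strictMono).1 hw
  subst hqu
  have hjq : j ≫ q = 0 := by rw [← cancel_mono u, Limits.zero_comp, Category.assoc, w]
  have hS : (ShortComplex.mk j q hjq).ShortExact :=
    { exact := ShortComplex.exact_of_f_is_kernel _ (KernelFork.IsLimit.ofι' _ _ fun {T} t ht =>
        ⟨hex.lift t (show t ≫ q ≫ u = 0 by rw [reassoc_of% ht, Limits.zero_comp]), hex.lift_f t _⟩) }
  obtain ⟨hV, hker⟩ := isCoh_image k hE hF q u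
  have hK : Coh.IsCoh K :=
    ParShLib.isCoh_ofIso (IsLimit.conePointUniqueUpToIso (kernelIsKernel _) hex.fIsKernel) hker
  have hdE := hEp E (𝟙 E) inferInstance hE hE0
  have hdF := hFp F (𝟙 F) inferInstance hF hF0
  have hcK := fun i => ParShLib.isCoh_induced hE hK 𝓔 j hcE i
  have hcV : ∀ i, Coh.IsCoh (((𝓔.coinduced q).pieceX i : Subobject V) : X.Modules) := fun i => by
    rw [pieceX_coinduced]
    obtain ⟨w', hT⟩ := ParShLib.shortExact_pullback_image hS (𝓔.pieceX i)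
    exact (ParShLib.isCoh_parts _ ((𝓔.pieceX i).arrow ≫ q) (hcE i) hV w' hT).2
  have hcV' : ∀ i, Coh.IsCoh ((((⟨𝓔.l, piece, bot, 𝓔.wt, h₁, h₂, h₃, h₄, h₅, h₆⟩ : ParSh.Str F).induced u).pieceX i : Subobject V) : X.Modules) :=
    fun i => ParShLib.isCoh_induced hF hV (⟨𝓔.l, piece, bot, 𝓔.wt, h₁, h₂, h₃, h₄, h₅, h₆⟩ : ParSh.Str F) u hcF i
  obtain ⟨QV, hQV⟩ := exists_hilb_any k hL.1 hV
  obtain ⟨QK, hQK⟩ := exists_hilb_any k hL.1 hK
  choose QKX hQKX using fun i => exists_hilb_any k hL.1 (hcK i)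
  choose C hC using fun i => exists_hilb_any k hL.1 (hcV i)
  choose D hD using fun i => exists_hilb_any k hL.1 (hcV' i)
  have hQ : P = QK + QV := hilb_split k hL.1 hS hK hE hV hQK hP hQV
  have hPi : ∀ i, PX i = QKX i + C i := fun i => by
    refine ParShLib.eq_of_eval_nat fun m => ?_
    have h := ParShLib.euler_piece k hS hV hL.1 (𝓔.pieceX i) (hcE i) m
    have hk := hQKX i m
    have hc := hC i m
    rw [pieceX_induced] at hk
    rw [pieceX_coinduced] at hc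
    rw [Polynomial.eval_add, ← hPX i m, ← hk, ← hc, h]
    push_cast
    rfl
  have hC0 := ParShLib.hilb_zero k hL (𝓔.coinduced q) hQV hC
  have hD0 := ParShLib.hilb_zero k hL ((⟨𝓔.l, piece, bot, 𝓔.wt, h₁, h₂, h₃, h₄, h₅, h₆⟩ : ParSh.Str F).induced u) hQV hD
  have hK0 := ParShLib.hilb_zero k hL (𝓔.induced j) hQK hQKX
  have hP0 := ParShLib.hilb_zero k hL 𝓔 hP hPX
  have hle : ∀ i, (𝓔.coinduced q).pieceX i ≤ ((⟨𝓔.l, piece, bot, 𝓔.wt, h₁, h₂, h₃, h₄, h₅, h₆⟩ : ParSh.Str F).induced u).pieceX i := pieceX_le 𝓔 q u hf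
  have hCD : ∀ i, PolyLE (C i) (D i) := fun i =>
    (polyLE_of_mono (d := 0) hL (hcV i) (hcV' i) (Subobject.ofLE _ _ (hle i)) (hC i) (hD i)).1
  have hsum : ∀ m : ℕ, (parPoly 𝓔 PX).eval (m : ℝ) =
      (parPoly (𝓔.induced j) QKX).eval (m : ℝ) + (parPoly (𝓔.coinduced q) C).eval (m : ℝ) := by
    intro m
    rw [eval_parPoly' 𝓔 P PX hP0, eval_parPoly' (𝓔.induced j) QK QKX hK0, eval_parPoly' (𝓔.coinduced q) QV C hC0]
    show _ = 𝓔.wt 0 * _ + ∑ i : Fin (𝓔.l + 1), (𝓔.wtX i.succ - 𝓔.wtX i.castSucc) * _ +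
      (𝓔.wt 0 * _ + ∑ i : Fin (𝓔.l + 1), (𝓔.wtX i.succ - 𝓔.wtX i.castSucc) * _)
    simp only [hQ, hPi, Polynomial.eval_add, Rat.cast_add, mul_add, Finset.sum_add_distrib]
    ring
  have hαP : (0 : ℝ) < (alpha d P : ℝ) := Rat.cast_pos.2 (HilbPoly.alpha_pos (k := k) hL hE hdE hP)
  have hαR : (0 : ℝ) < (alpha d R : ℝ) := Rat.cast_pos.2 (HilbPoly.alpha_pos (k := k) hL hF hdF hR)
  have hαQ : (alpha d P : ℝ) = (alpha d QK : ℝ) + (alpha d QV : ℝ) := by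
    rw [hQ]
    simp only [alpha, Polynomial.coeff_add]
    push_cast
    ring
  have hred' : ∀ m : ℕ, (parPoly 𝓔 PX).eval (m : ℝ) * (alpha d R : ℝ) =
      (parPoly (⟨𝓔.l, piece, bot, 𝓔.wt, h₁, h₂, h₃, h₄, h₅, h₆⟩ : ParSh.Str F) RX).eval (m : ℝ) * (alpha d P : ℝ) := fun m => by
    simpa using congrArg (Polynomial.eval (m : ℝ)) hred
  have hKle : ∃ M : ℕ, ∀ m : ℕ, M ≤ m →
      (parPoly (𝓔.induced j) QKX).eval (m : ℝ) * (alpha d P : ℝ) ≤
        (parPoly 𝓔 PX).eval (m : ℝ) * (alpha d QK : ℝ) := by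
    by_cases hz : IsZero K
    · obtain rfl : QK = 0 := isHilbPoly_unique hQK (hilb_isZero hz)
      have hz' : ∀ i, QKX i = 0 := fun i => isHilbPoly_unique (hQKX i)
        (hilb_isZero (IsZero.of_mono ((𝓔.induced j).pieceX i).arrow hz))
      refine ⟨0, fun m _ => ?_⟩
      rw [eval_parPoly' (𝓔.induced j) 0 QKX hK0]
      simp [hz', alpha]
    · have e : cokernel j ≅ V :=
        IsColimit.coconePointUniqueUpToIso (cokernelIsCokernel _) hS.gIsCokernel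
      haveI : Mono (e.hom ≫ u) := mono_comp _ _
      exact hssE K j inferInstance hK hz (fun G g hg hG hG0 => hFp G (g ≫ e.hom ≫ u)
        (haveI := hg; mono_comp _ _) hG hG0) QK QKX hQK hQKX
  -- the saturation of the image
  have key : ShStab.IsPure X (cokernel u) d ∧ ∀ i, C i = D i := by
    by_cases hV0 : IsZero V
    · refine ⟨?_, fun i => ?_⟩
      · obtain rfl : u = 0 := hV0.eq_of_src _ _
        exact fun G g hg hG hG0 => hFp G (g ≫ cokernelZeroIsoTarget.hom) (haveI := hg; mono_comp _ _) hG hG0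
      · rw [isHilbPoly_unique (hC i) (hilb_isZero (IsZero.of_mono ((𝓔.coinduced q).pieceX i).arrow hV0)),
          isHilbPoly_unique (hD i) (hilb_isZero (IsZero.of_mono (((⟨𝓔.l, piece, bot, 𝓔.wt, h₁, h₂, h₃, h₄, h₅, h₆⟩ : ParSh.Str F).induced u).pieceX i).arrow hV0))]
    obtain ⟨V', u', l, hu', hl, hV', hsat, hα⟩ := HilbPoly.exists_saturation (k := k) hL hF hdF.le u hV hQV
    haveI := hu'
    subst hl
    haveI : Mono l := mono_of_mono l u'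
    obtain ⟨Q', hQ'⟩ := exists_hilb_any k hL.1 hV'
    choose D' hD' using fun i => exists_hilb_any k hL.1 (ParShLib.isCoh_induced hF hV' (⟨𝓔.l, piece, bot, 𝓔.wt, h₁, h₂, h₃, h₄, h₅, h₆⟩ : ParSh.Str F) u' hcF i)
    have hD'0 := ParShLib.hilb_zero k hL ((⟨𝓔.l, piece, bot, 𝓔.wt, h₁, h₂, h₃, h₄, h₅, h₆⟩ : ParSh.Str F).induced u') hQ' hD'
    have hQQ : PolyLE QV Q' := (polyLE_of_mono (d := 0) hL hV hV' l hQV hQ').1
    have hDD : ∀ i, PolyLE (D i) (D' i) := fun i => by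
      obtain ⟨g, hg⟩ := piece_mono_map (⟨𝓔.l, piece, bot, 𝓔.wt, h₁, h₂, h₃, h₄, h₅, h₆⟩ : ParSh.Str F) u' l i
      haveI := hg
      exact (polyLE_of_mono (d := 0) hL (hcV' i) (ParShLib.isCoh_induced hF hV' (⟨𝓔.l, piece, bot, 𝓔.wt, h₁, h₂, h₃, h₄, h₅, h₆⟩ : ParSh.Str F) u' hcF i) g (hD i) (hD' i)).1
    obtain ⟨M₁, hM₁⟩ := hKle
    obtain ⟨M₂, hM₂⟩ := hssF V' u' hu' hV' (fun hz => hV0 (IsZero.of_mono l hz)) hsat Q' D' hQ' hD'
    rw [(hα Q' hQ').1] at hM₂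
    obtain ⟨N₀, hN₀⟩ := hQQ
    choose N₁ hN₁ using hCD
    choose N₂ hN₂ using hDD
    let M := max (max M₁ M₂) (max N₀ (max (Finset.univ.sup N₁) (Finset.univ.sup N₂)))
    have hall : ∀ m : ℕ, M ≤ m → QV.eval (m : ℚ) = Q'.eval (m : ℚ) ∧
        ∀ i : Fin (𝓔.l + 1), (C i.succ).eval (m : ℚ) = (D i.succ).eval (m : ℚ) := by
      intro m hm
      have hm₁ : M₁ ≤ m ∧ M₂ ≤ m ∧ N₀ ≤ m ∧ Finset.univ.sup N₁ ≤ m ∧ Finset.univ.sup N₂ ≤ m := by
        simp only [M, max_le_iff] at hm; tauto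
      have a1 := hM₁ m hm₁.1
      have a2 := hM₂ m hm₁.2.1
      have a3 := hsum m
      have a4 := hred' m
      set cE := (parPoly 𝓔 PX).eval (m : ℝ)
      set cC := (parPoly (𝓔.coinduced q) C).eval (m : ℝ) with hcC
      set cD' := (parPoly ((⟨𝓔.l, piece, bot, 𝓔.wt, h₁, h₂, h₃, h₄, h₅, h₆⟩ : ParSh.Str F).induced u') D').eval (m : ℝ) with hcD'
      have b1 : cE * (alpha d QV : ℝ) ≤ cC * (alpha d P : ℝ) := by
        have : cE * (alpha d P : ℝ) = cE * (alpha d QK : ℝ) + cE * (alpha d QV : ℝ) := by rw [hαQ]; ring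
        nlinarith
      have b2 : cD' * ((alpha d R : ℝ) * (alpha d P : ℝ)) ≤ cC * ((alpha d R : ℝ) * (alpha d P : ℝ)) :=
        calc cD' * ((alpha d R : ℝ) * (alpha d P : ℝ)) = cD' * (alpha d R : ℝ) * (alpha d P : ℝ) := by ring
          _ ≤ (parPoly (⟨𝓔.l, piece, bot, 𝓔.wt, h₁, h₂, h₃, h₄, h₅, h₆⟩ : ParSh.Str F) RX).eval (m : ℝ) * (alpha d QV : ℝ) * (alpha d P : ℝ) :=
            mul_le_mul_of_nonneg_right a2 hαP.le
          _ = cE * (alpha d QV : ℝ) * (alpha d R : ℝ) := by rw [mul_right_comm _ (alpha d QV : ℝ), ← a4]; ring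
          _ ≤ cC * (alpha d P : ℝ) * (alpha d R : ℝ) := mul_le_mul_of_nonneg_right b1 hαR.le
          _ = cC * ((alpha d R : ℝ) * (alpha d P : ℝ)) := by ring
      have b3 : cD' ≤ cC := le_of_mul_le_mul_right b2 (mul_pos hαR hαP)
      rw [hcC, hcD', eval_parPoly' (𝓔.coinduced q) QV C hC0, eval_parPoly' ((⟨𝓔.l, piece, bot, 𝓔.wt, h₁, h₂, h₃, h₄, h₅, h₆⟩ : ParSh.Str F).induced u') Q' D' hD'0] at b3
      change 𝓔.wt 0 * _ + ∑ i : Fin (𝓔.l + 1), (𝓔.wtX i.succ - 𝓔.wtX i.castSucc) * _ ≤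
        𝓔.wt 0 * _ + ∑ i : Fin (𝓔.l + 1), (𝓔.wtX i.succ - 𝓔.wtX i.castSucc) * _ at b3
      have c0 : ((QV.eval (m : ℚ) : ℚ) : ℝ) ≤ ((Q'.eval (m : ℚ) : ℚ) : ℝ) := Rat.cast_le.2 (hN₀ m hm₁.2.2.1)
      have c1 : ∀ i : Fin (𝓔.l + 1), (((C i.succ).eval (m : ℚ) : ℚ) : ℝ) ≤ (((D i.succ).eval (m : ℚ) : ℚ) : ℝ) := fun i =>
        Rat.cast_le.2 (hN₁ _ m ((Finset.le_sup (Finset.mem_univ i.succ)).trans hm₁.2.2.2.1))
      have c2 : ∀ i : Fin (𝓔.l + 1), (((D i.succ).eval (m : ℚ) : ℚ) : ℝ) ≤ (((D' i.succ).eval (m : ℚ) : ℚ) : ℝ) := fun i =>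
        Rat.cast_le.2 (hN₂ _ m ((Finset.le_sup (f := N₂) (Finset.mem_univ i.succ)).trans hm₁.2.2.2.2))
      have d1 := mul_le_mul_of_nonneg_left c0 hw0.le
      have d2 : ∀ i : Fin (𝓔.l + 1), (𝓔.wtX i.succ - 𝓔.wtX i.castSucc) * (((C i.succ).eval (m : ℚ) : ℚ) : ℝ) ≤
          (𝓔.wtX i.succ - 𝓔.wtX i.castSucc) * (((D' i.succ).eval (m : ℚ) : ℚ) : ℝ) := fun i =>
        mul_le_mul_of_nonneg_left ((c1 i).trans (c2 i)) (wt_step_pos 𝓔 i).le
      have d3 := Finset.sum_le_sum fun i (_ : i ∈ Finset.univ) => d2 i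
      refine ⟨?_, fun i => ?_⟩
      · have : ((QV.eval (m : ℚ) : ℚ) : ℝ) = ((Q'.eval (m : ℚ) : ℚ) : ℝ) := mul_left_cancel₀ hw0.ne' (by linarith)
        exact_mod_cast this
      · have e := (Finset.sum_eq_sum_iff_of_le fun i (_ : i ∈ Finset.univ) => d2 i).1 (by linarith) i (Finset.mem_univ i)
        have := mul_left_cancel₀ (wt_step_pos 𝓔 i).ne' e
        have := c1 i
        have := c2 i
        exact_mod_cast (show (((C i.succ).eval (m : ℚ) : ℚ) : ℝ) = (((D i.succ).eval (m : ℚ) : ℚ) : ℝ) by linarith)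
    have hQeq : QV = Q' := eq_of_eventually_eval ⟨M, fun m hm => (hall m hm).1⟩
    refine ⟨?_, fun i => ?_⟩
    · rcases (hα Q' hQ').2.2 with hi | hlt
      · haveI := hi
        exact fun G g hg hG hG0 => hsat G (g ≫ (cokernelEpiComp l u').hom) (haveI := hg; mono_comp _ _) hG hG0
      · obtain ⟨N, hN⟩ := hlt
        have := hN N le_rfl
        rw [hQeq] at this
        exact absurd this (lt_irrefl _)
    · induction i using Fin.cases with
      | zero => rw [hC0, hD0]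
      | succ i => exact eq_of_eventually_eval ⟨M, fun m hm => (hall m hm).2 i⟩
  refine ⟨fun QK' QKX' hQK' hQKX' => ?_, key.1, fun a h0 h1 => ?_⟩
  · rw [show QKX' = QKX from funext fun i => isHilbPoly_unique (hQKX' i) (hQKX i), isHilbPoly_unique hQK' hQK]
    refine real_eq_of_eventually ?_
    obtain ⟨M₁, hM₁⟩ := hKle
    -- the reverse inequality comes from the semistability of the target
    by_cases hV0 : IsZero V
    · refine ⟨0, fun m _ => ?_⟩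
      have hz : ∀ i, C i = 0 := fun i => isHilbPoly_unique (hC i)
        (hilb_isZero (IsZero.of_mono ((𝓔.coinduced q).pieceX i).arrow hV0))
      obtain rfl : QV = 0 := isHilbPoly_unique hQV (hilb_isZero hV0)
      have a3 := hsum m
      rw [eval_parPoly' (𝓔.coinduced q) 0 C hC0] at a3
      simp [hz] at a3
      simp only [Polynomial.eval_mul, Polynomial.eval_C]
      rw [a3, hαQ]
      simp [alpha]
    obtain ⟨M₂, hM₂⟩ := hssF V u inferInstance hV hV0 key.1 QV D hQV hD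
    refine ⟨max M₁ M₂, fun m hm => ?_⟩
    have a1 := hM₁ m (le_of_max_le_left hm)
    have a2 := hM₂ m (le_of_max_le_right hm)
    have a3 := hsum m
    have a4 := hred' m
    have a5 : (parPoly (𝓔.coinduced q) C).eval (m : ℝ) = (parPoly ((⟨𝓔.l, piece, bot, 𝓔.wt, h₁, h₂, h₃, h₄, h₅, h₆⟩ : ParSh.Str F).induced u) D).eval (m : ℝ) := by
      rw [eval_parPoly' (𝓔.coinduced q) QV C hC0, eval_parPoly' ((⟨𝓔.l, piece, bot, 𝓔.wt, h₁, h₂, h₃, h₄, h₅, h₆⟩ : ParSh.Str F).induced u) QV D hD0]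
      show 𝓔.wt 0 * _ + ∑ i : Fin (𝓔.l + 1), (𝓔.wtX i.succ - 𝓔.wtX i.castSucc) * _ =
        𝓔.wt 0 * _ + ∑ i : Fin (𝓔.l + 1), (𝓔.wtX i.succ - 𝓔.wtX i.castSucc) * _
      rw [show C = D from funext key.2]
    simp only [Polynomial.eval_mul, Polynomial.eval_C]
    rw [← a5] at a2
    set cE := (parPoly 𝓔 PX).eval (m : ℝ)
    set cC := (parPoly (𝓔.coinduced q) C).eval (m : ℝ)
    have b : cC * (alpha d P : ℝ) ≤ cE * (alpha d QV : ℝ) := by
      refine le_of_mul_le_mul_right ?_ hαR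
      calc cC * (alpha d P : ℝ) * (alpha d R : ℝ) = cC * (alpha d R : ℝ) * (alpha d P : ℝ) := by ring
        _ ≤ (parPoly (⟨𝓔.l, piece, bot, 𝓔.wt, h₁, h₂, h₃, h₄, h₅, h₆⟩ : ParSh.Str F) RX).eval (m : ℝ) * (alpha d QV : ℝ) * (alpha d P : ℝ) :=
          mul_le_mul_of_nonneg_right a2 hαP.le
        _ = cE * (alpha d QV : ℝ) * (alpha d R : ℝ) := by rw [mul_right_comm _ (alpha d QV : ℝ), ← a4]; ring
    have : cE * (alpha d P : ℝ) = cE * (alpha d QK : ℝ) + cE * (alpha d QV : ℝ) := by rw [hαQ]; ring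
    nlinarith
  · have hpe : ∀ i, (𝓔.coinduced q).pieceX i = ((⟨𝓔.l, piece, bot, 𝓔.wt, h₁, h₂, h₃, h₄, h₅, h₆⟩ : ParSh.Str F).induced u).pieceX i := fun i =>
      eq_of_le_of_hilb k hL (hle i) (hcV i) (hcV' i) (hC i) (key.2 i ▸ hD i)
    rcases at_cases 𝓔 a with h | ⟨i, h, h'⟩
    · rw [(𝓔.coinduced q).at_eq_bot h, ((⟨𝓔.l, piece, bot, 𝓔.wt, h₁, h₂, h₃, h₄, h₅, h₆⟩ : ParSh.Str F).induced u).at_eq_bot h, ← (𝓔.coinduced q).pieceX_last,
        ← ((⟨𝓔.l, piece, bot, 𝓔.wt, h₁, h₂, h₃, h₄, h₅, h₆⟩ : ParSh.Str F).induced u).pieceX_last]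
      exact hpe (Fin.last _)
    · rw [(𝓔.coinduced q).at_eq_piece i h h', ((⟨𝓔.l, piece, bot, 𝓔.wt, h₁, h₂, h₃, h₄, h₅, h₆⟩ : ParSh.Str F).induced u).at_eq_piece i h h',
        ← (𝓔.coinduced q).pieceX_castSucc, ← ((⟨𝓔.l, piece, bot, 𝓔.wt, h₁, h₂, h₃, h₄, h₅, h₆⟩ : ParSh.Str F).induced u).pieceX_castSucc]
      exact hpe i.castSucc

end Groth.Agent.StabH89
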