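import Groth.Agent.StabH89.Basic
import Groth.Agent.ParShLib.Coeff
import Groth.Agent.ParShLib.Asymp
import Groth.Agent.HilbPoly.Sat
import Mathlib.CategoryTheory.Abelian.CommSq

/-!
# The first modified parabolic Hilbert polynomial
-/

set_option linter.style.haveILetI false
set_option linter.unusedSectionVars false
set_option maxHeartbeats 400000
set_option backward.isDefEq.respectTransparency false
set_option backward.isDefEq.respectTransparency.types false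

universe u

open CategoryTheory CategoryTheory.Limits AlgebraicGeometry Polynomial StabCat TopologicalSpace

noncomputable section

namespace Groth.Agent.StabH89

open Groth.Agent Groth.Agent.HilbPoly W4swparbununimod

section Algebra

variable {C : Type*} [Category C] {E : C} (𝓔 : ParSh.Str E)

lemma wt_step_nonneg (j : Fin (𝓔.l + 1)) : 0 ≤ 𝓔.wtX j.succ - 𝓔.wtX j.castSucc := by
  rw [𝓔.wtX_castSucc]
  induction j using Fin.lastCases with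
  | last =>
    rw [Fin.succ_last, 𝓔.wtX_last]
    have := 𝓔.wt_lt_one
    linarith
  | cast i =>
    rw [Fin.succ_castSucc, 𝓔.wtX_castSucc]
    have := 𝓔.wt_strictMono (Fin.castSucc_lt_succ (i := i))
    linarith

lemma sum_wt_step : ∑ j : Fin (𝓔.l + 1), (𝓔.wtX j.succ - 𝓔.wtX j.castSucc) = 1 - 𝓔.wt 0 := by
  rw [Finset.sum_sub_distrib]
  have e1 := Fin.sum_univ_succ 𝓔.wtX
  have e2 := Fin.sum_univ_castSucc 𝓔.wtX
  have e4 : 𝓔.wtX 0 = 𝓔.wt 0 := 𝓔.wtX_castSucc 0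
  rw [𝓔.wtX_last] at e2
  linarith

end Algebra

/-- The parabolic polynomial by quotients. -/
lemma eval_parPoly {C : Type u} [Category C] {E : C} (𝓔 : ParSh.Str E) (P : ℚ[X])
    (PX : Fin (𝓔.l + 2) → ℚ[X]) (h0 : PX 0 = P) (m : ℕ) :
    (parPoly 𝓔 PX).eval (m : ℝ) = ((P.eval (m : ℚ) : ℚ) : ℝ) -
      ∑ j : Fin (𝓔.l + 1), (𝓔.wtX j.succ - 𝓔.wtX j.castSucc) * (((P - PX j.succ).eval (m : ℚ) : ℚ) : ℝ) := by
  have h : parPoly 𝓔 PX = rpoly P -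
      ∑ j : Fin (𝓔.l + 1), Polynomial.C (𝓔.wtX j.succ - 𝓔.wtX j.castSucc) * rpoly (P - PX j.succ) := by
    ext n
    rw [ParShLib.parPoly_coeff 𝓔 P PX h0 n, coeff_sub, finsetSum_coeff, Polynomial.coeff_map]
    refine congrArg _ (Finset.sum_congr rfl fun j _ => ?_)
    rw [coeff_C_mul, Polynomial.coeff_map, Polynomial.coeff_sub, map_sub]
    rfl
  rw [h, Polynomial.eval_sub, Polynomial.eval_finsetSum, ParShLib.eval_rpoly]
  refine congrArg _ (Finset.sum_congr rfl fun j _ => ?_)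
  rw [Polynomial.eval_mul, Polynomial.eval_C, ParShLib.eval_rpoly]

variable {X : Scheme.{u}} (k : Type u) [Field k] [X.Over (Spec (CommRingCat.of k))]
  [IsProper (X ↘ Spec (CommRingCat.of k))] {L : X.Modules} {E : X.Modules} (𝓔 : ParSh.Str E) {d : ℕ}

lemma exists_hilb_any (hL : PicF.IsInvertible L) {F : X.Modules} (hF : Coh.IsCoh F) :
    ∃ P, ShStab.IsHilbPoly k X L F P := by
  obtain ⟨n, hn⟩ := exists_dim_bound X k
  obtain ⟨P, hP, -, -⟩ := exists_hilb (k := k) hL hF (hn _)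
  exact ⟨P, hP⟩

lemma mono_quot_map {W : X.Modules} (ι : W ⟶ E) [Mono ι] (j : Fin (𝓔.l + 2)) :
    ∃ g : cokernel ((𝓔.induced ι).pieceX j).arrow ⟶ cokernel (𝓔.pieceX j).arrow, Mono g := by
  rw [ParShLib.induced_pieceX 𝓔 ι j]
  have hpb := Subobject.isPullback ι (𝓔.pieceX j)
  exact ⟨cokernel.map _ _ (Subobject.pullbackπ ι (𝓔.pieceX j)) ι hpb.w.symm,
    Abelian.mono_cokernel_map_of_isPullback hpb.flip⟩

lemma piece_mono_map {W W' : X.Modules} (ι' : W' ⟶ E) (l : W ⟶ W') [Mono l] (j : Fin (𝓔.l + 2)) :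
    ∃ g : (((𝓔.induced (l ≫ ι')).pieceX j : Subobject W) : X.Modules) ⟶
      (((𝓔.induced ι').pieceX j : Subobject W') : X.Modules), Mono g := by
  rw [ParShLib.induced_pieceX 𝓔 ι' j, ParShLib.induced_pieceX 𝓔 (l ≫ ι') j]
  let g := (Subobject.isPullback ι' (𝓔.pieceX j)).lift (Subobject.pullbackπ (l ≫ ι') (𝓔.pieceX j))
    (((Subobject.pullback (l ≫ ι')).obj (𝓔.pieceX j)).arrow ≫ l)
    (by rw [(Subobject.isPullback (l ≫ ι') (𝓔.pieceX j)).w, Category.assoc])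
  exact ⟨g, mono_of_mono_fac (IsPullback.lift_snd _ _ _ _ : g ≫ _ = _)⟩

variable {k}

theorem parPolyOne_le (hL : CohB1.IsAmple L) (hE : Coh.IsCoh E)
    (hcoh : ∀ j, Coh.IsCoh ((𝓔.pieceX j : Subobject E) : X.Modules))
    {H : Fin (𝓔.l + 2) → ℚ[X]} (hH : ∀ j, ShStab.IsHilbPoly k X L (cokernel (𝓔.pieceX j).arrow) (H j))
    (hq : ∀ j : Fin (𝓔.l + 1), ShStab.IsSemistable k X L (cokernel (𝓔.pieceX j.succ).arrow) (d - 1))
    {W : X.Modules} (ι : W ⟶ E) [Mono ι] (hW : Coh.IsCoh W)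
    {Q : ℚ[X]} (hQ : ShStab.IsHilbPoly k X L W Q) {QX : Fin (𝓔.l + 2) → ℚ[X]}
    (hQX : ∀ j, ShStab.IsHilbPoly k X L (((𝓔.induced ι).pieceX j : Subobject W) : X.Modules) (QX j))
    {QH : Fin (𝓔.l + 2) → ℚ[X]}
    (hQH : ∀ j, ShStab.IsHilbPoly k X L (cokernel ((𝓔.induced ι).pieceX j).arrow) (QH j)) :
    ∃ M : ℕ, ∀ m : ℕ, M ≤ m →
      (parPolyOne 𝓔 d Q QH H).eval (m : ℝ) ≤ (parPoly (𝓔.induced ι) QX).eval (m : ℝ) := by
  haveI := CurveCohLib.isNoetherian_of_proper (k := k) (X := X)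
  have hcW := fun j => ParShLib.isCoh_induced hE hW 𝓔 ι hcoh j
  have hQH' : ∀ j, QH j = Q - QX j := fun j => ParShLib.eq_of_eval_nat fun n =>
    (hQH j n).symm.trans (ParShLib.hilb_cokernel k hL _ (hcW j) hW hQ (hQX j) n)
  have key : ∀ j : Fin (𝓔.l + 1), ∃ N : ℕ, ∀ m : ℕ, N ≤ m → (QH j.succ).eval (m : ℚ) ≤
      alpha (d - 1) (QH j.succ) / alpha (d - 1) (H j.succ) * (H j.succ).eval (m : ℚ) := by
    intro j
    obtain ⟨hc, hne, hp, hss⟩ := hq j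
    have hpos : 0 < alpha (d - 1) (H j.succ) :=
      HilbPoly.alpha_pos (k := k) hL hc (hp _ (𝟙 _) inferInstance hc hne) (hH j.succ)
    obtain ⟨g, hg⟩ := mono_quot_map 𝓔 ι j.succ
    haveI := hg
    have hKc : Coh.IsCoh (cokernel ((𝓔.induced ι).pieceX j.succ).arrow) := QCoh.isCoh_cokernel (hcW j.succ).1 hW _
    by_cases hz : IsZero (cokernel ((𝓔.induced ι).pieceX j.succ).arrow)
    · have : QH j.succ = 0 := isHilbPoly_unique (hQH j.succ) (hilb_isZero hz)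
      exact ⟨0, fun m _ => by simp [this, alpha]⟩
    by_cases hiso : IsIso g
    · have : QH j.succ = H j.succ := isHilbPoly_unique (hilb_iso (asIso g) (hQH j.succ)) (hH j.succ)
      exact ⟨0, fun m _ => by rw [this, div_self hpos.ne', one_mul]⟩
    obtain ⟨N, hN⟩ := hss _ g hg hKc hz hiso _ _ (hQH j.succ) (hH j.succ)
    refine ⟨N, fun m hm => ?_⟩
    have h := hN m hm
    simp only [eval_smul, smul_eq_mul] at h
    rw [div_mul_eq_mul_div, le_div_iff₀ hpos]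
    linarith
  choose N hN using key
  refine ⟨Finset.univ.sup N, fun m hm => ?_⟩
  rw [eval_parPoly (𝓔.induced ι) Q QX (ParShLib.hilb_zero k hL (𝓔.induced ι) hQ hQX), parPolyOne, Polynomial.eval_sub,
    Polynomial.eval_finsetSum, ParShLib.eval_rpoly]
  refine sub_le_sub_left (Finset.sum_le_sum fun (j : Fin (𝓔.l + 1)) _ => ?_) _
  rw [Polynomial.eval_mul, Polynomial.eval_C, ParShLib.eval_rpoly, mul_assoc]
  show (𝓔.wtX j.succ - 𝓔.wtX j.castSucc) * _ ≤ _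
  refine mul_le_mul_of_nonneg_left ?_ (wt_step_nonneg 𝓔 j)
  rw [← hQH' j.succ, ← Rat.cast_mul]
  exact Rat.cast_le.2 (hN j m ((Finset.le_sup (Finset.mem_univ j)).trans hm))

theorem parPoly_le_of_mono (hL : CohB1.IsAmple L) (hE : Coh.IsCoh E)
    (hcoh : ∀ j, Coh.IsCoh ((𝓔.pieceX j : Subobject E) : X.Modules))
    {W W' : X.Modules} (ι' : W' ⟶ E) [Mono ι'] (l : W ⟶ W') [Mono l] (hW : Coh.IsCoh W) (hW' : Coh.IsCoh W')
    {Q Q' : ℚ[X]} (hQ : ShStab.IsHilbPoly k X L W Q) (hQ' : ShStab.IsHilbPoly k X L W' Q')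
    {QX : Fin (𝓔.l + 2) → ℚ[X]}
    (hQX : ∀ j, ShStab.IsHilbPoly k X L (((𝓔.induced (l ≫ ι')).pieceX j : Subobject W) : X.Modules) (QX j))
    {QX' : Fin (𝓔.l + 2) → ℚ[X]}
    (hQX' : ∀ j, ShStab.IsHilbPoly k X L (((𝓔.induced ι').pieceX j : Subobject W') : X.Modules) (QX' j)) :
    ∃ M : ℕ, ∀ m : ℕ, M ≤ m →
      (parPoly (𝓔.induced (l ≫ ι')) QX).eval (m : ℝ) ≤ (parPoly (𝓔.induced ι') QX').eval (m : ℝ) := by
  haveI := CurveCohLib.isNoetherian_of_proper (k := k) (X := X)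
  obtain ⟨N0, hN0⟩ := (polyLE_of_mono (d := 0) hL hW hW' l hQ hQ').1
  have key : ∀ j : Fin (𝓔.l + 2), PolyLE (QX j) (QX' j) := fun j => by
    obtain ⟨g, hg⟩ := piece_mono_map 𝓔 ι' l j
    haveI := hg
    exact (polyLE_of_mono (d := 0) hL (ParShLib.isCoh_induced hE hW 𝓔 (l ≫ ι') hcoh j)
      (ParShLib.isCoh_induced hE hW' 𝓔 ι' hcoh j) g (hQX j) (hQX' j)).1
  choose N hN using key
  refine ⟨max N0 (Finset.univ.sup N), fun m hm => ?_⟩
  rw [eval_parPoly (𝓔.induced (l ≫ ι')) Q QX (ParShLib.hilb_zero k hL (𝓔.induced (l ≫ ι')) hQ hQX) m,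
    eval_parPoly (𝓔.induced ι') Q' QX' (ParShLib.hilb_zero k hL (𝓔.induced ι') hQ' hQX') m]
  show ((Q.eval (m : ℚ) : ℚ) : ℝ) - ∑ j : Fin (𝓔.l + 1), (𝓔.wtX j.succ - 𝓔.wtX j.castSucc) * _ ≤
    ((Q'.eval (m : ℚ) : ℚ) : ℝ) - ∑ j : Fin (𝓔.l + 1), (𝓔.wtX j.succ - 𝓔.wtX j.castSucc) * _
  simp only [Polynomial.eval_sub, Rat.cast_sub, mul_sub, Finset.sum_sub_distrib, ← Finset.sum_mul, sum_wt_step 𝓔]
  have h1 : ((Q.eval (m : ℚ) : ℚ) : ℝ) ≤ ((Q'.eval (m : ℚ) : ℚ) : ℝ) :=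
    Rat.cast_le.2 (hN0 m ((le_max_left _ _).trans hm))
  have h2 := mul_le_mul_of_nonneg_left h1 𝓔.wt_nonneg
  have h3 : ∑ j : Fin (𝓔.l + 1), (𝓔.wtX j.succ - 𝓔.wtX j.castSucc) * (((QX j.succ).eval (m : ℚ) : ℚ) : ℝ) ≤
      ∑ j : Fin (𝓔.l + 1), (𝓔.wtX j.succ - 𝓔.wtX j.castSucc) * (((QX' j.succ).eval (m : ℚ) : ℚ) : ℝ) :=
    Finset.sum_le_sum fun j _ => mul_le_mul_of_nonneg_left (Rat.cast_le.2 (hN j.succ m
      ((Finset.le_sup (f := N) (Finset.mem_univ j.succ)).trans ((le_max_right _ _).trans hm)))) (wt_step_nonneg 𝓔 j)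
  linarith

theorem parOne_semistable (hL : CohB1.IsAmple L) (hE : Coh.IsCoh E)
    (hcoh : ∀ j, Coh.IsCoh ((𝓔.pieceX j : Subobject E) : X.Modules)) (h0 : ¬ IsZero E)
    (hpure : ShStab.IsPure X E d) {P : ℚ[X]} (hP : ShStab.IsHilbPoly k X L E P) {PX : Fin (𝓔.l + 2) → ℚ[X]}
    {H : Fin (𝓔.l + 2) → ℚ[X]} (hH : ∀ j, ShStab.IsHilbPoly k X L (cokernel (𝓔.pieceX j).arrow) (H j))
    (hss : (∀ (W : X.Modules) (ι : W ⟶ E), Mono ι → Coh.IsCoh W → ¬ IsZero W → ShStab.IsPure X (cokernel ι) d →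
        ∀ (Q : ℚ[X]) (QX : Fin (𝓔.l + 2) → ℚ[X]), ShStab.IsHilbPoly k X L W Q →
          (∀ j, ShStab.IsHilbPoly k X L (((𝓔.induced ι).pieceX j : Subobject W) : X.Modules) (QX j)) →
          ∃ M : ℕ, ∀ m : ℕ, M ≤ m →
            (parPoly (𝓔.induced ι) QX).eval (m : ℝ) * (StabCat.alpha d P : ℝ) ≤
              (parPoly 𝓔 PX).eval (m : ℝ) * (StabCat.alpha d Q : ℝ)))
    (hq : ∀ j : Fin (𝓔.l + 1), ShStab.IsSemistable k X L (cokernel (𝓔.pieceX j.succ).arrow) (d - 1))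
    {W : X.Modules} (ι : W ⟶ E) [Mono ι] (hW : Coh.IsCoh W)
    {Q : ℚ[X]} (hQ : ShStab.IsHilbPoly k X L W Q) {QH : Fin (𝓔.l + 2) → ℚ[X]}
    (hQH : ∀ j, ShStab.IsHilbPoly k X L (cokernel ((𝓔.induced ι).pieceX j).arrow) (QH j)) (hW0 : ¬ IsZero W) :
    ∃ M : ℕ, ∀ m : ℕ, M ≤ m →
      (parPolyOne 𝓔 d Q QH H).eval (m : ℝ) * (StabCat.alpha d P : ℝ) ≤
        (parPoly 𝓔 PX).eval (m : ℝ) * (StabCat.alpha d Q : ℝ) := by
  haveI := CurveCohLib.isNoetherian_of_proper (k := k) (X := X)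
  have hdE := hpure E (𝟙 E) inferInstance hE h0
  obtain ⟨W', ι', l, hι', hl, hW', hsat, hα⟩ := HilbPoly.exists_saturation (k := k) hL hE hdE.le ι hW hQ
  haveI := hι'
  subst hl
  haveI : Mono l := mono_of_mono l ι'
  obtain ⟨Q', hQ'⟩ := exists_hilb_any k hL.1 hW'
  choose QX hQX using fun j => exists_hilb_any k hL.1 (ParShLib.isCoh_induced hE hW 𝓔 (l ≫ ι') hcoh j)
  choose QX' hQX' using fun j => exists_hilb_any k hL.1 (ParShLib.isCoh_induced hE hW' 𝓔 ι' hcoh j)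
  obtain ⟨M₁, h₁⟩ := parPolyOne_le 𝓔 hL hE hcoh hH hq (l ≫ ι') hW hQ hQX hQH
  obtain ⟨M₂, h₂⟩ := parPoly_le_of_mono 𝓔 hL hE hcoh ι' l hW hW' hQ hQ' hQX hQX'
  obtain ⟨M₃, h₃⟩ := hss W' ι' hι' hW' (fun hz => hW0 (IsZero.of_mono l hz)) hsat Q' QX' hQ' hQX'
  refine ⟨max M₁ (max M₂ M₃), fun m hm => ?_⟩
  have hα0 : (0 : ℝ) ≤ (StabCat.alpha d P : ℝ) :=
    Rat.cast_nonneg.2 (HilbPoly.alpha_pos (k := k) hL hE hdE hP).le
  rw [← (hα Q' hQ').1]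
  exact (mul_le_mul_of_nonneg_right ((h₁ m (by omega)).trans (h₂ m (by omega))) hα0).trans (h₃ m (by omega))

end Groth.Agent.StabH89
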