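import Groth.Agent.StabH89.Ell

/-!
# Harder–Narasimhan filtrations for `ℓ`-semistability
-/

set_option linter.style.haveILetI false
set_option linter.unusedSectionVars false
set_option backward.isDefEq.respectTransparency false
set_option backward.isDefEq.respectTransparency.types false

universe v u

open CategoryTheory CategoryTheory.Limits AlgebraicGeometry Polynomial StabCat TopologicalSpace

noncomputable section

namespace Groth.Agent.StabH89

open Groth.Agent Groth.Agent.HilbPoly

variable {X : Scheme.{u}} {k : Type u} [Field k] [X.Over (Spec (CommRingCat.of k))]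
  [IsProper (X ↘ Spec (CommRingCat.of k))] {L : X.Modules} {d ℓ : ℕ} {E : X.Modules}

variable (k L d ℓ) in
/-- The conditions of a Harder–Narasimhan filtration for `ℓ`-semistability on the factors. -/
def EllFactors (s : LTSeries (Subobject E)) : Prop :=
  (∀ i : Fin s.length, SSEll k L d ℓ (factor s i)) ∧
    ∀ (i j : Fin s.length), i.val + 1 = j.val →
      RedLT d (tq k L d ℓ (factor s j)) (tq k L d ℓ (factor s i))

lemma EllFactors.redLT_of_lt (hL : CohB1.IsAmple L) {s : LTSeries (Subobject E)} (hs : EllFactors k L d ℓ s)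
    {i j : Fin s.length} (h : i < j) : RedLT d (tq k L d ℓ (factor s j)) (tq k L d ℓ (factor s i)) := by
  have hα : ∀ a : Fin s.length, 0 < alpha d (tq k L d ℓ (factor s a)) := fun a => ((hs.1 a).data hL).2.2.2
  have key : ∀ (n : ℕ) (j : Fin s.length), j.val = i.val + (n + 1) →
      RedLT d (tq k L d ℓ (factor s j)) (tq k L d ℓ (factor s i)) := by
    intro n
    induction n with
    | zero => exact fun j hj => hs.2 i j (by omega)
    | succ n ih =>
      intro j hj
      have hj' : i.val + (n + 1) < s.length := by omega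
      exact redLT_trans_right (hα j).le (hα ⟨_, hj'⟩) (hα i) (hs.2 ⟨_, hj'⟩ j (by simp; omega))
        (redLE_of_redLT (ih ⟨_, hj'⟩ rfl))
  have : i.val < j.val := h
  exact key (j.val - i.val - 1) j (by omega)

/-- Two filtrations from a common submodule agree. -/
theorem ell_unique_from (hL : CohB1.IsAmple L) : ∀ (n : ℕ) (s t : LTSeries (Subobject E)), s.length = n →
    s.head = t.head → s.last = ⊤ → t.last = ⊤ → EllFactors k L d ℓ s → EllFactors k L d ℓ t → s = t := by
  intro n
  induction n with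
  | zero =>
    intro s t hn hh hsl htl _ _
    have h0 : t.length = 0 := by
      by_contra h
      have h1 : t.head < t.last := t.strictMono (Fin.lt_last_iff_ne_last.2 fun he => h (by
        simpa using (congrArg Fin.val he).symm))
      have h2 : s.head = s.last := congrArg s.toFun (Fin.ext (by simp [hn]))
      rw [← hh, h2, hsl, htl] at h1
      exact lt_irrefl _ h1
    refine RelSeries.ext (hn.trans h0.symm) (funext fun i => ?_)
    have hi : i = 0 := Fin.ext (by have := i.isLt; simp; omega)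
    subst hi
    exact hh
  | succ n ih =>
    intro s t hn hh hsl htl hs ht
    have hs0 : s.length ≠ 0 := by omega
    have ht0 : t.length ≠ 0 := by
      intro h
      have h1 : s.head < s.last := s.strictMono (Fin.lt_last_iff_ne_last.2 fun he => hs0 (by
        simpa using (congrArg Fin.val he).symm))
      have h2 : t.head = t.last := congrArg t.toFun (Fin.ext (by simp [h]))
      rw [hh, h2, hsl, htl] at h1
      exact lt_irrefl _ h1
    have hle : ∀ (p q : LTSeries (Subobject E)) (hp0 : 0 < p.length) (hq0 : 0 < q.length),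
        p.head = q.head → q.last = ⊤ → EllFactors k L d ℓ p → EllFactors k L d ℓ q →
        RedLE d (tq k L d ℓ (factor q ⟨0, hq0⟩)) (tq k L d ℓ (factor p ⟨0, hp0⟩)) →
        p (Fin.succ ⟨0, hp0⟩) ≤ q (Fin.succ ⟨0, hq0⟩) ∧
          RedLE d (tq k L d ℓ (factor p ⟨0, hp0⟩)) (tq k L d ℓ (factor q ⟨0, hq0⟩)) := by
      intro p q hp0 hq0 hpq hql hp' hq' hc
      have hstep : p (Fin.castSucc ⟨0, hp0⟩) ≤ p (Fin.succ ⟨0, hp0⟩) := le_of_lt (p.step _)
      have hK : ∀ b, (q b).Factors (Subobject.ofLE _ _ hstep ≫ (p (Fin.succ ⟨0, hp0⟩)).arrow) := fun b => by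
        rw [Subobject.ofLE_arrow]
        refine Subobject.factors_of_le _ ?_ (Subobject.factors_self _)
        have : p (Fin.castSucc ⟨0, hp0⟩) = q.head := hpq
        rw [this]; exact q.monotone (Fin.zero_le _)
      have hfac : (q (Fin.succ ⟨0, hq0⟩)).Factors (p (Fin.succ ⟨0, hp0⟩)).arrow := by
        refine factors_of_chain q _ _ _ (by rw [hql]; exact Subobject.top_factors _) (hK _) fun b hb g hg => ?_
        rw [(cokernel.π_desc _ g hg).symm]
        have hb' : (⟨0, hq0⟩ : Fin q.length) < b := by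
          have : 1 ≤ b.val := hb
          exact Fin.mk_lt_of_lt_val (by omega)
        have h0 := (hp'.1 ⟨0, hp0⟩).hom_zero hL (hq'.1 b)
          (redLT_trans_right ((hq'.1 b).data hL).2.2.2.le ((hq'.1 _).data hL).2.2.2 ((hp'.1 _).data hL).2.2.2
            (hq'.redLT_of_lt hL hb') hc) (cokernel.desc _ g hg)
        rw [h0, Limits.comp_zero]
      refine ⟨Subobject.le_of_factors hfac, ?_⟩
      rcases redLE_or_redLT d (tq k L d ℓ (factor p ⟨0, hp0⟩)) (tq k L d ℓ (factor q ⟨0, hq0⟩)) with h | h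
      · exact h
      exfalso
      have hf0 : (q (Fin.castSucc ⟨0, hq0⟩)).Factors (p (Fin.succ ⟨0, hp0⟩)).arrow := by
        refine factors_step (le_of_lt (q.step ⟨0, hq0⟩)) _ _ hfac (hK _) fun g hg => ?_
        rw [(cokernel.π_desc _ g hg).symm]
        have h0 := (hp'.1 ⟨0, hp0⟩).hom_zero hL (hq'.1 ⟨0, hq0⟩) h (cokernel.desc _ g hg)
        rw [h0, Limits.comp_zero]
      have h1 := Subobject.le_of_factors hf0
      have h2 : q (Fin.castSucc ⟨0, hq0⟩) = p (Fin.castSucc ⟨0, hp0⟩) := hpq.symm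
      rw [h2] at h1
      exact (p.step ⟨0, hp0⟩).not_ge h1
    have hs1 : 0 < s.length := by omega
    have ht1 : 0 < t.length := by omega
    have heq : s (Fin.succ ⟨0, hs1⟩) = t (Fin.succ ⟨0, ht1⟩) := by
      rcases redLE_or_redLT d (tq k L d ℓ (factor t ⟨0, ht1⟩)) (tq k L d ℓ (factor s ⟨0, hs1⟩)) with h | h
      · obtain ⟨h1, h2⟩ := hle s t hs1 ht1 hh htl hs ht h
        exact le_antisymm h1 (hle t s ht1 hs1 hh.symm hsl ht hs h2).1
      · obtain ⟨h1, h2⟩ := hle t s ht1 hs1 hh.symm hsl ht hs (redLE_of_redLT h)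
        exact le_antisymm (hle s t hs1 ht1 hh htl hs ht h2).1 h1
    have htail : ∀ (p : LTSeries (Subobject E)) (hp0 : p.length ≠ 0), EllFactors k L d ℓ p →
        EllFactors k L d ℓ (p.tail hp0) := by
      intro p hp0 hp'
      have hlen : (p.tail hp0).length + 1 = p.length := by
        show p.length - 1 + 1 = p.length
        omega
      have hfe : ∀ i : Fin (p.tail hp0).length,
          SSEll k L d ℓ (factor (p.tail hp0) i) ∧
            tq k L d ℓ (factor (p.tail hp0) i) = tq k L d ℓ (factor p ⟨i.val + 1, by omega⟩) := fun i =>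
        ssEll_of_iso hL (Iso.refl _) (hp'.1 ⟨i.val + 1, by omega⟩)
      refine ⟨fun i => (hfe i).1, fun i j hij => ?_⟩
      have h := hp'.2 ⟨i.val + 1, by omega⟩ ⟨j.val + 1, by omega⟩ (by simp; omega)
      rw [(hfe i).2, (hfe j).2]
      exact h
    have htails := ih (s.tail hs0) (t.tail ht0) (by show s.length - 1 = n; omega)
      (by
        rw [RelSeries.head_tail, RelSeries.head_tail]
        have e1 : (1 : Fin (s.length + 1)) = Fin.succ ⟨0, hs1⟩ :=
          Fin.ext (by simp [Nat.mod_eq_of_lt (show 1 < s.length + 1 by omega)])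
        have e2 : (1 : Fin (t.length + 1)) = Fin.succ ⟨0, ht1⟩ :=
          Fin.ext (by simp [Nat.mod_eq_of_lt (show 1 < t.length + 1 by omega)])
        rw [e1, e2]; exact heq)
      (by rw [RelSeries.last_tail]; exact hsl) (by rw [RelSeries.last_tail]; exact htl)
      (htail s hs0 hs) (htail t ht0 ht)
    rw [← RelSeries.cons_self_tail hs0, ← RelSeries.cons_self_tail ht0]
    congr 1

/-- The first step from a submodule with pure quotient. -/
lemma exists_step_Ell (hL : CohB1.IsAmple L) (hE : Coh.IsCoh E)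
    (hd : topologicalKrullDim ↥(CohB1.support E) ≤ (d : WithBot ℕ∞)) {S : Subobject E}
    (hS : Coh.IsCoh (S : X.Modules)) (hSp : ShStab.IsPure X (cokernel S.arrow) d) (hne : S ≠ ⊤) :
    ∃ (T : Subobject E) (h : S < T), Coh.IsCoh (T : X.Modules) ∧ ShStab.IsPure X (cokernel T.arrow) d ∧
      SSEll k L d ℓ (cokernel (Subobject.ofLE S T h.le)) ∧
      ∀ U : Subobject E, T < U → Coh.IsCoh (U : X.Modules) →
        RedLT d (topPart ℓ d (hp k L (U : X.Modules) - hp k L (T : X.Modules)))
          (topPart ℓ d (hp k L (T : X.Modules) - hp k L (S : X.Modules))) := by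
  haveI : IsNoetherian X := CurveCohLib.isNoetherian_of_proper (k := k)
  obtain ⟨hQ, hdQ, hpQ⟩ := cokernel_data (k := k) hL hS hE hd S.arrow (hp_sub (k := k) hL hE hd hS)
    (isHilbPoly_hp (k := k) hL hE hd)
  have hQ0 : ¬ IsZero (cokernel S.arrow) := fun hz => by
    haveI : Epi S.arrow := Preadditive.epi_of_isZero_cokernel _ hz
    haveI := isIso_of_mono_of_epi S.arrow
    exact hne (Subobject.eq_top_of_isIso_arrow S)
  obtain ⟨F, hFc, hF0, hmax⟩ := exists_maxDestabEll (k := k) (ℓ := ℓ) hL hQ hQ0 hSp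
  have hFp : ShStab.IsPure X (F : X.Modules) d := isPure_of_mono F.arrow hSp
  obtain ⟨hpF, hnF, hαF, hαF'⟩ := pure_data (k := k) (ℓ := ℓ) hL hFp hFc hF0
  have hdF := dim_le_of_isPure hFp hFc
  -- the quotient is pure
  have hRp : ShStab.IsPure X (cokernel F.arrow) d := by
    obtain ⟨F', ι', l, hι', hl, hF', hpure, hprop⟩ := exists_saturation (k := k) hL hQ hdQ F.arrow hFc hpF
    haveI := hι'
    have hF'0 : ¬ IsZero F' := fun hz => hF0 ((IsZero.iff_id_eq_zero _).2 (by
      rw [← cancel_mono F.arrow, ← hl, hz.eq_of_tgt l 0]; simp))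
    obtain ⟨hpF', hnF', -, -⟩ := pure_data (k := k) (ℓ := ℓ) hL (isPure_of_mono ι' hSp) hF' hF'0
    obtain ⟨hα, hple, -⟩ := hprop _ hpF'
    obtain ⟨h1, h2⟩ := hmax F' ι' hι' hF' hF'0
    have h3 := h2 (redEq_of_le_le h1 (tq_mono_of_alpha_eq hnF hnF' hα hαF.le hple))
    let l' := F.factorThru ι' h3
    have hl' : l' ≫ F.arrow = ι' := Subobject.factorThru_arrow _ _ _
    let i : (F : X.Modules) ≅ F' :=
      { hom := l
        inv := l'
        hom_inv_id := by rw [← cancel_mono F.arrow, Category.assoc, hl', hl, Category.id_comp]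
        inv_hom_id := by rw [← cancel_mono ι', Category.assoc, hl, hl', Category.id_comp] }
    exact isPure_of_mono (cokernel.mapIso F.arrow ι' i (Iso.refl _) (by simp [i, hl])).hom hpure
  obtain ⟨hR, -, hpR⟩ := cokernel_data (k := k) hL hFc hQ hdQ F.arrow hpF hpQ
  let π : E ⟶ cokernel F.arrow := cokernel.π S.arrow ≫ cokernel.π F.arrow
  haveI : Epi π := epi_comp _ _
  obtain ⟨hK, -, hpK⟩ := kernel_data (k := k) hL hE hR hd π (isHilbPoly_hp (k := k) hL hE hd) hpR
  obtain ⟨hTc, hTp⟩ := hp_mk (k := k) hL hE hd (kernel.ι π) hK hpK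
  set T := Subobject.mk (kernel.ι π)
  have hTeq : hp k L (T : X.Modules) - hp k L (S : X.Modules) = hp k L (F : X.Modules) := by rw [hTp]; abel
  have hST : S ≤ T := Subobject.le_mk_of_comm (kernel.lift π S.arrow (by simp [π])) (kernel.lift_ι _ _ _)
  have hTπ : T.arrow ≫ π = 0 := by
    rw [← Subobject.underlyingIso_hom_comp_eq_mk (kernel.ι π), Category.assoc, kernel.condition, Limits.comp_zero]
  have he0 : subQuot hST ≫ cokernel.π F.arrow = 0 := by
    rw [← cancel_epi (cokernel.π _), Limits.comp_zero, π_subQuot_assoc]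
    exact hTπ
  let e := Abelian.monoLift F.arrow (subQuot hST) he0
  have he : e ≫ F.arrow = subQuot hST := Abelian.monoLift_comp _ _ _
  haveI : Mono e := by
    haveI : Mono (e ≫ F.arrow) := by rw [he]; infer_instance
    exact mono_of_mono e F.arrow
  haveI : Epi e := by
    obtain ⟨G, p, hp', t, ht⟩ := surjective_up_to_refinements_of_epi (cokernel.π S.arrow) F.arrow
    haveI := hp'
    have h0 : t ≫ π = 0 := by
      show t ≫ cokernel.π S.arrow ≫ cokernel.π F.arrow = 0
      rw [← Category.assoc, ← ht, Category.assoc, cokernel.condition, Limits.comp_zero]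
    let t' := kernel.lift π t h0 ≫ (Subobject.underlyingIso (kernel.ι π)).inv
    have ht' : t' ≫ T.arrow = t := by simp [t', T]
    let q := t' ≫ cokernel.π (Subobject.ofLE S T hST)
    have : p = q ≫ e := by
      rw [← cancel_mono F.arrow]
      show p ≫ F.arrow = ((t' ≫ cokernel.π (Subobject.ofLE S T hST)) ≫ e) ≫ F.arrow
      simp only [Category.assoc]
      rw [he, π_subQuot, ← Category.assoc, ht', ht]
    rw [this] at hp'
    exact epi_of_epi q e
  haveI := isIso_of_mono_of_epi e
  have hFss : SSEll k L d ℓ (F : X.Modules) := by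
    refine ⟨hFc, hF0, hFp, fun G g hg hG hG0 => ?_⟩
    haveI := hg
    exact (hmax G (g ≫ F.arrow) (mono_comp _ _) hG hG0).1
  have hlt : S < T := lt_of_le_of_ne hST fun h => hF0 (isZero_of_hilb_zero hL hFc hdF (by
    rw [← h] at hTeq
    rw [sub_self] at hTeq
    rw [hTeq]; exact hpF))
  refine ⟨T, hlt, hTc, ?_, (ssEll_of_iso hL (asIso e).symm hFss).1, fun U hTU hU => ?_⟩
  · have i1 : cokernel T.arrow ≅ cokernel (kernel.ι π) :=
      cokernel.mapIso _ _ (Subobject.underlyingIso (kernel.ι π)) (Iso.refl _) (by simp [T])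
    have i2 : cokernel (kernel.ι π) ≅ cokernel F.arrow :=
      (cokernelIsCokernel _).coconePointUniqueUpToIso
        (Abelian.epiIsCokernelOfKernel (KernelFork.ofι (kernel.ι π) (kernel.condition π)) (kernelIsKernel π))
    exact isPure_of_mono (i1 ≪≫ i2).hom hRp
  · obtain ⟨hG, hdG, hpG⟩ := cokernel_data (k := k) hL hS hU (dim_sub hL hE hd hU)
      (Subobject.ofLE S U (hST.trans hTU.le)) (hp_sub (k := k) hL hE hd hS) (hp_sub (k := k) hL hE hd hU)
    have hG0 : ¬ IsZero (cokernel (Subobject.ofLE S U (hST.trans hTU.le))) := fun hz => by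
      haveI : Epi (Subobject.ofLE S U (hST.trans hTU.le)) := Preadditive.epi_of_isZero_cokernel _ hz
      haveI := isIso_of_mono_of_epi (Subobject.ofLE S U (hST.trans hTU.le))
      exact (hlt.trans hTU).not_ge (Subobject.le_of_comm (inv (Subobject.ofLE S U (hST.trans hTU.le)))
        (by rw [IsIso.inv_comp_eq, Subobject.ofLE_arrow]))
    obtain ⟨h1, h2⟩ := hmax _ (subQuot (hST.trans hTU.le)) inferInstance hG hG0
    rw [tq_eq hL (isPure_of_mono (subQuot (hST.trans hTU.le)) hSp) hG hpG,
      tq_eq hL hFp hFc hpF, ← hTeq] at h1 h2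
    rcases redLE_or_redLT d (topPart ℓ d (hp k L (T : X.Modules) - hp k L (S : X.Modules)))
      (topPart ℓ d (hp k L (U : X.Modules) - hp k L (S : X.Modules))) with h | h
    · exfalso
      have hφ : F.factorThru _ (h2 (redEq_of_le_le h1 h)) ≫ F.arrow = subQuot (hST.trans hTU.le) :=
        Subobject.factorThru_arrow _ _ _
      refine hTU.not_ge (Subobject.le_mk_of_comm (kernel.lift π U.arrow ?_) (kernel.lift_ι _ _ _))
      show U.arrow ≫ cokernel.π S.arrow ≫ cokernel.π F.arrow = 0
      rw [← π_subQuot_assoc (hST.trans hTU.le), ← hφ, Category.assoc, cokernel.condition, Limits.comp_zero,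
        Limits.comp_zero]
    · obtain ⟨N, hN⟩ := h
      refine ⟨N, fun m hm => ?_⟩
      have := hN m hm
      simp only [HilbPoly.alpha_topPart] at this ⊢
      simp only [topPart_sub, alpha, Polynomial.coeff_sub, eval_smul, eval_sub, smul_eq_mul] at this ⊢
      linarith

theorem exists_HNEll (hL : CohB1.IsAmple L) (hE : Coh.IsCoh E) (hp' : ShStab.IsPure X E d) :
    ∃ s : LTSeries (Subobject E), s.head = ⊥ ∧ s.last = ⊤ ∧ EllFactors k L d ℓ s := by
  classical
  haveI : IsNoetherian X := CurveCohLib.isNoetherian_of_proper (k := k)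
  have hd := dim_le_of_isPure hp' hE
  let Good : Subobject E → Prop := fun S => Coh.IsCoh (S : X.Modules) ∧ ShStab.IsPure X (cokernel S.arrow) d
  let OK : Subobject E → Prop := fun S => ∃ s : LTSeries (Subobject E), s.head = S ∧ s.last = ⊤ ∧
    (∀ i, Coh.IsCoh ((s i : Subobject E) : X.Modules)) ∧
    (∀ i : Fin s.length, SSEll k L d ℓ (factor s i)) ∧
    ∀ (i j : Fin s.length), i.val + 1 = j.val →
      RedLT d (topPart ℓ d (hp k L (s j.succ : X.Modules) - hp k L (s j.castSucc : X.Modules)))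
        (topPart ℓ d (hp k L (s i.succ : X.Modules) - hp k L (s i.castSucc : X.Modules)))
  have hall : ∀ S, Good S → OK S := by
    by_contra hn
    push Not at hn
    obtain ⟨S, ⟨hS, hbad⟩, hmax⟩ := exists_maximal_coh hE (fun S => Good S ∧ ¬ OK S) (fun _ h => h.1.1) hn
    by_cases hne : S = ⊤
    · exact hbad ⟨RelSeries.singleton _ S, rfl, hne, fun _ => hS.1, fun i => i.elim0, fun i => i.elim0⟩
    obtain ⟨T, hST, hT, hTp, hss, hdec⟩ := exists_step_Ell (k := k) (ℓ := ℓ) hL hE hd hS.1 hS.2 hne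
    have hTok : OK T := by
      by_contra hT'
      exact hST.ne (hmax T ⟨⟨hT, hTp⟩, hT'⟩ hST.le).symm
    obtain ⟨s, rfl, hl, hcoh, hfac, hlt⟩ := hTok
    let s' : LTSeries (Subobject E) :=
      { length := s.length + 1
        toFun := Fin.cons S s.toFun
        step := fun i => by
          refine Fin.cases ?_ (fun j => ?_) i
          · exact hST
          · exact s.step j }
    refine hbad ⟨s', rfl, hl, fun i => Fin.cases hS.1 (fun j => hcoh j) i, fun i => Fin.cases hss (fun j => hfac j) i,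
      fun i j hij => ?_⟩
    obtain ⟨j', rfl⟩ : ∃ j' : Fin s.length, j = j'.succ :=
      ⟨⟨j.val - 1, by have : j.val < s.length + 1 := j.isLt; omega⟩, Fin.ext (by simp; omega)⟩
    rcases Fin.eq_zero_or_eq_succ i with rfl | ⟨i', rfl⟩
    · have hj' : j' = ⟨0, j'.pos⟩ := Fin.ext (by simp at hij; omega)
      rw [hj']
      exact hdec _ (s.step ⟨0, j'.pos⟩) (hcoh _)
    · exact hlt i' j' (by simp at hij; omega)
  have hz : IsZero ((⊥ : Subobject E) : X.Modules) := (isZero_zero _).of_iso Subobject.botCoeIsoZero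
  have hbot : Good ⊥ := by
    refine ⟨HilbPoly.isCoh_of_iso (IsZero.iso (isZero_kernel_of_mono (𝟙 E)) hz) (QCoh.isCoh_kernel hE hE (𝟙 E)), ?_⟩
    haveI : IsIso (cokernel.π (⊥ : Subobject E).arrow) := by
      rw [Subobject.bot_arrow]; infer_instance
    exact isPure_of_mono (asIso (cokernel.π (⊥ : Subobject E).arrow)).inv hp'
  obtain ⟨s, hh, hl, hcoh, hfac, hlt⟩ := hall ⊥ hbot
  refine ⟨s, hh, hl, hfac, fun i j hij => ?_⟩
  have key : ∀ a : Fin s.length, tq k L d ℓ (factor s a) =
      topPart ℓ d (hp k L (s a.succ : X.Modules) - hp k L (s a.castSucc : X.Modules)) := fun a =>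
    tq_eq hL (hfac a).2.2.1 (hfac a).1 (cokernel_data (k := k) hL (hcoh _) (hcoh _) (dim_sub hL hE hd (hcoh _)) _
      (hp_sub (k := k) hL hE hd (hcoh _)) (hp_sub (k := k) hL hE hd (hcoh _))).2.2
  rw [key i, key j]
  exact hlt i j hij

/-- The slope version. -/
theorem existsUnique_muHN (hL : CohB1.IsAmple L) {n : ℕ} (hn : 1 ≤ n) {F : X.Modules} (hF : Coh.IsCoh F)
    (htf : ShStab.IsPure X F n) :
    ∃! s : LTSeries (Subobject F),
      s.head = ⊥ ∧ s.last = ⊤ ∧
      (∀ i : Fin s.length,
        ShStab.IsPure X (StabCat.factor s i) n ∧ ShStab.IsMuSemistable k X L (StabCat.factor s i) n) ∧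
      ∀ (i j : Fin s.length), i.val + 1 = j.val →
        ∀ (p q : ℚ[X]), ShStab.IsHilbPoly k X L (StabCat.factor s i) p →
          ShStab.IsHilbPoly k X L (StabCat.factor s j) q →
          StabCat.hatSlope n q < StabCat.hatSlope n p := by
  have hiff : ∀ A : X.Modules, (ShStab.IsPure X A n ∧ ShStab.IsMuSemistable k X L A n) ↔ SSEll k L n 1 A := by
    intro A
    rw [← ssEll_iff hL]
    constructor
    · rintro ⟨hp', hc, h0, -, -, hss⟩
      refine ⟨hc, h0, hp', fun G g hg hG pG pA hpG hpA hpos hlt => ?_⟩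
      exact (red_topPart_one hn hpos (hpos.trans hlt)).1.2 (hss G g hg hG pG pA hpG hpA hpos hlt)
    · rintro ⟨hc, h0, hp', hss⟩
      refine ⟨hp', hc, h0, dim_of_isPure hp' hc h0, fun G g hg hG he => ?_, fun G g hg hG pG pA hpG hpA hpos hlt =>
        (red_topPart_one hn hpos (hpos.trans hlt)).1.1 (hss G g hg hG pG pA hpG hpA hpos hlt)⟩
      by_cases hG0 : IsZero G
      · rw [QCoh.support_eq_empty_of_isZero hG0 hG.1] at he
        haveI hE : IsEmpty (IrreducibleCloseds ↥(∅ : Set X)) :=
          ⟨fun s => s.2.1.ne_empty (Set.eq_empty_of_isEmpty s.1)⟩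
        rw [topologicalKrullDim, Order.krullDim_eq_bot_iff.2 hE, WithBot.bot_add] at he
        exact WithBot.bot_ne_coe he
      · haveI := hg
        rw [hp' G g hg hG hG0] at he
        have he' : (((n + 1 : ℕ) : ℕ∞) : WithBot ℕ∞) = ((n : ℕ∞) : WithBot ℕ∞) := he
        have : n + 1 = n := by exact_mod_cast he'
        omega
  have hlt : ∀ A B : X.Modules, SSEll k L n 1 A → SSEll k L n 1 B →
      (RedLT n (tq k L n 1 B) (tq k L n 1 A) ↔ hatSlope n (hp k L B) < hatSlope n (hp k L A)) := fun A B hA hB =>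
    (red_topPart_one hn (hB.data hL).2.2.1 (hA.data hL).2.2.1).2
  obtain ⟨s, hh, hl, hfac, hdec⟩ := exists_HNEll (k := k) (ℓ := 1) hL hF htf
  refine ⟨s, ⟨hh, hl, fun i => (hiff _).2 (hfac i), fun i j hij p q hp' hq => ?_⟩, ?_⟩
  · rw [isHilbPoly_unique hp' ((hfac i).data hL).1, isHilbPoly_unique hq ((hfac j).data hL).1]
    exact (hlt _ _ (hfac i) (hfac j)).1 (hdec i j hij)
  · rintro t ⟨hth, htl, htf', htdec⟩
    refine ell_unique_from (k := k) (d := n) (ℓ := 1) hL t.length t s rfl (hth.trans hh.symm) htl hl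
      ⟨fun i => (hiff _).1 (htf' i), fun i j hij => ?_⟩ ⟨hfac, hdec⟩
    have hi := (hiff _).1 (htf' i)
    have hj := (hiff _).1 (htf' j)
    exact (hlt _ _ hi hj).2 (htdec i j hij _ _ (hi.data hL).1 (hj.data hL).1)

end Groth.Agent.StabH89
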