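import Groth.Agent.TFCurvLib.AssTF
import Groth.Agent.CurveCohLib.Proper
import Groth.Agent.KFlatLib.Scheme.Exact
import Groth.Agent.ZClosLib.Basic
import Groth.Agent.QCoh.Support
import Groth.Agent.MorLib.Birat
import Groth.Agent.H23.TopDim
import Groth.Prelude.Def_TFOne

/-!
# Torsion-free quotients on subcurves
-/

set_option linter.style.haveILetI false
set_option linter.unusedSectionVars false
set_option backward.isDefEq.respectTransparency false
set_option backward.isDefEq.respectTransparency.types false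

universe u

open CategoryTheory CategoryTheory.Limits AlgebraicGeometry TopologicalSpace

noncomputable section

namespace Groth.Agent.StabH89

open Groth.Agent

variable {X : Scheme.{u}}

local notation "st" => DerSch.stalkFunctor X

/-! ### Generic points of reduced schemes -/

lemma isField_of_mem_genericPoints [AlgebraicGeometry.IsReduced X] {y : X} (hy : y ∈ genericPoints X) :
    IsField (X.presheaf.stalk y) := by
  have hss : Subsingleton (PrimeSpectrum (X.presheaf.stalk y)) := by
    refine ⟨fun a b => (X.fromSpecStalk y).isEmbedding.injective ?_⟩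
    have h : ∀ t, X.fromSpecStalk y t = y := fun t => by
      have hm : X.fromSpecStalk y t ∈ Set.range (X.fromSpecStalk y) := ⟨t, rfl⟩
      rw [Scheme.range_fromSpecStalk] at hm
      exact MorLib.Birat.eq_of_specializes_generic hy hm
    rw [h a, h b]
  refine IsLocalRing.isField_iff_maximalIdeal_eq.2 (eq_bot_iff.2 fun r hr => ?_)
  have h : r ∈ nilradical (X.presheaf.stalk y) := by
    rw [nilradical_eq_sInf]
    refine Submodule.mem_sInf.2 fun p hp => ?_
    have := congrArg PrimeSpectrum.asIdeal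
      (hss.elim ⟨p, hp⟩ (IsLocalRing.closedPoint (X.presheaf.stalk y)))
    change p = _ at this
    rw [this]
    exact hr
  rw [nilradical_eq_zero] at h
  exact h

lemma mem_genericPoints_of_isField {y : X} (hy : IsField (X.presheaf.stalk y)) : y ∈ genericPoints X := by
  refine ⟨isIrreducible_singleton.closure, fun T hT hle => ?_⟩
  obtain ⟨z, hz⟩ := QuasiSober.sober hT.closure isClosed_closure
  have hyT : y ∈ closure T := subset_closure (hle (subset_closure rfl))
  have := TFCurvLib.eq_of_specializes_of_isField hy (hz.specializes hyT)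
  subst this
  rw [hz.def]
  exact subset_closure

/-- On a scheme of pure dimension one the generic points are exactly the non-closed points. -/
lemma mem_genericPoints_of_not_isClosed (hpure : ∀ C ∈ irreducibleComponents (X : Type u), topologicalKrullDim C = 1)
    {y : X} (hy : ¬ IsClosed ({y} : Set X)) : y ∈ genericPoints X := by
  obtain ⟨η, hη, hηy⟩ := MorLib.Birat.exists_generic y
  by_cases he : y = η
  · rwa [he]
  exfalso
  obtain ⟨z, hzy, hne⟩ : ∃ z ∈ closure ({y} : Set X), z ≠ y := by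
    by_contra hn
    push Not at hn
    exact hy (closure_eq_iff_isClosed.1 (Set.Subset.antisymm (fun z hz => hn z hz) subset_closure))
  let a : IrreducibleCloseds X := ⟨closure {z}, isIrreducible_singleton.closure, isClosed_closure⟩
  let b : IrreducibleCloseds X := ⟨closure {y}, isIrreducible_singleton.closure, isClosed_closure⟩
  let c : IrreducibleCloseds X := ⟨closure {η}, isIrreducible_singleton.closure, isClosed_closure⟩
  have key : ∀ {p q : X}, q ⤳ p → p ≠ q → ¬ (closure ({q} : Set X) ⊆ closure {p}) := fun {p q} h hne hsub =>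
    hne (h.antisymm (specializes_iff_mem_closure.2 (hsub (subset_closure rfl)))).eq.symm
  have hab : a < b := lt_of_le_not_ge (closure_minimal (Set.singleton_subset_iff.2 hzy) isClosed_closure)
    (key (specializes_iff_mem_closure.2 hzy) hne)
  have hbc : b < c := lt_of_le_not_ge
    (closure_minimal (Set.singleton_subset_iff.2 (specializes_iff_mem_closure.1 hηy)) isClosed_closure)
    (key hηy he)
  have h2 := H23.TopDim.length_le_dim_subset (((RelSeries.singleton _ c).cons b hbc).cons a (by
    rw [RelSeries.head_cons]; exact hab)) (S := closure ({η} : Set X)) (by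
    rw [RelSeries.last_cons, RelSeries.last_cons]; exact subset_refl _)
  rw [hpure _ hη] at h2
  change ((2 : ℕ) : WithBot ℕ∞) ≤ ((1 : ℕ) : WithBot ℕ∞) at h2
  norm_cast at h2

lemma mem_sUnion_components_iff {y : X} (hy : y ∈ genericPoints X) {S : Set X} (hS : IsClosed S) :
    y ∈ ⋃₀ {C | C ∈ irreducibleComponents (X : Type u) ∧ C ⊆ S} ↔ y ∈ S :=
  ⟨fun ⟨_, hC, hyC⟩ => hC.2 hyC, fun h =>
    ⟨closure {y}, ⟨hy, closure_minimal (Set.singleton_subset_iff.2 h) hS⟩, subset_closure rfl⟩⟩

/-! ### Morphisms into torsion-free modules -/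

lemma hom_eq_zero_of_gen [IsLocallyNoetherian X] [AlgebraicGeometry.IsReduced X] {F G : X.Modules}
    (hG : Coh.IsQCoh G) (htG : TorSh.IsTorsionFree G) (φ : F ⟶ G)
    (h : ∀ y ∈ genericPoints X, (st y).map φ = 0) : φ = 0 := by
  refine Scheme.Modules.hom_ext _ _ fun U => ?_
  ext s
  show φ.app U s = 0
  refine TFCurvLib.eq_zero_of_germ_isField hG htG _ fun y hy hyf => ?_
  rw [← DerSch.stalkFunctor_map_germ, h y (mem_genericPoints_of_isField hyf)]
  rfl

lemma stalk_eq_zero {M : X.Modules} {y : X} (h : y ∉ CohB1.support M) (m : (st y).obj M) : m = 0 :=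
  (not_not.1 h : Subsingleton (M.presheaf.stalk y)).elim _ _

lemma map_eq_zero_of_notMem {F G : X.Modules} {y : X} (h : y ∉ CohB1.support G) (φ : F ⟶ G) :
    (st y).map φ = 0 := by
  ext m; exact stalk_eq_zero h _

/-- A torsion-free quotient on `T` is the identity at the generic points inside `T`. -/
lemma isIso_stalk_quot [AlgebraicGeometry.IsReduced X] {M G : X.Modules} (hM : TFOne.IsRkOne X M) {T : Set X}
    {π : M ⟶ G} (h : TFOne.IsQuotOn X M T G π) {y : X} (hy : y ∈ genericPoints X) (hyT : y ∈ T) :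
    IsIso ((st y).map π) := by
  haveI := h.1
  letI := (isField_of_mem_genericPoints hy).toField
  obtain ⟨e⟩ := hM y hy
  have hsurj : Function.Surjective ((st y).map π) :=
    (ModuleCat.epi_iff_surjective _).1 (inferInstance : Epi ((st y).map π))
  have hnt : Nontrivial (G.presheaf.stalk y) :=
    not_subsingleton_iff_nontrivial.1 ((Set.ext_iff.1 h.2.2.2 y).2 hyT)
  refine (ConcreteCategory.isIso_iff_bijective _).2 ⟨?_, hsurj⟩
  rw [injective_iff_map_eq_zero]
  intro m hm
  by_contra hm0
  obtain ⟨g, hg⟩ := exists_ne (0 : G.presheaf.stalk y)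
  obtain ⟨n, hn⟩ := hsurj g
  apply hg
  have hem : e m ≠ 0 := fun h0 => hm0 (e.injective (h0.trans (map_zero e).symm))
  have : n = (e n / e m) • m := e.injective (by rw [map_smul, smul_eq_mul, div_mul_cancel₀ _ hem])
  rw [← hn, this, map_smul, hm, smul_zero]

/-- The quotient on a smaller set factors through the quotient on a larger one. -/
lemma exists_factor [IsLocallyNoetherian X] [AlgebraicGeometry.IsReduced X] {M G G' : X.Modules}
    (hM : TFOne.IsRkOne X M) {T T' : Set X} {π : M ⟶ G} (h : TFOne.IsQuotOn X M T G π) {π' : M ⟶ G'}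
    (h' : TFOne.IsQuotOn X M T' G' π') (hTT : ∀ y ∈ genericPoints X, y ∈ T → y ∈ T') :
    ∃ p : G' ⟶ G, Epi p ∧ π' ≫ p = π := by
  haveI := h'.1
  haveI := h.1
  have hz : kernel.ι π' ≫ π = 0 := by
    refine hom_eq_zero_of_gen h.2.1.1 h.2.2.1 _ fun y hy => ?_
    by_cases hyT : y ∈ T
    · haveI := isIso_stalk_quot hM h' hy (hTT y hy hyT)
      have h0 : (st y).map (kernel.ι π') = 0 := by
        rw [← cancel_mono ((st y).map π'), ← Functor.map_comp, kernel.condition, Functor.map_zero, zero_comp]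
      rw [Functor.map_comp, h0, zero_comp]
    · exact map_eq_zero_of_notMem (by rwa [h.2.2.2]) _
  let p : G' ⟶ G := (Abelian.epiIsCokernelOfKernel _ (limit.isLimit _)).desc (CokernelCofork.ofπ π hz)
  have hp : π' ≫ p = π :=
    (Abelian.epiIsCokernelOfKernel _ (limit.isLimit _)).fac (CokernelCofork.ofπ π hz) WalkingParallelPair.one
  haveI : Epi (π' ≫ p) := hp.symm ▸ h.1
  exact ⟨p, epi_of_epi π' p, hp⟩

lemma isIso_stalk_factor [AlgebraicGeometry.IsReduced X] {M G G' : X.Modules} (hM : TFOne.IsRkOne X M)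
    {T T' : Set X} {π : M ⟶ G} (h : TFOne.IsQuotOn X M T G π) {π' : M ⟶ G'}
    (h' : TFOne.IsQuotOn X M T' G' π') {p : G' ⟶ G} (hp : π' ≫ p = π) {y : X} (hy : y ∈ genericPoints X)
    (hT : y ∈ T) (hT' : y ∈ T') : IsIso ((st y).map p) := by
  haveI := isIso_stalk_quot hM h hy hT
  haveI := isIso_stalk_quot hM h' hy hT'
  haveI : IsIso ((st y).map π' ≫ (st y).map p) := by
    rw [← Functor.map_comp, hp]; infer_instance
  exact IsIso.of_isIso_comp_left ((st y).map π') _

/-! ### Modification inequality -/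

section Euler

variable (k : Type u) [Field k] [X.Over (Spec (CommRingCat.of k))] [IsProper (X ↘ Spec (CommRingCat.of k))]

lemma euler_kernel {A B : X.Modules} (hA : Coh.IsCoh A) (hB : Coh.IsCoh B) (p : A ⟶ B) [Epi p] :
    Curv2.euler k X A = Curv2.euler k X (kernel p) + Curv2.euler k X B := by
  haveI : IsNoetherian X := CurveCohLib.isNoetherian_of_proper (k := k)
  exact CurveCohLib.euler_additive (k := k) (S := ShortComplex.mk (kernel.ι p) p (kernel.condition p))
    { exact := ShortComplex.exact_of_f_is_kernel _ (kernelIsKernel p) } (QCoh.isCoh_kernel hA hB p) hA hB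

/-- Monotonicity along a monomorphism which is onto at the generic points. -/
lemma euler_le_of_gen (hpure : ∀ C ∈ irreducibleComponents (X : Type u), topologicalKrullDim C = 1)
    {A B : X.Modules} (hA : Coh.IsCoh A) (hB : Coh.IsCoh B) (f : A ⟶ B) [Mono f]
    (h : ∀ y ∈ genericPoints X, Epi ((st y).map f)) :
    Curv2.euler k X A ≤ Curv2.euler k X B ∧ (Curv2.euler k X A = Curv2.euler k X B ↔ IsIso f) := by
  refine CurveCohLib.euler_le_of_mono (k := k) f hA hB fun x hx => ?_
  by_contra hc
  haveI := h x (mem_genericPoints_of_not_isClosed hpure hc)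
  apply hx
  refine subsingleton_of_forall_eq 0 fun t => ?_
  obtain ⟨b, hb⟩ := (ModuleCat.epi_iff_surjective ((st x).map (cokernel.π f))).1 inferInstance t
  obtain ⟨a, ha⟩ := (ModuleCat.epi_iff_surjective ((st x).map f)).1 inferInstance b
  rw [← hb, ← ha]
  have := ConcreteCategory.congr_hom ((st x).map_comp f (cokernel.π f)) a
  rw [cokernel.condition, Functor.map_zero] at this
  exact this.symm

include k in
/-- The map between the kernels to the two sides of the square of quotients. -/
theorem exists_kernel_map [AlgebraicGeometry.IsReduced X] {M : X.Modules}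
    (hM : TFOne.IsRkOne X M) {Y Z W : Set X} (hW : ∀ y ∈ genericPoints X, (y ∈ W ↔ y ∈ Y ∧ y ∈ Z))
    {GY GZ GU GW : X.Modules} {πY : M ⟶ GY} {πZ : M ⟶ GZ} {πU : M ⟶ GU} {πW : M ⟶ GW}
    (hGY : TFOne.IsQuotOn X M Y GY πY) (hGZ : TFOne.IsQuotOn X M Z GZ πZ)
    (hGU : TFOne.IsQuotOn X M (Y ∪ Z) GU πU) (hGW : TFOne.IsQuotOn X M W GW πW) :
    ∃ (p : GU ⟶ GY) (_ : Epi p) (s : GZ ⟶ GW) (_ : Epi s) (φ : kernel p ⟶ kernel s),
      Mono φ ∧ ∀ y ∈ genericPoints X, Epi ((st y).map φ) := by
  haveI : IsNoetherian X := CurveCohLib.isNoetherian_of_proper (k := k)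
  haveI := hGU.1
  obtain ⟨p, hpe, hp⟩ := exists_factor hM hGY hGU fun _ _ h => Or.inl h
  obtain ⟨q, hqe, hq⟩ := exists_factor hM hGZ hGU fun _ _ h => Or.inr h
  obtain ⟨r, hre, hr⟩ := exists_factor hM hGW hGY fun y hy h => ((hW y hy).1 h).1
  obtain ⟨s, hse, hs⟩ := exists_factor hM hGW hGZ fun y hy h => ((hW y hy).1 h).2
  have hsq : p ≫ r = q ≫ s := by
    rw [← cancel_epi πU, ← Category.assoc, hp, hr, ← Category.assoc, hq, hs]
  let φ : kernel p ⟶ kernel s := kernel.map p s q r hsq
  have hφ : φ ≫ kernel.ι s = kernel.ι p ≫ q := kernel.lift_ι _ _ _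
  have hmono : Mono φ := by
    refine Preadditive.mono_of_cancel_zero _ fun {K} g hg => ?_
    have hgq : (g ≫ kernel.ι p) ≫ q = 0 := by rw [Category.assoc, ← hφ, reassoc_of% hg, zero_comp]
    have hgp : (g ≫ kernel.ι p) ≫ p = 0 := by simp
    rw [← cancel_mono (kernel.ι p), zero_comp]
    refine hom_eq_zero_of_gen hGU.2.1.1 hGU.2.2.1 _ fun y hy => ?_
    by_cases hyY : y ∈ Y
    · haveI := isIso_stalk_factor hM hGY hGU hp hy hyY (Or.inl hyY)
      rw [← cancel_mono ((st y).map p), ← Functor.map_comp, hgp, Functor.map_zero, zero_comp]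
    · by_cases hyZ : y ∈ Z
      · haveI := isIso_stalk_factor hM hGZ hGU hq hy hyZ (Or.inr hyZ)
        rw [← cancel_mono ((st y).map q), ← Functor.map_comp, hgq, Functor.map_zero, zero_comp]
      · exact map_eq_zero_of_notMem (by rw [hGU.2.2.2]; exact fun h => h.elim hyY hyZ) _
  have hepi : ∀ y ∈ genericPoints X, Epi ((st y).map φ) := by
    intro y hy
    refine (ModuleCat.epi_iff_surjective _).2 fun t => ?_
    have hinj : Function.Injective ((st y).map (kernel.ι s)) :=
      (ModuleCat.mono_iff_injective _).1 inferInstance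
    by_cases hyW : y ∈ W
    · haveI := isIso_stalk_factor hM hGW hGZ hs hy hyW ((hW y hy).1 hyW).2
      refine ⟨0, hinj ?_⟩
      have hs0 : (st y).map (kernel.ι s) = 0 := by
        rw [← cancel_mono ((st y).map s), ← Functor.map_comp, kernel.condition, Functor.map_zero, zero_comp]
      rw [hs0]; rfl
    by_cases hyZ : y ∈ Z
    · have hyY : y ∉ Y := fun h => hyW ((hW y hy).2 ⟨h, hyZ⟩)
      haveI := isIso_stalk_factor hM hGZ hGU hq hy hyZ (Or.inr hyZ)
      obtain ⟨a, ha⟩ := (ConcreteCategory.bijective_of_isIso ((st y).map q)).2 ((st y).map (kernel.ι s) t)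
      have hex : ((ShortComplex.mk (kernel.ι p) p (kernel.condition p)).map (st y)).Exact :=
        (ShortComplex.exact_of_f_is_kernel (ShortComplex.mk (kernel.ι p) p (kernel.condition p))
          (kernelIsKernel p)).map (st y)
      obtain ⟨b, hb⟩ := (ShortComplex.moduleCat_exact_iff _).1 hex a
        (stalk_eq_zero (by rwa [hGY.2.2.2]) _)
      change (st y).map (kernel.ι p) b = a at hb
      refine ⟨b, hinj ?_⟩
      rw [← ConcreteCategory.comp_apply, ← Functor.map_comp, hφ, Functor.map_comp, ConcreteCategory.comp_apply,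
        hb, ha]
    · exact ⟨0, hinj ((stalk_eq_zero (by rwa [hGZ.2.2.2]) _).trans (stalk_eq_zero (by rwa [hGZ.2.2.2]) _).symm)⟩
  exact ⟨p, hpe, s, hse, φ, hmono, hepi⟩

/-- `χ(M_{Y ∪ Z}) + χ(M_W) ≤ χ(M_Y) + χ(M_Z)`. -/
theorem euler_union_le [AlgebraicGeometry.IsReduced X]
    (hpure : ∀ C ∈ irreducibleComponents (X : Type u), topologicalKrullDim C = 1) {M : X.Modules}
    (hM : TFOne.IsRkOne X M) {Y Z W : Set X} (hW : ∀ y ∈ genericPoints X, (y ∈ W ↔ y ∈ Y ∧ y ∈ Z))
    {GY GZ GU GW : X.Modules} {πY : M ⟶ GY} {πZ : M ⟶ GZ} {πU : M ⟶ GU} {πW : M ⟶ GW}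
    (hGY : TFOne.IsQuotOn X M Y GY πY) (hGZ : TFOne.IsQuotOn X M Z GZ πZ)
    (hGU : TFOne.IsQuotOn X M (Y ∪ Z) GU πU) (hGW : TFOne.IsQuotOn X M W GW πW) :
    Curv2.euler k X GU + Curv2.euler k X GW ≤ Curv2.euler k X GY + Curv2.euler k X GZ := by
  haveI : IsNoetherian X := CurveCohLib.isNoetherian_of_proper (k := k)
  obtain ⟨p, hpe, s, hse, φ, hmono, hepi⟩ := exists_kernel_map k hM hW hGY hGZ hGU hGW
  haveI := hmono
  have h := (euler_le_of_gen k hpure (QCoh.isCoh_kernel hGU.2.1 hGY.2.1 p)
    (QCoh.isCoh_kernel hGZ.2.1 hGW.2.1 s) φ hepi).1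
  rw [euler_kernel k hGU.2.1 hGY.2.1 p, euler_kernel k hGZ.2.1 hGW.2.1 s]
  linarith

end Euler

end Groth.Agent.StabH89
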