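import Groth.Agent.StabH89.TFQuot
import Groth.Agent.AmpleVan.ThickPush
import Groth.Agent.QCoh.DevissageP
import Groth.Agent.H23.RedSub

/-!
# Simple torsion-free sheaves on reduced curves
-/

set_option linter.style.haveILetI false
set_option linter.unusedSectionVars false
set_option backward.isDefEq.respectTransparency false
set_option backward.isDefEq.respectTransparency.types false

universe u

open CategoryTheory CategoryTheory.Limits AlgebraicGeometry TopologicalSpace Opposite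

noncomputable section

namespace Groth.Agent.StabH89

open Groth.Agent

variable {X : Scheme.{u}}

local notation "st" => DerSch.stalkFunctor X

/-! ### Multiplication by scalars -/

section Scalar

variable {k : Type u} [Field k] [X.Over (Spec (CommRingCat.of k))]

lemma smulMod_sub' (M : X.Modules) (a b : k) :
    Formal.smulMod k M a - Formal.smulMod k M b = Formal.smulMod k M (a - b) := by
  rw [sub_eq_iff_eq_add, ← FFun.smulMod_add, sub_add_cancel]

lemma isIso_smulMod (M : X.Modules) {c : k} (hc : c ≠ 0) : IsIso (Formal.smulMod k M c) :=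
  ⟨Formal.smulMod k M c⁻¹, by rw [← FFun.smulMod_mul, inv_mul_cancel₀ hc, FFun.smulMod_one],
    by rw [← FFun.smulMod_mul, mul_inv_cancel₀ hc, FFun.smulMod_one]⟩

lemma eq_zero_of_stalk_smulMod {M : X.Modules} {y : X} (hy : y ∈ CohB1.support M) {c : k}
    (h : (st y).map (Formal.smulMod k M c) = 0) : c = 0 := by
  by_contra hc
  haveI := isIso_smulMod M hc
  have hb := (ConcreteCategory.bijective_of_isIso ((st y).map (Formal.smulMod k M c))).1
  rw [h] at hb
  exact hy ⟨fun a b => hb rfl⟩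

end Scalar

lemma support_of_rkOne [AlgebraicGeometry.IsReduced X] {M : X.Modules} (hM : TFOne.IsRkOne X M) {y : X}
    (hy : y ∈ genericPoints X) : y ∈ CohB1.support M := fun h => by
  obtain ⟨e⟩ := hM y hy
  haveI := h
  haveI := e.symm.toEquiv.subsingleton
  exact not_subsingleton (X.presheaf.stalk y) inferInstance

/-- A morphism out of `M` into a torsion-free module supported in `T` factors through `M_T`. -/
lemma exists_desc [IsLocallyNoetherian X] [AlgebraicGeometry.IsReduced X] {M G H : X.Modules}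
    (hM : TFOne.IsRkOne X M) {T : Set X} {π : M ⟶ G} (h : TFOne.IsQuotOn X M T G π) (hH : Coh.IsQCoh H)
    (htH : TorSh.IsTorsionFree H) (hs : ∀ y ∈ genericPoints X, y ∈ CohB1.support H → y ∈ T) (ψ : M ⟶ H) :
    ∃ g : G ⟶ H, π ≫ g = ψ := by
  haveI := h.1
  have hz : kernel.ι π ≫ ψ = 0 := by
    refine hom_eq_zero_of_gen hH htH _ fun y hy => ?_
    by_cases hyH : y ∈ CohB1.support H
    · haveI := isIso_stalk_quot hM h hy (hs y hy hyH)
      have h0 : (st y).map (kernel.ι π) = 0 := by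
        rw [← cancel_mono ((st y).map π), ← Functor.map_comp, kernel.condition, Functor.map_zero, zero_comp]
      rw [Functor.map_comp, h0, zero_comp]
    · exact map_eq_zero_of_notMem hyH _
  exact ⟨(Abelian.epiIsCokernelOfKernel _ (limit.isLimit _)).desc (CokernelCofork.ofπ ψ hz),
    (Abelian.epiIsCokernelOfKernel _ (limit.isLimit _)).fac (CokernelCofork.ofπ ψ hz) WalkingParallelPair.one⟩

theorem isSimple_of_quotients [IsLocallyNoetherian X] [AlgebraicGeometry.IsReduced X] (k : Type u) [Field k]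
    [X.Over (Spec (CommRingCat.of k))] {M : X.Modules} (hM : TFOne.IsTF1 X M) {Y Z : Set X}
    (hcov : Y ∪ Z = Set.univ) {η : X} (hη : η ∈ genericPoints X) (hηY : η ∈ Y) (hηZ : η ∈ Z)
    {GY GZ : X.Modules} {πY : M ⟶ GY} {πZ : M ⟶ GZ} (hGY : TFOne.IsQuotOn X M Y GY πY)
    (hGZ : TFOne.IsQuotOn X M Z GZ πZ) (hsY : TFOne.IsSimple X k (X ↘ Spec (CommRingCat.of k)) GY)
    (hsZ : TFOne.IsSimple X k (X ↘ Spec (CommRingCat.of k)) GZ) :
    TFOne.IsSimple X k (X ↘ Spec (CommRingCat.of k)) M := by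
  refine ⟨fun hz => ?_, fun φ => ?_⟩
  · haveI := hGY.1
    exact hsY.1 (IsZero.of_epi πY hz)
  obtain ⟨gY, hgY⟩ := exists_desc hM.2.2 hGY hGY.2.1.1 hGY.2.2.1 (fun y _ h => hGY.2.2.2 ▸ h) (φ ≫ πY)
  obtain ⟨gZ, hgZ⟩ := exists_desc hM.2.2 hGZ hGZ.2.1.1 hGZ.2.2.1 (fun y _ h => hGZ.2.2.2 ▸ h) (φ ≫ πZ)
  obtain ⟨c, hc⟩ := hsY.2 gY
  obtain ⟨c', hc'⟩ := hsZ.2 gZ
  have key : ∀ {T : Set X} {G : X.Modules} {π : M ⟶ G}, TFOne.IsQuotOn X M T G π → ∀ {g : G ⟶ G},
      π ≫ g = φ ≫ π → ∀ {e : k}, g = Formal.smulMod k G e → ∀ y ∈ genericPoints X, y ∈ T →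
      (st y).map (φ - Formal.smulMod k M e) = 0 := by
    intro T G π h g hg e he y hy hyT
    haveI := isIso_stalk_quot hM.2.2 h hy hyT
    rw [← cancel_mono ((st y).map π), ← Functor.map_comp, Preadditive.sub_comp, ← hg, he,
      FFun.smulMod_naturality, sub_self, Functor.map_zero, zero_comp]
  have hY := key hGY hgY hc
  have hZ := key hGZ hgZ hc'
  obtain rfl : c = c' := by
    refine sub_eq_zero.1 (eq_zero_of_stalk_smulMod (support_of_rkOne hM.2.2 hη) ?_)
    have h1 := hY η hη hηY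
    have h2 := hZ η hη hηZ
    rw [show Formal.smulMod k M (c - c') = (φ - Formal.smulMod k M c') - (φ - Formal.smulMod k M c) by
      rw [← smulMod_sub']; abel, Functor.map_sub, h1, h2, sub_zero]
  refine ⟨c, sub_eq_zero.1 (hom_eq_zero_of_gen hM.1.1 hM.2.1 _ fun y hy => ?_)⟩
  rcases (hcov.ge (Set.mem_univ y) : y ∈ Y ∪ Z) with h | h
  · exact hY y hy h
  · exact hZ y hy h

/-! ### Direct images from subcurves -/

section Push

variable {Z : Scheme.{u}} (i : Z ⟶ X) [IsClosedImmersion i]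

lemma support_push_of_mem [IsLocallyNoetherian Z] {J : Z.Modules} {z : Z} (hz : z ∈ CohB1.support J) :
    i z ∈ CohB1.support ((Coh.push i).obj J) := fun hsub => hz <| by
  refine subsingleton_of_forall_eq 0 fun t => ?_
  obtain ⟨W, hzW, s, rfl⟩ := TopCat.Presheaf.exists_germ_eq J.presheaf t
  obtain ⟨O, hO, hOW⟩ := (IsClosedImmersion.base_closed (f := i)).isInducing.isOpen_iff.1 W.2
  obtain rfl : i ⁻¹ᵁ (⟨O, hO⟩ : X.Opens) = W := Opens.ext hOW
  obtain ⟨V, hV, i₁, i₂, he⟩ := ((Coh.push i).obj J).presheaf.germ_eq (U := ⟨O, hO⟩) (V := ⟨O, hO⟩)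
    (i z) hzW hzW s 0 (@Subsingleton.elim _ hsub _ _)
  rw [map_zero] at he
  exact AssLib.germ_eq_zero_of_res_eq_zero (M := J) (show i ⁻¹ᵁ V ≤ i ⁻¹ᵁ (⟨O, hO⟩ : X.Opens) from fun w hw => i₁.le hw)
    hV s he

/-- Morphisms into a direct image of a torsion-free module are detected at the generic points. -/
lemma hom_push_eq_zero_of_gen [IsLocallyNoetherian Z] [AlgebraicGeometry.IsReduced Z] {J : Z.Modules}
    (hJ : Coh.IsQCoh J) (htJ : TorSh.IsTorsionFree J)
    (hg : ∀ z ∈ genericPoints Z, i z ∈ genericPoints X) {F : X.Modules} (φ : F ⟶ (Coh.push i).obj J)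
    (h : ∀ y ∈ genericPoints X, (st y).map φ = 0) : φ = 0 := by
  refine Scheme.Modules.hom_ext _ _ fun U => ?_
  ext s
  show φ.app U s = 0
  refine TFCurvLib.eq_zero_of_germ_isField hJ htJ (U := i ⁻¹ᵁ U) (φ.app U s) fun z hz hzf => ?_
  have h1 : ((Coh.push i).obj J).presheaf.germ U (i z) hz (φ.app U s) = 0 := by
    rw [← DerSch.stalkFunctor_map_germ, h _ (hg z (mem_genericPoints_of_isField hzf))]
    rfl
  obtain ⟨V, hV, i₁, i₂, he⟩ := ((Coh.push i).obj J).presheaf.germ_eq (i z) hz hz (φ.app U s) 0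
    (h1.trans (map_zero _).symm)
  rw [map_zero] at he
  exact AssLib.germ_eq_zero_of_res_eq_zero (M := J) (show i ⁻¹ᵁ V ≤ i ⁻¹ᵁ U from fun w hw => i₁.le hw) hV _ he

end Push

/-! ### Generic points of subcurves -/

lemma range_subschι {Y : Set X} (hY : IsClosed Y) : Set.range (VecSt.subschι X Y hY) = Y := by
  rw [Scheme.IdealSheafData.range_subschemeι, Scheme.IdealSheafData.coe_support_vanishingIdeal]
  rfl

lemma exists_generic_of_subcurve {Y : Set X} (hYs : VecSt.IsSubcurve X Y) {y : X} (hy : y ∈ Y) :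
    ∃ η ∈ genericPoints X, η ∈ Y ∧ η ⤳ y := by
  obtain ⟨S, hS, -, hYeq⟩ := hYs
  rw [hYeq] at hy
  obtain ⟨C, hC, hyC⟩ := hy
  obtain ⟨η, hη⟩ := QuasiSober.sober (hS hC).1 (isClosed_of_mem_irreducibleComponents C (hS hC))
  refine ⟨η, ?_, hYeq ▸ ⟨C, hC, hη.mem⟩, hη.specializes hyC⟩
  show closure {η} ∈ irreducibleComponents (X : Type u)
  rw [hη.def]
  exact hS hC

lemma exists_generic_mem {Y : Set X} (hYs : VecSt.IsSubcurve X Y) : ∃ η ∈ genericPoints X, η ∈ Y := by
  obtain ⟨y, hy⟩ : Y.Nonempty := by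
    obtain ⟨S, hS, ⟨C, hC⟩, hYeq⟩ := hYs
    obtain ⟨y, hy⟩ := (hS hC).1.nonempty
    exact ⟨y, hYeq ▸ ⟨C, hC, hy⟩⟩
  obtain ⟨η, hη, hηY, -⟩ := exists_generic_of_subcurve hYs hy
  exact ⟨η, hη, hηY⟩

lemma genericPoints_subsch {Y : Set X} (hY : IsClosed Y) (hYs : VecSt.IsSubcurve X Y)
    (z : VecSt.subsch X Y hY) : z ∈ genericPoints (VecSt.subsch X Y hY) ↔ VecSt.subschι X Y hY z ∈ genericPoints X := by
  have hemb := (IsClosedImmersion.base_closed (f := VecSt.subschι X Y hY))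
  constructor
  · intro hz
    obtain ⟨η, hη, hηY, hsp⟩ := exists_generic_of_subcurve hYs ((range_subschι hY).le ⟨z, rfl⟩)
    obtain ⟨w, rfl⟩ := (range_subschι hY).ge hηY
    rw [← MorLib.Birat.eq_of_specializes_generic hz (hemb.isInducing.specializes_iff.1 hsp)]
    exact hη
  · intro hz
    obtain ⟨w, hw, hsp⟩ := MorLib.Birat.exists_generic z
    have := MorLib.Birat.eq_of_specializes_generic hz (hsp.map hemb.continuous)
    rwa [← hemb.injective this]

lemma support_push_subsch {Y : Set X} (hY : IsClosed Y) {I : (VecSt.subsch X Y hY).Modules} (hI : Coh.IsQCoh I)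
    {y : X} (hy : y ∈ CohB1.support ((Coh.push (VecSt.subschι X Y hY)).obj I)) : y ∈ Y :=
  (range_subschι hY).le (QCoh.support_push_subset _ hI hy)

lemma generic_mem_support_push {Y : Set X} (hY : IsClosed Y) (hYs : VecSt.IsSubcurve X Y)
    [AlgebraicGeometry.IsReduced (VecSt.subsch X Y hY)] [IsLocallyNoetherian (VecSt.subsch X Y hY)]
    {I : (VecSt.subsch X Y hY).Modules}
    (hI : TFOne.IsRkOne _ I) {y : X} (hy : y ∈ genericPoints X) (hyY : y ∈ Y) :
    y ∈ CohB1.support ((Coh.push (VecSt.subschι X Y hY)).obj I) := by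
  obtain ⟨z, rfl⟩ := (range_subschι hY).ge hyY
  exact support_push_of_mem _ (support_of_rkOne hI ((genericPoints_subsch hY hYs z).2 hy))

theorem isSimple_iff_not_split [IsLocallyNoetherian X] [AlgebraicGeometry.IsReduced X] (k : Type u) [Field k]
    [X.Over (Spec (CommRingCat.of k))] {Y Z : Set X} (hY : IsClosed Y) (hZ : IsClosed Z)
    (hYs : VecSt.IsSubcurve X Y) (hZs : VecSt.IsSubcurve X Z) {M : X.Modules} (hM : TFOne.IsTF1 X M)
    {I : (VecSt.subsch X Y hY).Modules} (hI : TFOne.IsTF1 (VecSt.subsch X Y hY) I)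
    (hIs : TFOne.IsSimple (VecSt.subsch X Y hY) k (VecSt.subschι X Y hY ≫ (X ↘ Spec (CommRingCat.of k))) I)
    {J : (VecSt.subsch X Z hZ).Modules} (hJ : TFOne.IsTF1 (VecSt.subsch X Z hZ) J)
    (hJs : TFOne.IsSimple (VecSt.subsch X Z hZ) k (VecSt.subschι X Z hZ ≫ (X ↘ Spec (CommRingCat.of k))) J)
    (a : (Coh.push (VecSt.subschι X Y hY)).obj I ⟶ M) (b : M ⟶ (Coh.push (VecSt.subschι X Z hZ)).obj J)
    (w : a ≫ b = 0) (hex : (ShortComplex.mk a b w).ShortExact) :
    TFOne.IsSimple X k (X ↘ Spec (CommRingCat.of k)) M ↔ ¬ IsSplitEpi b := by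
  haveI : Mono a := hex.mono_f
  haveI : Epi b := hex.epi_g
  haveI : AlgebraicGeometry.IsReduced (VecSt.subsch X Y hY) := H23.RedSub.isReduced_vanishingIdeal _
  haveI : AlgebraicGeometry.IsReduced (VecSt.subsch X Z hZ) := H23.RedSub.isReduced_vanishingIdeal _
  haveI : IsLocallyNoetherian (VecSt.subsch X Y hY) := LocallyOfFiniteType.isLocallyNoetherian (VecSt.subschι X Y hY)
  haveI : IsLocallyNoetherian (VecSt.subsch X Z hZ) := LocallyOfFiniteType.isLocallyNoetherian (VecSt.subschι X Z hZ)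
  letI : (VecSt.subsch X Y hY).Over (Spec (CommRingCat.of k)) := ⟨(VecSt.subschι X Y hY) ≫ (X ↘ Spec (CommRingCat.of k))⟩
  letI : (VecSt.subsch X Z hZ).Over (Spec (CommRingCat.of k)) := ⟨(VecSt.subschι X Z hZ) ≫ (X ↘ Spec (CommRingCat.of k))⟩
  have hA : ∀ y ∈ genericPoints X, y ∈ Y → y ∈ CohB1.support ((Coh.push (VecSt.subschι X Y hY)).obj I) :=
    fun y hy h => generic_mem_support_push hY hYs hI.2.2 hy h
  have hB : ∀ y ∈ genericPoints X, y ∈ Z → y ∈ CohB1.support ((Coh.push (VecSt.subschι X Z hZ)).obj J) :=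
    fun y hy h => generic_mem_support_push hZ hZs hJ.2.2 hy h
  have hdisj : ∀ y ∈ genericPoints X, y ∈ Y → y ∉ Z := by
    intro y hy hyY hyZ
    letI := (isField_of_mem_genericPoints hy).toField
    obtain ⟨e⟩ := hM.2.2 y hy
    haveI := not_subsingleton_iff_nontrivial.1 (hA y hy hyY)
    obtain ⟨a0, ha0⟩ := exists_ne (0 : ((Coh.push (VecSt.subschι X Y hY)).obj I).presheaf.stalk y)
    have hinj : Function.Injective ((st y).map a) := (ModuleCat.mono_iff_injective _).1 inferInstance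
    have hm0 : e ((st y).map a a0) ≠ 0 := fun h0 => ha0 (hinj ((e.injective (h0.trans (map_zero e).symm)).trans
      (map_zero ((st y).map a).hom).symm))
    refine hB y hy hyZ ⟨fun s t => ?_⟩
    have hz : ∀ t, t = (0 : ((Coh.push (VecSt.subschι X Z hZ)).obj J).presheaf.stalk y) := fun t => by
      obtain ⟨m, rfl⟩ := (ModuleCat.epi_iff_surjective ((st y).map b)).1 inferInstance t
      have hm : m = (e m / e ((st y).map a a0)) • (st y).map a a0 :=
        e.injective (by rw [map_smul, smul_eq_mul, div_mul_cancel₀ _ hm0])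
      rw [hm, map_smul, ← ConcreteCategory.comp_apply, ← Functor.map_comp, w, Functor.map_zero]
      exact smul_zero _
    rw [hz s, hz t]
  have hIq := hI.1.1
  have hJq := hJ.1.1
  have hgY : ∀ z ∈ genericPoints (VecSt.subsch X Y hY), (VecSt.subschι X Y hY) z ∈ genericPoints X :=
    fun z => (genericPoints_subsch hY hYs z).1
  have hgZ : ∀ z ∈ genericPoints (VecSt.subsch X Z hZ), (VecSt.subschι X Z hZ) z ∈ genericPoints X :=
    fun z => (genericPoints_subsch hZ hZs z).1
  constructor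
  · rintro ⟨-, hs⟩ hsplit
    haveI := hsplit
    obtain ⟨c, hc⟩ := hs (b ≫ section_ b)
    have hc0 : c = 0 := by
      obtain ⟨η, hη, hηY⟩ := exists_generic_mem hYs
      refine eq_zero_of_stalk_smulMod (hA η hη hηY) ?_
      have h1 : Formal.smulMod k ((Coh.push (VecSt.subschι X Y hY)).obj I) c ≫ a = 0 := by
        rw [FFun.smulMod_naturality, ← hc, reassoc_of% w, zero_comp]
      rw [← cancel_mono ((st η).map a), ← Functor.map_comp, h1, Functor.map_zero, zero_comp]
    have hb : b = 0 := by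
      calc b = (b ≫ section_ b) ≫ b := by simp
        _ = 0 := by rw [hc, hc0, FFun.smulMod_zero, zero_comp]
    obtain ⟨η, hη, hηZ⟩ := exists_generic_mem hZs
    apply hB η hη hηZ
    have : Epi ((st η).map b) := inferInstance
    refine subsingleton_of_forall_eq 0 fun t => ?_
    obtain ⟨m, rfl⟩ := (ModuleCat.epi_iff_surjective _).1 this t
    rw [hb, Functor.map_zero]; rfl
  · intro hns
    refine ⟨fun hz => ?_, fun φ => ?_⟩
    · obtain ⟨η, hη, hηY⟩ := exists_generic_mem hYs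
      apply support_of_rkOne hM.2.2 hη
      exact ((ModuleCat.subsingleton_of_isZero ((st η).map_isZero hz)) : _)
    have h1 : (a ≫ φ) ≫ b = 0 := hom_push_eq_zero_of_gen (VecSt.subschι X Z hZ) hJq hJ.2.1 hgZ _ fun y hy => by
      by_cases hyZ : y ∈ Z
      · have h0 : y ∉ CohB1.support ((Coh.push (VecSt.subschι X Y hY)).obj I) := fun hs => hdisj y hy (support_push_subsch hY hIq hs) hyZ
        ext m
        rw [stalk_eq_zero h0 m, map_zero, map_zero]
      · exact map_eq_zero_of_notMem (fun hs => hyZ (support_push_subsch hZ hJq hs)) _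
    obtain ⟨α, hα⟩ : ∃ α, α ≫ a = a ≫ φ := ⟨hex.exact.lift (a ≫ φ) h1, hex.exact.lift_f _ h1⟩
    obtain ⟨ψ, hψ⟩ := AmpleVan.exists_push_map (VecSt.subschι X Y hY) hIq hIq α
    obtain ⟨c, hc⟩ := hIs.2 ψ
    have hα' : α = Formal.smulMod k ((Coh.push (VecSt.subschι X Y hY)).obj I) c := by
      rw [← hψ, hc]; exact AmpleVan.push_map_smulMod (VecSt.subschι X Y hY) rfl I c
    have h2 : a ≫ (φ - Formal.smulMod k M c) = 0 := by
      rw [Preadditive.comp_sub, ← hα, hα', FFun.smulMod_naturality, sub_self]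
    obtain ⟨χ, hχ⟩ : ∃ χ, b ≫ χ = φ - Formal.smulMod k M c := ⟨hex.exact.desc _ h2, hex.exact.g_desc _ h2⟩
    obtain ⟨ψ', hψ'⟩ := AmpleVan.exists_push_map (VecSt.subschι X Z hZ) hJq hJq (χ ≫ b)
    obtain ⟨c', hc'⟩ := hJs.2 ψ'
    have hβ : χ ≫ b = Formal.smulMod k ((Coh.push (VecSt.subschι X Z hZ)).obj J) c' := by
      rw [← hψ', hc']; exact AmpleVan.push_map_smulMod (VecSt.subschι X Z hZ) rfl J c'
    have hc0 : c' = 0 := by
      by_contra h
      refine hns (IsSplitEpi.mk' ⟨Formal.smulMod k _ c'⁻¹ ≫ χ, ?_⟩)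
      rw [Category.assoc, hβ, ← FFun.smulMod_mul, mul_inv_cancel₀ h, FFun.smulMod_one]
    have h3 : χ ≫ b = 0 := by rw [hβ, hc0, FFun.smulMod_zero]
    have hθ : hex.exact.lift χ h3 = 0 := hom_push_eq_zero_of_gen (VecSt.subschι X Y hY) hIq hI.2.1 hgY _ fun y hy => by
      by_cases hyY : y ∈ Y
      · have h0 : y ∉ CohB1.support ((Coh.push (VecSt.subschι X Z hZ)).obj J) := fun hs => hdisj y hy hyY (support_push_subsch hZ hJq hs)
        ext m
        rw [stalk_eq_zero h0 m, map_zero, map_zero]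
      · exact map_eq_zero_of_notMem (fun hs => hyY (support_push_subsch hY hIq hs)) _
    refine ⟨c, sub_eq_zero.1 ?_⟩
    rw [← hχ, ← hex.exact.lift_f χ h3, hθ, zero_comp, comp_zero]

end Groth.Agent.StabH89
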