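import Groth.Agent.StabH89.TFQuot
import Mathlib.AlgebraicGeometry.Geometrically.Integral
import Mathlib.AlgebraicGeometry.FunctionField
import Mathlib.RingTheory.AdjoinRoot
import Mathlib.FieldTheory.Minpoly.Field

/-!
# Constants in the function field of a geometrically integral scheme
-/

set_option linter.style.haveILetI false
set_option linter.unusedSectionVars false
set_option backward.isDefEq.respectTransparency false
set_option backward.isDefEq.respectTransparency.types false

universe u

open CategoryTheory CategoryTheory.Limits AlgebraicGeometry TopologicalSpace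
open scoped TensorProduct

noncomputable section

namespace Groth.Agent.StabH89

open Groth.Agent

/-- An element of the fraction field which is algebraic over `k` is a constant, if `A ⊗ L` is a domain for
all finite extensions `L`. -/
theorem mem_range_of_isIntegral_of_tensor {k A F : Type u} [Field k] [CommRing A] [IsDomain A] [Algebra k A]
    [Field F] [Algebra A F] [IsFractionRing A F] [Algebra k F] [IsScalarTower k A F]
    (h : ∀ (L : Type u) [Field L] [Algebra k L], FiniteDimensional k L → IsDomain (A ⊗[k] L))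
    {a : F} (ha : IsIntegral k a) : a ∈ Set.range (algebraMap k F) := by
  let p := minpoly k a
  haveI : Fact (Irreducible p) := ⟨minpoly.irreducible ha⟩
  let L := AdjoinRoot p
  let pb := AdjoinRoot.powerBasis (minpoly.ne_zero ha)
  haveI : FiniteDimensional k L := pb.finite
  haveI := h L inferInstance
  let ψ : A ⊗[k] L →ₐ[k] F ⊗[k] L := Algebra.TensorProduct.map (IsScalarTower.toAlgHom k A F) (AlgHom.id k L)
  have hψ : Function.Injective ψ := Module.Flat.rTensor_preserves_injective_linearMap
    (IsScalarTower.toAlgHom k A F).toLinearMap (IsFractionRing.injective A F)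
  have hmem : ∀ z : F ⊗[k] L, ∃ (s : A) (b : A ⊗[k] L), s ≠ 0 ∧
      ψ b = ((algebraMap A F s) ⊗ₜ[k] (1 : L)) * z := by
    intro z
    induction z with
    | zero => exact ⟨1, 0, one_ne_zero, by simp⟩
    | tmul e c =>
      obtain ⟨r, s, hs, rfl⟩ := IsFractionRing.div_surjective (A := A) e
      refine ⟨s, r ⊗ₜ c, nonZeroDivisors.ne_zero hs, ?_⟩
      have hs0 : algebraMap A F s ≠ 0 := IsFractionRing.to_map_ne_zero_of_mem_nonZeroDivisors hs
      simp only [ψ, Algebra.TensorProduct.map_tmul, Algebra.TensorProduct.tmul_mul_tmul, one_mul, AlgHom.id_apply,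
        mul_div_cancel₀ _ hs0]
      rfl
    | add u v hu hv =>
      obtain ⟨s, u', hs, hu⟩ := hu
      obtain ⟨t, v', ht, hv⟩ := hv
      refine ⟨s * t, (t ⊗ₜ 1) * u' + (s ⊗ₜ 1) * v', mul_ne_zero hs ht, ?_⟩
      rw [map_add, map_mul, map_mul, hu, hv]
      simp only [ψ, Algebra.TensorProduct.map_tmul, map_one, map_mul, IsScalarTower.coe_toAlgHom']
      rw [show (algebraMap A F s * algebraMap A F t) ⊗ₜ[k] (1 : L) =
        ((algebraMap A F s) ⊗ₜ[k] (1 : L)) * ((algebraMap A F t) ⊗ₜ[k] (1 : L)) by simp]
      ring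
  haveI : Nontrivial (F ⊗[k] L) := hψ.nontrivial
  have hunit : ∀ s : A, s ≠ 0 → IsUnit ((algebraMap A F s) ⊗ₜ[k] (1 : L)) := fun s hs =>
    (isUnit_iff_ne_zero.2 ((map_ne_zero_iff _ (IsFractionRing.injective A F)).2 hs)).map
      (Algebra.TensorProduct.includeLeftRingHom (R := k) (A := F) (B := L))
  haveI : NoZeroDivisors (F ⊗[k] L) := ⟨fun {y z} hyz => by
    obtain ⟨s, b, hs, hb⟩ := hmem y
    obtain ⟨t, c, ht, hc⟩ := hmem z
    have : ψ (b * c) = ψ 0 := by
      rw [map_mul, hb, hc, map_zero]
      linear_combination ((algebraMap A F s) ⊗ₜ[k] (1 : L)) * ((algebraMap A F t) ⊗ₜ[k] (1 : L)) * hyz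
    rcases mul_eq_zero.1 (hψ this) with rfl | rfl
    · left
      rw [map_zero] at hb
      exact (hunit s hs).mul_left_cancel (by rw [← hb, mul_zero])
    · right
      rw [map_zero] at hc
      exact (hunit t ht).mul_left_cancel (by rw [← hc, mul_zero])⟩
  haveI : IsDomain (F ⊗[k] L) := NoZeroDivisors.to_isDomain _
  have hev : Polynomial.eval₂ (algebraMap k F) a p = 0 := minpoly.aeval k a
  let g : L →ₐ[k] F := AdjoinRoot.liftAlgHom p (Algebra.ofId k F) a (by exact hev)
  let ev : F ⊗[k] L →ₐ[F] F := Algebra.TensorProduct.lift (AlgHom.id F F) g (fun _ _ => Commute.all _ _)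
  have hf : IsField (F ⊗[k] L) := isField_of_isIntegral_of_isField' (Field.toIsField F)
  letI := hf.toField
  have hinj : Function.Injective ev.toLinearMap := ev.toRingHom.injective
  have hle := LinearMap.finrank_le_finrank_of_injective hinj
  rw [Module.finrank_self, Module.finrank_baseChange, pb.finrank, AdjoinRoot.powerBasis_dim] at hle
  exact minpoly.natDegree_eq_one_iff.1 (le_antisymm hle (minpoly.natDegree_pos ha))

/-- The function field of a geometrically integral scheme contains no algebraic elements besides the constants. -/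
theorem functionField_const {k : Type u} [Field k] {C : Scheme.{u}} (q : C ⟶ Spec (CommRingCat.of k))
    [GeometricallyIntegral q] [IsIntegral C] {a : C.functionField} {p : Polynomial k} (hp : p.Monic)
    (ha : p.eval₂ ((C.presheaf.germ ⊤ (genericPoint C) trivial).hom.comp (Coh.toGlobal q)) a = 0) :
    ∃ c : k, a = C.presheaf.germ ⊤ (genericPoint C) trivial (Coh.toGlobal q c) := by
  obtain ⟨_, ⟨U, hU, rfl⟩, hgU, -⟩ :=
    C.isBasis_affineOpens.exists_subset_of_mem_open (Set.mem_univ (genericPoint C)) isOpen_univ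
  haveI : Nonempty U := ⟨⟨_, hgU⟩⟩
  haveI := functionField_isFractionRing_of_isAffineOpen C U hU
  let φ : CommRingCat.of k ⟶ Γ(C, U) := (Scheme.ΓSpecIso (CommRingCat.of k)).inv ≫ q.appLE ⊤ U le_top
  letI : Algebra k Γ(C, U) := φ.hom.toAlgebra
  letI : Algebra k C.functionField := ((algebraMap Γ(C, U) C.functionField).comp φ.hom).toAlgebra
  haveI : IsScalarTower k Γ(C, U) C.functionField := IsScalarTower.of_algebraMap_eq' rfl
  have hc : algebraMap k C.functionField =
      (C.presheaf.germ ⊤ (genericPoint C) trivial).hom.comp (Coh.toGlobal q) := by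
    ext c
    show C.presheaf.germ U (genericPoint C) _ (q.appLE ⊤ U le_top ((Scheme.ΓSpecIso (CommRingCat.of k)).inv c)) = _
    exact C.presheaf.germ_res_apply _ _ _ _
  have hdom : ∀ (L : Type u) [Field L] [Algebra k L], FiniteDimensional k L → IsDomain (Γ(C, U) ⊗[k] L) := by
    intro L _ _ _
    have hg : Spec.map φ = hU.fromSpec ≫ q := by
      rw [← IsAffineOpen.SpecMap_appLE_fromSpec q (isAffineOpen_top _) hU le_top, IsAffineOpen.fromSpec_top,
        Scheme.isoSpec_Spec_inv, ← Spec.map_comp]
    let s := Spec.map (CommRingCat.ofHom (algebraMap k L))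
    haveI hP : IsIntegral (pullback q s) :=
      GeometricallyIntegral.geometrically_isIntegral _ _ _ (IsPullback.of_hasPullback q s)
    let T := pullback (Spec.map (CommRingCat.ofHom (algebraMap k Γ(C, U)))) s
    let m : T ⟶ pullback q s := pullback.map _ _ _ _ hU.fromSpec (𝟙 _) (𝟙 _)
      (by rw [Category.comp_id]; exact hg) (by rw [Category.comp_id, Category.id_comp])
    let e : T ≅ Spec (CommRingCat.of (Γ(C, U) ⊗[k] L)) := pullbackSpecIso k Γ(C, U) L
    haveI : Nontrivial (Γ(C, U) ⊗[k] L) := by
      haveI : Nontrivial Γ(C, U) := inferInstance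
      exact (Algebra.TensorProduct.includeLeft_injective (R := k) (S := k) (A := Γ(C, U)) (B := L)
        (algebraMap k L).injective).nontrivial
    haveI : Nonempty (Spec (CommRingCat.of (Γ(C, U) ⊗[k] L))) :=
      inferInstanceAs (Nonempty (PrimeSpectrum (Γ(C, U) ⊗[k] L)))
    haveI : IsOpenImmersion m := inferInstance
    haveI : IsIntegral (Spec (CommRingCat.of (Γ(C, U) ⊗[k] L))) :=
      isIntegral_of_isOpenImmersion (e.inv ≫ m)
    exact (affine_isIntegral_iff (CommRingCat.of (Γ(C, U) ⊗[k] L))).1 ‹_›
  obtain ⟨c, rfl⟩ := mem_range_of_isIntegral_of_tensor hdom ⟨p, hp, hc ▸ ha⟩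
  exact ⟨c, RingHom.congr_fun hc c⟩

/-- The same at a generic point of a scheme lying on a geometrically integral closed subscheme. -/
theorem generic_const {k : Type u} [Field k] {X C : Scheme.{u}} (q : X ⟶ Spec (CommRingCat.of k)) (ι : C ⟶ X)
    [GeometricallyIntegral (ι ≫ q)] [AlgebraicGeometry.IsReduced X] {z : C}
    (hz : z ∈ genericPoints C) (hy : ι z ∈ genericPoints X) {a : X.presheaf.stalk (ι z)} {p : Polynomial k}
    (hp : p.Monic) (ha : p.eval₂ ((X.presheaf.germ ⊤ (ι z) trivial).hom.comp (Coh.toGlobal q)) a = 0) :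
    ∃ c : k, a = X.presheaf.germ ⊤ (ι z) trivial (Coh.toGlobal q c) := by
  haveI : IsIntegral C := GeometricallyIntegral.isIntegral_of_subsingleton (ι ≫ q)
  obtain rfl : z = genericPoint C :=
    (MorLib.Birat.eq_of_specializes_generic hz ((genericPoint_spec C).specializes trivial)).symm
  let σ := (ι.stalkMap (genericPoint C)).hom
  have hσ : σ.comp ((X.presheaf.germ ⊤ (ι (genericPoint C)) trivial).hom.comp (Coh.toGlobal q)) =
      (C.presheaf.germ ⊤ (genericPoint C) trivial).hom.comp (Coh.toGlobal (ι ≫ q)) := by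
    ext c
    exact Scheme.Hom.germ_stalkMap_apply ι ⊤ (genericPoint C) trivial _
  have h1 := congrArg σ ha
  rw [Polynomial.hom_eval₂, map_zero, hσ] at h1
  obtain ⟨c, hc⟩ := functionField_const (ι ≫ q) hp h1
  letI := (isField_of_mem_genericPoints hy).toField
  exact ⟨c, σ.injective (hc.trans (RingHom.congr_fun hσ c).symm)⟩

end Groth.Agent.StabH89
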