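import Groth.Agent.StabH89.TFBeta
import Groth.Agent.StabH89.GeomConst
import Groth.Agent.Lib.CurveEnd
import Mathlib.RingTheory.Jacobson.Ring
import Mathlib.LinearAlgebra.Charpoly.Basic
import Mathlib.RingTheory.Nakayama

/-!
# Endomorphisms of torsion-free rank one sheaves
-/

set_option linter.style.haveILetI false
set_option linter.unusedSectionVars false
set_option backward.isDefEq.respectTransparency false
set_option backward.isDefEq.respectTransparency.types false

universe u

open Polynomial hiding comp_zero zero_comp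
open CategoryTheory CategoryTheory.Limits AlgebraicGeometry TopologicalSpace

noncomputable section

namespace Groth.Agent.StabH89

open Groth.Agent

variable {X : Scheme.{u}}

local notation "st" => DerSch.stalkFunctor X

variable (k : Type u) [Field k] [X.Over (Spec (CommRingCat.of k))]

/-- The constants in a stalk. -/
def constStalk (y : X) : k →+* X.presheaf.stalk y :=
  (X.presheaf.germ ⊤ y trivial).hom.comp (Coh.toGlobal (X ↘ Spec (CommRingCat.of k)))

variable (M : X.Modules)

/-- The constants as endomorphisms. -/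
def scalEnd : k →+* End M := (CurveEnd.scalar M).comp (Coh.toGlobal (X ↘ Spec (CommRingCat.of k)))

lemma scalEnd_eq (c : k) : (scalEnd k M c : M ⟶ M) = Formal.smulMod k M c := by
  refine Scheme.Modules.hom_ext _ _ fun U => ?_
  ext m
  rfl

variable {M}

/-- Polynomials in an endomorphism. -/
def polyEnd (φ : M ⟶ M) : k[X] →+* End M :=
  Polynomial.eval₂RingHom' (scalEnd k M) (φ : End M) fun _ => CurveEnd.scalar_commute M _ _

/-- Endomorphisms on a stalk. -/
def evStalk (M : X.Modules) (y : X) : End M →+* Module.End (X.presheaf.stalk y) (M.presheaf.stalk y) where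
  toFun ψ := ((st y).map (ψ : M ⟶ M)).hom
  map_one' := by
    rw [show ((1 : End M) : M ⟶ M) = 𝟙 M from rfl, (st y).map_id]; rfl
  map_mul' f g := by
    rw [show ((f * g : End M) : M ⟶ M) = (g : M ⟶ M) ≫ (f : M ⟶ M) from rfl, (st y).map_comp]; rfl
  map_zero' := by
    rw [show ((0 : End M) : M ⟶ M) = 0 from rfl, Functor.map_zero]; rfl
  map_add' f g := by
    rw [show ((f + g : End M) : M ⟶ M) = (f : M ⟶ M) + (g : M ⟶ M) from rfl, Functor.map_add]; rfl

lemma evStalk_scal (y : X) (c : k) :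
    evStalk M y (scalEnd k M c) = algebraMap _ _ (constStalk k y c) := by
  refine LinearMap.ext fun m => ?_
  obtain ⟨U, hU, s, rfl⟩ := TopCat.Presheaf.exists_germ_eq M.presheaf m
  refine (DerSch.stalkFunctor_map_germ y (scalEnd k M c : M ⟶ M) U hU s).trans ?_
  show M.presheaf.germ U y hU ((CurveEnd.smulMod M (Coh.toGlobal (X ↘ Spec (CommRingCat.of k)) c)).app U s) = _
  rw [CurveEnd.smulMod_app, QCoh.germ_smul', X.presheaf.germ_res_apply]
  rfl

/-- Where `φ` is a scalar `a`, a polynomial in `φ` is the value at `a`. -/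
lemma stalk_polyEnd (φ : M ⟶ M) {y : X} {a : X.presheaf.stalk y} (ha : ∀ m, (st y).map φ m = a • m)
    (p : k[X]) (m : (st y).obj M) :
    (st y).map (polyEnd k φ p : M ⟶ M) m = p.eval₂ (constStalk k y) a • m := by
  have h : (evStalk M y).comp (polyEnd k φ) =
      (algebraMap (X.presheaf.stalk y) (Module.End (X.presheaf.stalk y) (M.presheaf.stalk y))).comp
        (Polynomial.eval₂RingHom (constStalk k y) a) := by
    refine Polynomial.ringHom_ext (fun c => ?_) ?_
    · simp only [RingHom.comp_apply, polyEnd, eval₂RingHom'_apply, coe_eval₂RingHom, eval₂_C]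
      exact evStalk_scal k y c
    · simp only [RingHom.comp_apply, polyEnd, eval₂RingHom'_apply, coe_eval₂RingHom, eval₂_X]
      exact LinearMap.ext ha
  exact LinearMap.congr_fun (RingHom.congr_fun h p) m

/-- Some polynomial in an endomorphism of a nonzero coherent module is not an automorphism. -/
theorem exists_poly_not_isIso [LocallyOfFiniteType (X ↘ Spec (CommRingCat.of k))] (hM : Coh.IsCoh M) (φ : M ⟶ M)
    {x : X} (hx : IsClosed ({x} : Set X)) (hxM : x ∈ CohB1.support M) :
    ∃ p : k[X], p.Monic ∧ ¬ IsIso (polyEnd k φ p : M ⟶ M) := by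
  obtain ⟨_, ⟨U, hU, rfl⟩, hxU, -⟩ :=
    X.isBasis_affineOpens.exists_subset_of_mem_open (Set.mem_univ x) isOpen_univ
  let f := X ↘ Spec (CommRingCat.of k)
  let φA : CommRingCat.of k ⟶ Γ(X, U) := (Scheme.ΓSpecIso (CommRingCat.of k)).inv ≫ f.appLE ⊤ U le_top
  letI : Algebra k Γ(X, U) := φA.hom.toAlgebra
  haveI : Algebra.FiniteType k Γ(X, U) :=
    (f.finiteType_appLE (isAffineOpen_top _) hU le_top).comp
      (RingHom.FiniteType.of_surjective _
        (ConcreteCategory.bijective_of_isIso (Scheme.ΓSpecIso (CommRingCat.of k)).inv).2)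
  let P := (hU.primeIdealOf ⟨x, hxU⟩).asIdeal
  haveI hP : P.IsMaximal := hU.primeIdealOf_isMaximal_of_isClosed ⟨x, hxU⟩ hx
  haveI := QCoh.finite_sections hM hU
  letI : Module k Γ(M, U) := Module.compHom _ (algebraMap k Γ(X, U))
  haveI : IsScalarTower k Γ(X, U) Γ(M, U) := IsScalarTower.of_algebraMap_smul fun _ _ => rfl
  let S : Submodule Γ(X, U) Γ(M, U) := P • ⊤
  have hS : ∀ g : Module.End Γ(X, U) Γ(M, U), S ≤ S.comap g := fun g => by
    rw [← Submodule.map_le_iff_le_comap, Submodule.map_smul'']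
    exact Submodule.smul_mono le_rfl le_top
  let θ : Module.End Γ(X, U) Γ(M, U) →+* Module.End k (Γ(M, U) ⧸ S) :=
    { toFun := fun g => (S.mapQ S g (hS g)).restrictScalars k
      map_one' := by
        refine LinearMap.ext fun v => ?_
        induction v using Submodule.Quotient.induction_on with | _ v => rfl
      map_mul' := fun g g' => by
        refine LinearMap.ext fun v => ?_
        induction v using Submodule.Quotient.induction_on with | _ v => rfl
      map_zero' := by
        refine LinearMap.ext fun v => ?_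
        induction v using Submodule.Quotient.induction_on with | _ v => rfl
      map_add' := fun g g' => by
        refine LinearMap.ext fun v => ?_
        induction v using Submodule.Quotient.induction_on with | _ v => rfl }
  letI := Ideal.Quotient.field P
  haveI : Algebra.FiniteType k (Γ(X, U) ⧸ P) := inferInstance
  haveI : Module.Finite k (Γ(X, U) ⧸ P) := finite_of_finite_type_of_isJacobsonRing _ _
  haveI : Module.Finite (Γ(X, U) ⧸ P) (Γ(M, U) ⧸ S) :=
    Module.Finite.of_restrictScalars_finite Γ(X, U) (Γ(X, U) ⧸ P) _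
  haveI : IsScalarTower k (Γ(X, U) ⧸ P) (Γ(M, U) ⧸ S) := IsScalarTower.of_algebraMap_smul fun c v => by
    rw [IsScalarTower.algebraMap_apply k Γ(X, U) (Γ(X, U) ⧸ P) c]
    rw [algebraMap_smul (Γ(X, U) ⧸ P) (algebraMap k Γ(X, U) c) v, algebraMap_smul]
  haveI : Module.Finite k (Γ(M, U) ⧸ S) := Module.Finite.trans (Γ(X, U) ⧸ P) _
  let φb : Module.End k (Γ(M, U) ⧸ S) := θ (CurveEnd.evalAt M U (φ : End M))
  refine ⟨φb.charpoly, φb.charpoly_monic, fun hiso => ?_⟩
  haveI := hiso
  have hc : (θ.comp (CurveEnd.evalAt M U)).comp (polyEnd k φ) = (Polynomial.aeval φb).toRingHom := by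
    refine Polynomial.ringHom_ext (fun c => ?_) ?_
    · simp only [RingHom.comp_apply, polyEnd, eval₂RingHom'_apply, eval₂_C, AlgHom.toRingHom_eq_coe,
        RingHom.coe_coe, aeval_C]
      refine LinearMap.ext fun v => ?_
      induction v using Submodule.Quotient.induction_on with | _ v => rfl
    · simp only [RingHom.comp_apply, polyEnd, eval₂RingHom'_apply, eval₂_X, AlgHom.toRingHom_eq_coe,
        RingHom.coe_coe, aeval_X]
      rfl
  have h0 : θ (CurveEnd.evalAt M U (polyEnd k φ φb.charpoly)) = 0 :=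
    (RingHom.congr_fun hc _).trans φb.aeval_self_charpoly
  let iv : End M := inv (polyEnd k φ φb.charpoly : M ⟶ M)
  have h1 : (polyEnd k φ φb.charpoly : End M) * iv = 1 := IsIso.inv_hom_id _
  have h2 := congrArg (θ.comp (CurveEnd.evalAt M U)) h1
  rw [map_mul, map_one, RingHom.comp_apply, h0, zero_mul] at h2
  have htop : (⊤ : Submodule Γ(X, U) Γ(M, U)) ≤ P • ⊤ := fun v _ => by
    have := LinearMap.congr_fun h2 (Submodule.Quotient.mk v)
    exact (Submodule.Quotient.mk_eq_zero S).1 this.symm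
  obtain ⟨r, hr1, hr2⟩ := Submodule.exists_sub_one_mem_and_smul_eq_zero_of_fg_of_le_smul P ⊤
    Module.Finite.fg_top htop
  refine hxM ((QCoh.subsingleton_stalk_iff hM.1 hU hxU).2 fun v => ⟨r, ?_, hr2 v trivial⟩)
  refine (QCoh.mem_basicOpen_iff_notMem hU hxU r).2 fun hr => hP.ne_top ((Ideal.eq_top_iff_one _).2 ?_)
  have := P.sub_mem hr hr1
  rwa [sub_sub_cancel] at this

variable [IsProper (X ↘ Spec (CommRingCat.of k))] [IsNoetherian X] [AlgebraicGeometry.IsReduced X]

lemma isUnionComp_closure {η : X} (hη : η ∈ genericPoints X) : IsUnionComp (closure ({η} : Set X)) :=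
  fun _ hx => ⟨η, hη, subset_closure rfl, specializes_iff_mem_closure.2 hx⟩

/-- An endomorphism is a scalar at every generic point. -/
theorem exists_scalar (hpure : ∀ C ∈ irreducibleComponents (X : Type u), topologicalKrullDim C = 1)
    (hgi : ∀ (C : Set X) (hC : C ∈ irreducibleComponents (X : Type u)), GeometricallyIntegral
      (VecSt.subschι X C (isClosed_of_mem_irreducibleComponents C hC) ≫ (X ↘ Spec (CommRingCat.of k))))
    (hM : TFOne.IsTF1 X M) (φ : M ⟶ M) {η : X} (hη : η ∈ genericPoints X) :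
    ∃ c : k, ∀ m, (st η).map φ m = constStalk k η c • m := by
  obtain ⟨e⟩ := hM.2.2 η hη
  let a := e ((st η).map φ (e.symm 1))
  have ha : ∀ m, (st η).map φ m = a • m := fun m => by
    have hm : m = (e m) • e.symm 1 := by rw [← map_smul, smul_eq_mul, mul_one, e.symm_apply_apply]
    apply e.injective
    conv_lhs => rw [hm, map_smul]
    rw [map_smul, map_smul]
    show e m * a = a * e m
    exact mul_comm _ _
  have hCc : IsClosed (closure ({η} : Set X)) := isClosed_closure
  obtain ⟨G, π, hG⟩ := exists_isQuotOn hM hCc (isUnionComp_closure hη)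
  haveI := hG.1
  have hgen : ∀ y ∈ genericPoints X, y ∈ closure ({η} : Set X) → y = η := fun y hy h =>
    (MorLib.Birat.eq_of_specializes_generic hy (specializes_iff_mem_closure.2 h)).symm
  obtain ⟨ψ, hψ⟩ := exists_desc hM.2.2 hG hG.2.1.1 hG.2.2.1 (fun y _ h => hG.2.2.2 ▸ h) (φ ≫ π)
  obtain ⟨x, hxC, hx⟩ := hCc.exists_closed_singleton ⟨η, subset_closure rfl⟩
  obtain ⟨p, hp, hiso⟩ := exists_poly_not_isIso k hG.2.1 ψ hx (hG.2.2.2.symm ▸ hxC)
  haveI := isIso_stalk_quot hM.2.2 hG hη (subset_closure rfl)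
  have haψ : ∀ m, (st η).map ψ m = a • m := fun m => by
    obtain ⟨n, rfl⟩ := (ConcreteCategory.bijective_of_isIso ((st η).map π)).2 m
    rw [← ConcreteCategory.comp_apply, ← Functor.map_comp, hψ, Functor.map_comp, ConcreteCategory.comp_apply,
      ha, map_smul]
  by_cases hpa : p.eval₂ (constStalk k η) a = 0
  · have key : ∀ (D : Set X) (hD : IsClosed D), VecSt.IsSubcurve X D →
        GeometricallyIntegral (VecSt.subschι X D hD ≫ (X ↘ Spec (CommRingCat.of k))) → η ∈ D →
          ∃ c : k, a = constStalk k η c := by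
      intro D hD hDs hDi hηD
      haveI := hDi
      obtain ⟨z, rfl⟩ := (range_subschι hD).ge hηD
      exact generic_const (X ↘ Spec (CommRingCat.of k)) (VecSt.subschι X D hD)
        ((genericPoints_subsch hD hDs z).2 hη) hη hp hpa
    obtain ⟨c, hc⟩ := key _ hCc (isSubcurve_of_isUnionComp hCc (isUnionComp_closure hη) ⟨_, subset_closure rfl⟩)
      (hgi (closure {η}) hη) (subset_closure rfl)
    exact ⟨c, fun m => (ha m).trans (congrArg (· • m) hc)⟩
  · exfalso
    apply hiso
    letI := (isField_of_mem_genericPoints hη).toField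
    have hbij : ∀ y ∈ genericPoints X, IsIso ((st y).map (polyEnd k ψ p : G ⟶ G)) := by
      intro y hy
      by_cases hyC : y ∈ closure ({η} : Set X)
      · obtain rfl := hgen y hy hyC
        refine (ConcreteCategory.isIso_iff_bijective _).2 ⟨fun u v huv => ?_, fun v => ⟨(p.eval₂ (constStalk k y) a)⁻¹ • v, ?_⟩⟩
        · rw [stalk_polyEnd k ψ haψ, stalk_polyEnd k ψ haψ] at huv
          exact smul_right_injective (G.presheaf.stalk y) hpa huv
        · rw [stalk_polyEnd k ψ haψ, smul_inv_smul₀ hpa]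
      · have hz := isZero_stalk (show y ∉ CohB1.support G by rwa [hG.2.2.2])
        exact ⟨0, hz.eq_of_src _ _, hz.eq_of_src _ _⟩
    haveI : Mono (polyEnd k ψ p : G ⟶ G) := by
      refine Preadditive.mono_of_cancel_zero _ fun {A} g hg => ?_
      refine hom_eq_zero_of_gen hG.2.1.1 hG.2.2.1 _ fun y hy => ?_
      haveI := hbij y hy
      rw [← cancel_mono ((st y).map (polyEnd k ψ p : G ⟶ G)), ← Functor.map_comp, hg, Functor.map_zero, zero_comp]
    exact (euler_le_of_gen k hpure hG.2.1 hG.2.1 (polyEnd k ψ p : G ⟶ G)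
      fun y hy => by haveI := hbij y hy; infer_instance).2.1 rfl

/-- Simple if and only if indecomposable along subcurves. -/
theorem isSimple_iff_indecomposable (hpure : ∀ C ∈ irreducibleComponents (X : Type u), topologicalKrullDim C = 1)
    (hgi : ∀ (C : Set X) (hC : C ∈ irreducibleComponents (X : Type u)), GeometricallyIntegral
      (VecSt.subschι X C (isClosed_of_mem_irreducibleComponents C hC) ≫ (X ↘ Spec (CommRingCat.of k))))
    [Nonempty X] (hM : TFOne.IsTF1 X M) :
    TFOne.IsSimple X k (X ↘ Spec (CommRingCat.of k)) M ↔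
      ¬ ∃ (Y Z : Set X) (_hY : IsClosed Y) (_hZ : IsClosed Z) (GY GZ : X.Modules) (πY : M ⟶ GY) (πZ : M ⟶ GZ),
        VecSt.IsSubcurve X Y ∧ VecSt.IsSubcurve X Z ∧ Y ≠ Set.univ ∧ Z ≠ Set.univ ∧
          TFOne.IsQuotOn X M Y GY πY ∧ TFOne.IsQuotOn X M Z GZ πZ ∧ IsIso (biprod.lift πY πZ) := by
  constructor
  · rintro ⟨-, hs⟩ ⟨Y, Z, hY, hZ, GY, GZ, πY, πZ, hYs, hZs, -, -, hGY, hGZ, hiso⟩
    haveI := hiso
    obtain ⟨c, hc⟩ := hs (πY ≫ biprod.inl ≫ inv (biprod.lift πY πZ))
    have hinl : biprod.inl ≫ inv (biprod.lift πY πZ) ≫ πY = 𝟙 GY := by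
      have h := congrArg (fun t => biprod.inl ≫ inv (biprod.lift πY πZ) ≫ t) (biprod.lift_fst πY πZ)
      simp only [IsIso.inv_hom_id_assoc, biprod.inl_fst] at h
      exact h.symm
    have hinl' : biprod.inl ≫ inv (biprod.lift πY πZ) ≫ πZ = 0 := by
      have h := congrArg (fun t => biprod.inl ≫ inv (biprod.lift πY πZ) ≫ t) (biprod.lift_snd πY πZ)
      simp only [IsIso.inv_hom_id_assoc, biprod.inl_snd] at h
      exact h.symm
    haveI := hGY.1
    haveI := hGZ.1
    have h1 : Formal.smulMod k GY c = 𝟙 GY := by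
      rw [← cancel_epi πY, ← FFun.smulMod_naturality, ← hc, Category.assoc, Category.assoc, hinl]
    have h2 : Formal.smulMod k GZ c = 0 := by
      rw [← cancel_epi πZ, ← FFun.smulMod_naturality, ← hc, Category.assoc, Category.assoc, hinl', comp_zero, comp_zero]
    obtain ⟨η, hη, hηZ⟩ := exists_generic_mem hZs
    have hc0 : c = 0 := eq_zero_of_stalk_smulMod (y := η) (hGZ.2.2.2.symm ▸ hηZ) (by rw [h2, Functor.map_zero])
    obtain ⟨η', hη', hηY⟩ := exists_generic_mem hYs
    rw [hc0, FFun.smulMod_zero] at h1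
    have hd := isZero_stalk (G := GY) (y := η')
    have hne : η' ∈ CohB1.support GY := hGY.2.2.2.symm ▸ hηY
    refine hne (subsingleton_of_forall_eq 0 fun t => ?_)
    have := ConcreteCategory.congr_hom (congrArg (st η').map h1) t
    rw [Functor.map_zero, (st η').map_id] at this
    exact this.symm
  · intro hno
    obtain ⟨η₀, hη₀, -⟩ := MorLib.Birat.exists_generic (Classical.arbitrary X)
    refine ⟨fun hz => ?_, fun φ => ?_⟩
    · exact support_of_rkOne hM.2.2 hη₀ (ModuleCat.subsingleton_of_isZero ((st η₀).map_isZero hz))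
    choose c hc using fun (η : genericPoints X) => exists_scalar k hpure hgi hM φ η.2
    by_cases hall : ∀ η : genericPoints X, c η = c ⟨η₀, hη₀⟩
    · refine ⟨c ⟨η₀, hη₀⟩, ?_⟩
      rw [← sub_eq_zero]
      refine hom_eq_zero_of_gen hM.1.1 hM.2.1 _ fun y hy => ?_
      ext m
      rw [Functor.map_sub, ← scalEnd_eq]
      have h1 := hc ⟨y, hy⟩ m
      rw [hall] at h1
      have h2 : (st y).map (scalEnd k M (c ⟨η₀, hη₀⟩) : M ⟶ M) m = constStalk k y (c ⟨η₀, hη₀⟩) • m :=
        LinearMap.congr_fun (evStalk_scal k y (c ⟨η₀, hη₀⟩)) m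
      simp only [ModuleCat.hom_sub, ModuleCat.hom_zero, LinearMap.sub_apply, LinearMap.zero_apply]
      rw [sub_eq_zero]
      exact h1.trans h2.symm
    exfalso
    push Not at hall
    obtain ⟨η₁, hη₁⟩ := hall
    classical
    set c₀ := c ⟨η₀, hη₀⟩ with hc₀
    haveI : Finite (genericPoints X) :=
      (genericPoints.finite NoetherianSpace.finite_irreducibleComponents).to_subtype
    letI := Fintype.ofFinite (genericPoints X)
    let T := (Finset.univ.image c).erase c₀
    let p : k[X] := ∏ b ∈ T, (C (c₀ - b)⁻¹ * (Polynomial.X - C b))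
    let e : M ⟶ M := polyEnd k φ p
    have hval : ∀ η : genericPoints X, p.eval (c η) = if c η = c₀ then 1 else 0 := by
      intro η
      simp only [p, eval_prod, eval_mul, eval_C, eval_sub, eval_X]
      split_ifs with h
      · refine Finset.prod_eq_one fun b hb => ?_
        rw [h, inv_mul_cancel₀ (sub_ne_zero.2 (Finset.ne_of_mem_erase hb).symm)]
      · exact Finset.prod_eq_zero (Finset.mem_erase.2 ⟨h, Finset.mem_image_of_mem c (Finset.mem_univ η)⟩) (by simp)
    have he : ∀ (η : genericPoints X) m, (st η.1).map e m = if c η = c₀ then m else 0 := by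
      intro η m
      rw [stalk_polyEnd k φ (hc η), Polynomial.eval₂_at_apply, hval]
      split_ifs with h <;> simp
    let SY : Set (Set X) := {C | ∃ η : genericPoints X, c η = c₀ ∧ C = closure {η.1}}
    let SZ : Set (Set X) := {C | ∃ η : genericPoints X, c η ≠ c₀ ∧ C = closure {η.1}}
    have hSY : SY ⊆ irreducibleComponents (X : Type u) := by rintro _ ⟨η, -, rfl⟩; exact η.2
    have hSZ : SZ ⊆ irreducibleComponents (X : Type u) := by rintro _ ⟨η, -, rfl⟩; exact η.2
    have hmem : ∀ (η η' : genericPoints X), η.1 ∈ closure ({η'.1} : Set X) → η = η' := fun η η' h =>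
      Subtype.ext (MorLib.Birat.eq_of_specializes_generic η.2 (specializes_iff_mem_closure.2 h)).symm
    have hYg : ∀ η : genericPoints X, η.1 ∈ ⋃₀ SY ↔ c η = c₀ := fun η =>
      ⟨fun ⟨_, ⟨η', h, rfl⟩, hm⟩ => by rw [hmem η η' hm]; exact h,
        fun h => ⟨_, ⟨η, h, rfl⟩, subset_closure rfl⟩⟩
    have hZg : ∀ η : genericPoints X, η.1 ∈ ⋃₀ SZ ↔ c η ≠ c₀ := fun η =>
      ⟨fun ⟨_, ⟨η', h, rfl⟩, hm⟩ => by rw [hmem η η' hm]; exact h,
        fun h => ⟨_, ⟨η, h, rfl⟩, subset_closure rfl⟩⟩
    have hcl : ∀ S ⊆ irreducibleComponents (X : Type u), IsClosed (⋃₀ S) := fun S hS => by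
      rw [Set.sUnion_eq_biUnion]
      exact (NoetherianSpace.finite_irreducibleComponents.subset hS).isClosed_biUnion
        fun C hC => isClosed_of_mem_irreducibleComponents C (hS hC)
    obtain ⟨GY, πY, hGY⟩ := exists_isQuotOn hM (hcl SY hSY) (isUnionComp_sUnion hSY)
    obtain ⟨GZ, πZ, hGZ⟩ := exists_isQuotOn hM (hcl SZ hSZ) (isUnionComp_sUnion hSZ)
    haveI := hGY.1
    haveI := hGZ.1
    have hdesc : ∀ {G : X.Modules} (π : M ⟶ G) [Epi π] (f : M ⟶ M),
        (∀ η : genericPoints X, η.1 ∈ CohB1.support G → IsIso ((st η.1).map π)) →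
        (∀ η : genericPoints X, η.1 ∉ CohB1.support G → (st η.1).map f = 0) → ∃ s : G ⟶ M, π ≫ s = f := by
      intro G π _ f h1 h2
      have hz : kernel.ι π ≫ f = 0 := by
        refine hom_eq_zero_of_gen hM.1.1 hM.2.1 _ fun y hy => ?_
        by_cases hyG : y ∈ CohB1.support G
        · haveI := h1 ⟨y, hy⟩ hyG
          have h0 : (st y).map (kernel.ι π) = 0 := by
            rw [← cancel_mono ((st y).map π), ← Functor.map_comp, kernel.condition, Functor.map_zero, zero_comp]
          rw [Functor.map_comp, h0, zero_comp]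
        · rw [Functor.map_comp, h2 ⟨y, hy⟩ hyG, comp_zero]
      exact ⟨(Abelian.epiIsCokernelOfKernel _ (limit.isLimit _)).desc (CokernelCofork.ofπ f hz),
        (Abelian.epiIsCokernelOfKernel _ (limit.isLimit _)).fac (CokernelCofork.ofπ f hz) WalkingParallelPair.one⟩
    have he1 : ∀ η : genericPoints X, c η = c₀ → (st η.1).map e = 𝟙 _ := fun η h => by
      ext m; rw [he η m, if_pos h]; rfl
    have he0 : ∀ η : genericPoints X, c η ≠ c₀ → (st η.1).map e = 0 := fun η h => by
      ext m; rw [he η m, if_neg h]; rfl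
    have hd1 : ∀ η : genericPoints X, c η = c₀ → (st η.1).map (𝟙 M - e) = 0 := fun η h => by
      rw [Functor.map_sub, he1 η h, (st η.1).map_id, sub_self]
    obtain ⟨sY, hsY⟩ := hdesc πY e (fun η h => isIso_stalk_quot hM.2.2 hGY η.2 (hGY.2.2.2 ▸ h))
      (fun η h => he0 η fun hh => h (hGY.2.2.2.symm ▸ (hYg η).2 hh))
    obtain ⟨sZ, hsZ⟩ := hdesc πZ (𝟙 M - e) (fun η h => isIso_stalk_quot hM.2.2 hGZ η.2 (hGZ.2.2.2 ▸ h))
      (fun η h => hd1 η (by_contra fun hh => h (hGZ.2.2.2.symm ▸ (hZg η).2 hh)))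
    have eY : (𝟙 M - e) ≫ πY = 0 := hom_eq_zero_of_gen hGY.2.1.1 hGY.2.2.1 _ fun y hy => by
      by_cases h : y ∈ ⋃₀ SY
      · rw [Functor.map_comp, hd1 ⟨y, hy⟩ ((hYg _).1 h), zero_comp]
      · exact map_eq_zero_of_notMem (by rwa [hGY.2.2.2]) _
    have eZ : e ≫ πZ = 0 := hom_eq_zero_of_gen hGZ.2.1.1 hGZ.2.2.1 _ fun y hy => by
      by_cases h : y ∈ ⋃₀ SZ
      · rw [Functor.map_comp, he0 ⟨y, hy⟩ ((hZg _).1 h), zero_comp]
      · exact map_eq_zero_of_notMem (by rwa [hGZ.2.2.2]) _
    rw [Preadditive.sub_comp, Category.id_comp, sub_eq_zero] at eY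
    have hYY : sY ≫ πY = 𝟙 GY := by rw [← cancel_epi πY, reassoc_of% hsY, ← eY, Category.comp_id]
    have hYZ : sY ≫ πZ = 0 := by rw [← cancel_epi πY, reassoc_of% hsY, eZ, comp_zero]
    have hZY : sZ ≫ πY = 0 := by
      rw [← cancel_epi πZ, reassoc_of% hsZ, Preadditive.sub_comp, Category.id_comp, ← eY, sub_self, comp_zero]
    have hZZ : sZ ≫ πZ = 𝟙 GZ := by
      rw [← cancel_epi πZ, reassoc_of% hsZ, Preadditive.sub_comp, Category.id_comp, eZ, sub_zero, Category.comp_id]
    have hiso : IsIso (biprod.lift πY πZ) := ⟨biprod.desc sY sZ,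
      by rw [biprod.lift_desc, hsY, hsZ, add_sub_cancel],
      by apply biprod.hom_ext <;> apply biprod.hom_ext' <;>
        simp only [Category.assoc, biprod.inl_desc_assoc, biprod.inr_desc_assoc, biprod.lift_fst, biprod.lift_snd,
          Category.id_comp, Category.comp_id, biprod.inl_fst, biprod.inl_snd, biprod.inr_fst, biprod.inr_snd,
          hYY, hYZ, hZY, hZZ]⟩
    refine hno ⟨_, _, hcl SY hSY, hcl SZ hSZ, GY, GZ, πY, πZ,
      ⟨SY, hSY, ⟨_, ⟨η₀, hη₀⟩, rfl, rfl⟩, rfl⟩, ⟨SZ, hSZ, ⟨_, η₁, hη₁, rfl⟩, rfl⟩,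
      fun h => hη₁ ((hYg η₁).1 (h ▸ Set.mem_univ _)), fun h => (hZg ⟨η₀, hη₀⟩).1 (h ▸ Set.mem_univ _) rfl,
      hGY, hGZ, hiso⟩

end Groth.Agent.StabH89
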