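import Groth.Agent.AmpleVan.ThickPush
import Groth.Agent.AmpleVan.AdicBase
import Groth.Agent.H23.SpFlat
import Groth.Agent.ZClosLib.CohDescent
import Groth.Agent.QCoh.DevissageP
import Groth.Agent.QCoh.Support

/-!
# Elementary modifications along the special fibre
-/

set_option linter.style.haveILetI false
set_option linter.unusedSectionVars false
set_option backward.isDefEq.respectTransparency false
set_option backward.isDefEq.respectTransparency.types false

universe u

open CategoryTheory CategoryTheory.Limits AlgebraicGeometry TopologicalSpace Opposite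

noncomputable section

namespace Groth.Agent.StabH89

open Groth.Agent

/-- Multiplication by a nonzero scalar on a flat module over a domain is a monomorphism. -/
theorem mono_smulMod_of_flat {R : Type u} [CommRing R] [IsDomain R] {X : Scheme.{u}}
    [X.Over (Spec (CommRingCat.of R))] {M : X.Modules}
    (hM : FlatMod.IsFlatOver (X ↘ Spec (CommRingCat.of R)) M) {a : R} (ha : a ≠ 0) :
    Mono (Formal.smulMod R M a) := by
  let f := X ↘ Spec (CommRingCat.of R)
  refine Preadditive.mono_of_cancel_zero _ fun {K} g hg => ?_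
  refine Scheme.Modules.hom_ext _ _ fun U => ?_
  ext s
  show g.app U s = 0
  refine TopCat.Presheaf.section_ext ⟨M.presheaf, M.isSheaf⟩ U _ _ fun x hx => ?_
  show M.presheaf.germ U x hx (g.app U s) = M.presheaf.germ U x hx 0
  rw [map_zero]
  let y := f x
  letI : Algebra R ((Spec (CommRingCat.of R)).presheaf.stalk y) := StructureSheaf.stalkAlgebra R y
  haveI : IsLocalization.AtPrime ((Spec (CommRingCat.of R)).presheaf.stalk y) (PrimeSpectrum.asIdeal (R := R) y) :=
    StructureSheaf.IsLocalization.to_stalk (CommRingCat.of R) y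
  haveI : IsDomain ((Spec (CommRingCat.of R)).presheaf.stalk y) :=
    IsLocalization.isDomain_of_atPrime _ (PrimeSpectrum.asIdeal (R := R) y)
  letI := FlatMod.moduleStalkOver f M x
  haveI : Module.Flat ((Spec (CommRingCat.of R)).presheaf.stalk y) (M.presheaf.stalk x) := hM x
  let r : (Spec (CommRingCat.of R)).presheaf.stalk y :=
    (Spec (CommRingCat.of R)).presheaf.germ ⊤ y trivial ((Scheme.ΓSpecIso (CommRingCat.of R)).inv a)
  have hr : r ≠ 0 := fun h => ha ((injective_iff_map_eq_zero _).1
    (IsLocalization.injective ((Spec (CommRingCat.of R)).presheaf.stalk y)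
      (PrimeSpectrum.asIdeal (R := R) y).primeCompl_le_nonZeroDivisors) a h)
  refine H23.SpGysin.injective_smul_of_flat hr ?_
  dsimp only
  rw [smul_zero]
  have h0 : (Formal.smulMod R M a).app U (g.app U s) = 0 := congr(($hg).app U s)
  have h1 := congrArg (M.presheaf.germ U x hx) h0
  rw [map_zero, FFun.smulMod_app, QCoh.germ_smul'] at h1
  refine Eq.trans ?_ h1
  refine congrArg (fun c : X.presheaf.stalk x => c • M.presheaf.germ U x hx (g.app U s)) ?_
  refine Eq.trans ?_ (X.presheaf.germ_res_apply (homOfLE (le_top : U ≤ ⊤)) x hx _).symm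
  exact Scheme.Hom.germ_stalkMap_apply f ⊤ x trivial _

section Modification

variable {R : Type u} [CommRing R] [IsDomain R] [IsDiscreteValuationRing R] {X Xs : Scheme.{u}}
  (f : X ⟶ Spec (CommRingCat.of R)) (q : Xs ⟶ Spec (CommRingCat.of (IsLocalRing.ResidueField R)))
  (i : Xs ⟶ X)

theorem isClosedImmersion_of_sq
    (hsq : IsPullback i q f (Spec.map (CommRingCat.ofHom (IsLocalRing.residue R)))) : IsClosedImmersion i :=
  MorphismProperty.of_isPullback hsq.flip
    (IsClosedImmersion.spec_of_surjective _ IsLocalRing.residue_surjective)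

/-- The unit to the special fibre is the cokernel of a uniformiser. -/
theorem exact_unit (hsq : IsPullback i q f (Spec.map (CommRingCat.ofHom (IsLocalRing.residue R)))) {ϖ : R}
    (hϖ : Irreducible ϖ) {M : X.Modules} (hM : Coh.IsQCoh M) :
    letI : X.Over (Spec (CommRingCat.of R)) := ⟨f⟩
    ∃ w : Formal.smulMod R M ϖ ≫ (Scheme.Modules.pullbackPushforwardAdjunction i).unit.app M = 0,
      (ShortComplex.mk _ _ w).Exact ∧ Epi ((Scheme.Modules.pullbackPushforwardAdjunction i).unit.app M) := by
  letI : X.Over (Spec (CommRingCat.of R)) := ⟨f⟩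
  haveI := isClosedImmersion_of_sq f q i hsq
  obtain ⟨h, hiso⟩ := AmpleVan.unit_desc_iso (A := R) (J := IsLocalRing.maximalIdeal R) (q := q) hsq hM
  let η := (Scheme.Modules.pullbackPushforwardAdjunction i).unit.app M
  let d := cokernel.desc _ η h
  have hd : cokernel.π _ ≫ d = η := cokernel.π_desc _ _ _
  have hmem : ϖ ∈ IsLocalRing.maximalIdeal R := hϖ.not_isUnit
  have w : Formal.smulMod R M ϖ ≫ η = 0 := by
    have := congrArg (Sigma.ι (fun _ : IsLocalRing.maximalIdeal R => M) ⟨ϖ, hmem⟩ ≫ ·) h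
    rw [comp_zero, ← Category.assoc] at this
    rw [← this]
    refine congrArg (· ≫ η) ?_
    unfold Formal.smulFamily
    rw [Sigma.ι_desc]
  have hepi : Epi η := hd ▸ inferInstance
  refine ⟨w, ShortComplex.exact_of_g_is_cokernel _ ?_, hepi⟩
  haveI := hepi
  refine CokernelCofork.IsColimit.ofπ η w (fun g hg => inv d ≫ cokernel.desc _ g (Sigma.hom_ext _ _ fun a => ?_))
    (fun g hg => ?_) fun g hg m hm => ?_
  · rw [comp_zero, ← Category.assoc]
    refine (congrArg (· ≫ g) (Sigma.ι_desc _ _)).trans ?_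
    have ha2 : a.1 ∈ Ideal.span {ϖ} := (IsDiscreteValuationRing.irreducible_iff_uniformizer ϖ).1 hϖ ▸ a.2
    obtain ⟨c, hc⟩ := Ideal.mem_span_singleton'.1 ha2
    rw [← hc, mul_comm, FFun.smulMod_mul, Category.assoc, hg, comp_zero]
  · rw [← cokernel.π_desc _ η h, Category.assoc]
    simp [d]
  · rw [← cancel_epi η, hm]
    refine Eq.symm ?_
    rw [← cokernel.π_desc _ η h, Category.assoc]
    simp [d]

/-- The elementary modification of `I` along a quotient of its special fibre. -/
theorem exists_modification [LocallyOfFiniteType f]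
    (hsq : IsPullback i q f (Spec.map (CommRingCat.ofHom (IsLocalRing.residue R)))) {I : X.Modules}
    (hIc : Coh.IsCoh I) (hIf : FlatMod.IsFlatOver f I) {GY : Xs.Modules} (hG : Coh.IsCoh GY)
    (πY : (Scheme.Modules.pullback i).obj I ⟶ GY) [Epi πY] {IY : X.Modules}
    (hIY : IY = kernel ((Scheme.Modules.pullbackPushforwardAdjunction i).unit.app I ≫
      (Scheme.Modules.pushforward i).map πY)) :
    ∃ (a : GY ⟶ (Scheme.Modules.pullback i).obj IY) (b : (Scheme.Modules.pullback i).obj IY ⟶ kernel πY)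
      (w : a ≫ b = 0), (ShortComplex.mk a b w).ShortExact ∧ Coh.IsCoh IY ∧
        Coh.IsCoh ((Scheme.Modules.pullback i).obj IY) := by
  subst hIY
  letI : X.Over (Spec (CommRingCat.of R)) := ⟨f⟩
  haveI := isClosedImmersion_of_sq f q i hsq
  haveI : IsLocallyNoetherian X := LocallyOfFiniteType.isLocallyNoetherian f
  haveI : IsLocallyNoetherian Xs := LocallyOfFiniteType.isLocallyNoetherian i
  let P := Scheme.Modules.pushforward i
  haveI := AmpleVan.faithful_push i
  haveI : PreservesLimitsOfSize.{0, 0} P :=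
    (Scheme.Modules.pullbackPushforwardAdjunction i).rightAdjoint_preservesLimits
  have hIs : Coh.IsCoh ((Scheme.Modules.pullback i).obj I) := ZClosLib.isCoh_pullback i hIc
  have hK : Coh.IsCoh (kernel πY) := QCoh.isCoh_kernel hIs hG πY
  have hPG : Coh.IsCoh (P.obj GY) := QCoh.isCoh_pushforward_finite i hG
  obtain ⟨ϖ, hϖ⟩ := IsDiscreteValuationRing.exists_irreducible R
  haveI hτ := mono_smulMod_of_flat (M := I) hIf hϖ.ne_zero
  let η := (Scheme.Modules.pullbackPushforwardAdjunction i).unit.app I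
  let e := η ≫ P.map πY
  have hIYc : Coh.IsCoh (kernel e) := QCoh.isCoh_kernel hIc hPG e
  have hN : Coh.IsCoh ((Scheme.Modules.pullback i).obj (kernel e)) := ZClosLib.isCoh_pullback i hIYc
  let η' := (Scheme.Modules.pullbackPushforwardAdjunction i).unit.app (kernel e)
  obtain ⟨w0, hex0, hepi0⟩ := exact_unit f q i hsq hϖ hIc.1
  obtain ⟨w1, hex1, hepi1⟩ := exact_unit f q i hsq hϖ hIYc.1
  haveI := hepi0
  haveI := hepi1
  haveI : Epi (P.map πY) := AmpleVan.epi_push i hIs.1 hG.1 πY
  haveI : Epi e := epi_comp _ _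
  let ι := kernel.ι e
  have hτe : Formal.smulMod R I ϖ ≫ e = 0 := by
    rw [← Category.assoc, w0, zero_comp]
  let σ : I ⟶ kernel e := kernel.lift e _ hτe
  have hσ : σ ≫ ι = Formal.smulMod R I ϖ := kernel.lift_ι _ _ _
  have hισ : ι ≫ σ = Formal.smulMod R (kernel e) ϖ := by
    rw [← cancel_mono ι, Category.assoc, hσ]
    exact (FFun.smulMod_naturality ι ϖ).symm
  haveI : Mono (σ ≫ ι) := hσ.symm ▸ hτ
  haveI : Mono σ := mono_of_mono σ ι
  let κ : P.obj (kernel πY) ⟶ P.obj ((Scheme.Modules.pullback i).obj I) := P.map (kernel.ι πY)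
  have hκlim : IsLimit (KernelFork.ofι κ (by rw [← P.map_comp, kernel.condition, P.map_zero] : κ ≫ P.map πY = 0)) :=
    KernelFork.mapIsLimit _ (kernelIsKernel πY) P
  have hθ0 : (ι ≫ η) ≫ P.map πY = 0 := by rw [Category.assoc]; exact kernel.condition e
  let θ : kernel e ⟶ P.obj (kernel πY) := hκlim.lift (KernelFork.ofι (ι ≫ η) hθ0)
  have hθ : θ ≫ κ = ι ≫ η := hκlim.fac (KernelFork.ofι (ι ≫ η) hθ0) WalkingParallelPair.zero
  let ec := Abelian.epiIsCokernelOfKernel (f := e) _ (limit.isLimit _)
  have ha0 : ι ≫ σ ≫ η' = 0 := by rw [← Category.assoc, hισ, w1]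
  let a' : P.obj GY ⟶ P.obj ((Scheme.Modules.pullback i).obj (kernel e)) :=
    ec.desc (CokernelCofork.ofπ (σ ≫ η') ha0)
  have ha' : e ≫ a' = σ ≫ η' := ec.fac (CokernelCofork.ofπ (σ ≫ η') ha0) WalkingParallelPair.one
  haveI : Mono κ := P.map_mono _
  have hb0 : Formal.smulMod R (kernel e) ϖ ≫ θ = 0 := by
    rw [← cancel_mono κ, Category.assoc, hθ, ← hισ, Category.assoc]
    rw [show σ ≫ ι ≫ η = Formal.smulMod R I ϖ ≫ η by rw [← Category.assoc, hσ]]
    rw [w0, comp_zero, zero_comp]
  let qc := hex1.gIsCokernel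
  let b' : P.obj ((Scheme.Modules.pullback i).obj (kernel e)) ⟶ P.obj (kernel πY) :=
    qc.desc (CokernelCofork.ofπ θ hb0)
  have hb' : η' ≫ b' = θ := qc.fac (CokernelCofork.ofπ θ hb0) WalkingParallelPair.one
  have hab : a' ≫ b' = 0 := by
    rw [← cancel_epi e, ← Category.assoc, ha', Category.assoc, hb', ← cancel_mono κ, Category.assoc, hθ,
      ← Category.assoc, hσ, w0]
    simp
  have hexι : (ShortComplex.mk ι e (kernel.condition e)).Exact :=
    ShortComplex.exact_of_f_is_kernel _ (kernelIsKernel e)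
  haveI hma : Mono a' := by
    refine Preadditive.mono_of_cancel_zero _ fun {A} x hx => ?_
    obtain ⟨A₁, π, _, y, hy⟩ := surjective_up_to_refinements_of_epi e x
    have h1 : (y ≫ σ) ≫ η' = 0 := by rw [Category.assoc, ← ha', ← reassoc_of% hy, hx, comp_zero]
    obtain ⟨A₂, π', _, y', hy'⟩ := hex1.exact_up_to_refinements (y ≫ σ) h1
    dsimp only at hy'
    rw [← hισ, ← Category.assoc, ← Category.assoc, cancel_mono] at hy'
    rw [← cancel_epi π, ← cancel_epi π', hy, ← Category.assoc, hy', Category.assoc, kernel.condition]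
    simp
  haveI hθe : Epi θ := by
    refine (epi_iff_surjective_up_to_refinements θ).2 fun {A} z => ?_
    obtain ⟨A₁, π, hπ, w, hw⟩ := surjective_up_to_refinements_of_epi η (z ≫ κ)
    have h1 : w ≫ e = 0 := by
      rw [← Category.assoc, ← hw, Category.assoc, Category.assoc, ← P.map_comp, kernel.condition, P.map_zero,
        comp_zero, comp_zero]
    refine ⟨A₁, π, hπ, kernel.lift e w h1, ?_⟩
    rw [← cancel_mono κ, Category.assoc, hw, Category.assoc, hθ, kernel.lift_ι_assoc]
  haveI hbe : Epi b' := by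
    haveI : Epi (η' ≫ b') := hb'.symm ▸ hθe
    exact epi_of_epi η' b'
  have hexab : (ShortComplex.mk a' b' hab).Exact := by
    rw [ShortComplex.exact_iff_exact_up_to_refinements]
    intro A z hz
    dsimp only at hz ⊢
    obtain ⟨A₁, π, hπ, w, hw⟩ := surjective_up_to_refinements_of_epi η' z
    have h1 : (w ≫ ι) ≫ η = 0 := by
      have hwθ : w ≫ θ = 0 := by rw [← hb', ← Category.assoc, ← hw, Category.assoc, hz, comp_zero]
      rw [Category.assoc, ← hθ, ← Category.assoc, hwθ, zero_comp]
    obtain ⟨A₂, π', hπ', v, hv⟩ := hex0.exact_up_to_refinements (w ≫ ι) h1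
    dsimp only at hv
    rw [← hσ, ← Category.assoc, ← Category.assoc, cancel_mono] at hv
    refine ⟨A₂, π' ≫ π, epi_comp _ _, v ≫ e, ?_⟩
    rw [Category.assoc, hw, ← Category.assoc, hv, Category.assoc, Category.assoc, ha']
  obtain ⟨a, ha⟩ := AmpleVan.exists_push_map i hG.1 hN.1 a'
  obtain ⟨b, hb⟩ := AmpleVan.exists_push_map i hN.1 hK.1 b'
  have w : a ≫ b = 0 := P.map_injective (by rw [P.map_comp, ha, hb, hab, P.map_zero])
  haveI : Mono a := P.mono_of_mono_map (by rw [ha]; exact hma)
  haveI : Epi b := P.epi_of_epi_map (by rw [hb]; exact hbe)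
  have hlim : IsLimit (KernelFork.ofι (P.map (kernel.ι b))
      (by rw [← P.map_comp, kernel.condition, P.map_zero] : P.map (kernel.ι b) ≫ P.map b = 0)) :=
    KernelFork.mapIsLimit _ (kernelIsKernel b) P
  have hlim' : IsLimit (KernelFork.ofι a' hab) := hexab.fIsKernel
  let l := kernel.lift b a w
  haveI : IsIso (P.map l) := by
    have h0 : a' ≫ P.map b = 0 := by rw [hb, hab]
    have h0' : P.map (kernel.ι b) ≫ b' = 0 := by rw [← hb, ← P.map_comp, kernel.condition, P.map_zero]
    let g := hlim'.lift (KernelFork.ofι (P.map (kernel.ι b)) h0')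
    have hg : g ≫ a' = P.map (kernel.ι b) :=
      hlim'.fac (KernelFork.ofι (P.map (kernel.ι b)) h0') WalkingParallelPair.zero
    have hl : P.map l ≫ P.map (kernel.ι b) = a' := by rw [← P.map_comp, kernel.lift_ι, ha]
    haveI : Mono (P.map (kernel.ι b)) := P.map_mono _
    exact ⟨g, by rw [← cancel_mono a', Category.assoc, hg, hl, Category.id_comp],
      by rw [← cancel_mono (P.map (kernel.ι b)), Category.assoc, hl, hg, Category.id_comp]⟩
  haveI := AmpleVan.isIso_of_push i l
  refine ⟨a, b, w, { exact := ?_ }, hIYc, hN⟩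
  refine ShortComplex.exact_of_f_is_kernel _ (IsLimit.ofIsoLimit (kernelIsKernel b) ?_)
  exact (Fork.ext (asIso l) (kernel.lift_ι _ _ _)).symm

end Modification

end Groth.Agent.StabH89
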