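import Groth.Agent.StabH89.TFBeta
import Groth.Agent.StabH89.ElemModif
import Groth.Agent.LimitsH94.LimLocFree

/-!
# Elementary modifications of a family over a discrete valuation ring
-/

set_option linter.style.haveILetI false
set_option linter.unusedSectionVars false
set_option backward.isDefEq.respectTransparency false
set_option backward.isDefEq.respectTransparency.types false

universe u

open CategoryTheory CategoryTheory.Limits AlgebraicGeometry TopologicalSpace

noncomputable section

namespace Groth.Agent.StabH89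

open Groth.Agent

variable {R : Type u} [CommRing R] [IsDomain R] [IsDiscreteValuationRing R] {X : Scheme.{u}}
  {f : X ⟶ Spec (CommRingCat.of R)} [IsProper f] {Xs : Scheme.{u}}
  [Xs.Over (Spec (CommRingCat.of (IsLocalRing.ResidueField R)))] {i : Xs ⟶ X}
  (hsq : IsPullback i (Xs ↘ Spec (CommRingCat.of (IsLocalRing.ResidueField R))) f
    (Spec.map (CommRingCat.ofHom (IsLocalRing.residue R))))

include hsq in
lemma isProper_special : IsProper (Xs ↘ Spec (CommRingCat.of (IsLocalRing.ResidueField R))) :=
  MorphismProperty.of_isPullback hsq (inferInstance : IsProper f)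

include hsq in
lemma isFinLocFreeOfRank_special {E : X.Modules} {r : ℕ} (hE : FlatMod.IsFinLocFreeOfRank r E) :
    FlatMod.IsFinLocFreeOfRank r ((Scheme.Modules.pullback i).obj E) := by
  haveI := isClosedImmersion_of_sq f _ i hsq
  haveI : IsLocallyNoetherian X := LocallyOfFiniteType.isLocallyNoetherian f
  have hc := CurveDeg.isCoh_of_isFinLocFree (CurveStable.isFinLocFree_of_rank hE)
  exact LimitsH94.LM.isFinLocFreeOfRank_pullback i hc.1 hc.2 r hE

include hsq in
lemma exists_data {I : X.Modules} (hIc : Coh.IsCoh I) (hIf : FlatMod.IsFlatOver f I) {Y : Set Xs} {GY : Xs.Modules}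
    {πY : (Scheme.Modules.pullback i).obj I ⟶ GY}
    (hGY : TFOne.IsQuotOn Xs ((Scheme.Modules.pullback i).obj I) Y GY πY) {IY : X.Modules}
    (hIY : IY = kernel ((Scheme.Modules.pullbackPushforwardAdjunction i).unit.app I ≫
      (Scheme.Modules.pushforward i).map πY)) :
    ∃ (a : GY ⟶ (Scheme.Modules.pullback i).obj IY) (b : (Scheme.Modules.pullback i).obj IY ⟶ kernel πY)
      (w : a ≫ b = 0), (ShortComplex.mk a b w).ShortExact ∧ Coh.IsCoh ((Scheme.Modules.pullback i).obj IY) := by
  haveI := hGY.1
  obtain ⟨a, b, w, hS, -, hN⟩ := exists_modification f _ i hsq hIc hIf hGY.2.1 πY hIY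
  exact ⟨a, b, w, hS, hN⟩

end Groth.Agent.StabH89
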