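import Groth.Agent.StabH89.TFBeta
import Groth.Agent.AmpleVan.AdicBase
import Groth.Agent.LimitsH94.LimLocFree

/-!
# Torsion-free quotients seen on a subcurve
-/

set_option linter.style.haveILetI false
set_option linter.unusedSectionVars false
set_option backward.isDefEq.respectTransparency false
set_option backward.isDefEq.respectTransparency.types false

universe u

open CategoryTheory CategoryTheory.Limits AlgebraicGeometry TopologicalSpace

noncomputable section

namespace Groth.Agent.StabH89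

open Groth.Agent

variable {X : Scheme.{u}}

lemma germ_push_eq_zero_iff [IsLocallyNoetherian X] {Z : Scheme.{u}} [IsLocallyNoetherian Z] (i : Z ⟶ X) [IsClosedImmersion i] (J : Z.Modules) {U : X.Opens}
    {z : Z} (hz : i z ∈ U) (s : Γ(J, i ⁻¹ᵁ U)) :
    ((Coh.push i).obj J).presheaf.germ U (i z) hz s = 0 ↔ J.presheaf.germ (i ⁻¹ᵁ U) z hz s = 0 := by
  constructor
  · intro h
    obtain ⟨V, hV, i₁, i₂, he⟩ := ((Coh.push i).obj J).presheaf.germ_eq (U := U) (V := U) (i z) hz hz s 0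
      (h.trans (map_zero _).symm)
    rw [map_zero] at he
    exact AssLib.germ_eq_zero_of_res_eq_zero (M := J) (show i ⁻¹ᵁ V ≤ i ⁻¹ᵁ U from fun w hw => i₁.le hw) hV s he
  · intro h
    obtain ⟨W, hW, i₁, i₂, he⟩ := J.presheaf.germ_eq (U := i ⁻¹ᵁ U) (V := i ⁻¹ᵁ U) z hz hz s 0 (h.trans (map_zero _).symm)
    rw [map_zero] at he
    obtain ⟨O, hO, hOW⟩ := (IsClosedImmersion.base_closed (f := i)).isInducing.isOpen_iff.1 W.2
    have hle : i ⁻¹ᵁ (U ⊓ ⟨O, hO⟩) ≤ W := fun w hw => (Set.ext_iff.1 hOW w).1 hw.2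
    refine AssLib.germ_eq_zero_of_res_eq_zero (M := (Coh.push i).obj J) (inf_le_left : U ⊓ ⟨O, hO⟩ ≤ U)
      ⟨hz, (Set.ext_iff.1 hOW z).2 hW⟩ s ?_
    show J.presheaf.map (homOfLE (fun w hw => hw.1 : i ⁻¹ᵁ (U ⊓ ⟨O, hO⟩) ≤ i ⁻¹ᵁ U)).op s = 0
    rw [← map_zero (J.presheaf.map (homOfLE hle).op).hom, ← he, ← ConcreteCategory.comp_apply, ← Functor.map_comp]
    exact congrArg (fun φ => J.presheaf.map φ s) (Subsingleton.elim _ _)

lemma mem_support_push_iff [IsLocallyNoetherian X] {Z : Scheme.{u}} [IsLocallyNoetherian Z] (i : Z ⟶ X) [IsClosedImmersion i] (J : Z.Modules)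
    (z : Z) : i z ∈ CohB1.support ((Coh.push i).obj J) ↔ z ∈ CohB1.support J := by
  refine ⟨fun h => by_contra fun hs => h (subsingleton_of_forall_eq 0 fun t => ?_), support_push_of_mem i⟩
  obtain ⟨U, hU, s, rfl⟩ := TopCat.Presheaf.exists_germ_eq ((Coh.push i).obj J).presheaf t
  exact (germ_push_eq_zero_iff i J hU s).2 (stalk_eq_zero hs _)

lemma exists_lift_section {Z : Scheme.{u}} (i : Z ⟶ X) [IsClosedImmersion i] (J : Z.Modules) {z : Z}
    (t : J.presheaf.stalk z) :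
    ∃ (U : X.Opens) (hz : i z ∈ U) (s : Γ(J, i ⁻¹ᵁ U)), J.presheaf.germ (i ⁻¹ᵁ U) z hz s = t := by
  obtain ⟨W, hzW, s, rfl⟩ := TopCat.Presheaf.exists_germ_eq J.presheaf t
  obtain ⟨O, hO, hOW⟩ := (IsClosedImmersion.base_closed (f := i)).isInducing.isOpen_iff.1 W.2
  obtain rfl : i ⁻¹ᵁ (⟨O, hO⟩ : X.Opens) = W := Opens.ext hOW
  exact ⟨⟨O, hO⟩, hzW, s, rfl⟩

variable [IsNoetherian X] [AlgebraicGeometry.IsReduced X]

section Subsch

variable {Y : Set X} (hY : IsClosed Y) (hYs : VecSt.IsSubcurve X Y)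

instance isReduced_subsch : AlgebraicGeometry.IsReduced (VecSt.subsch X Y hY) :=
  H23.RedSub.isReduced_vanishingIdeal _

instance isNoetherian_subsch : IsNoetherian (VecSt.subsch X Y hY) := by
  haveI : IsLocallyNoetherian (VecSt.subsch X Y hY) := LocallyOfFiniteType.isLocallyNoetherian (VecSt.subschι X Y hY)
  haveI : CompactSpace (VecSt.subsch X Y hY) := QuasiCompact.compactSpace_of_compactSpace (VecSt.subschι X Y hY)
  constructor

include hYs in
/-- A coherent torsion-free module supported on `Y` comes from `Y`. -/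
lemma isIso_unit_subsch {G : X.Modules} (hG : Coh.IsCoh G) (htG : TorSh.IsTorsionFree G)
    (hs : CohB1.support G = Y) :
    IsIso ((Scheme.Modules.pullbackPushforwardAdjunction (VecSt.subschι X Y hY)).unit.app G) := by
  let ι := VecSt.subschι X Y hY
  refine (QCoh.isIso_unit_closed_iff ι hG.1).2 fun U a ha s => ?_
  rw [FComplLib.ideal_ker, RingHom.mem_ker] at ha
  have ha' : ι.app U.1 a = 0 := ha
  refine TFCurvLib.eq_zero_of_germ_isField hG.1 htG _ fun y hy hyf => ?_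
  rw [QCoh.germ_smul']
  by_cases hyY : y ∈ Y
  · obtain ⟨z, rfl⟩ := (range_subschι hY).ge hyY
    letI := hyf.toField
    suffices h : X.presheaf.germ U.1 (ι z) hy a = 0 by rw [h, zero_smul]
    by_contra hne
    have hu : IsUnit ((ι.stalkMap z).hom (X.presheaf.germ U.1 (ι z) hy a)) := (isUnit_iff_ne_zero.2 hne).map _
    erw [Scheme.Hom.germ_stalkMap_apply] at hu
    change IsUnit ((VecSt.subsch X Y hY).presheaf.germ (ι ⁻¹ᵁ U.1) z hy (ι.app U.1 a)) at hu
    rw [ha', map_zero] at hu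
    exact not_isUnit_zero hu
  · refine Eq.trans (congrArg _ ?_) (smul_zero _)
    exact stalk_eq_zero (show y ∉ CohB1.support G by rwa [hs]) _

include hYs in
/-- Torsion-freeness passes to direct images from subcurves. -/
lemma isTorsionFree_push {J : (VecSt.subsch X Y hY).Modules} (hJ : Coh.IsQCoh J) (htJ : TorSh.IsTorsionFree J) :
    TorSh.IsTorsionFree ((Coh.push (VecSt.subschι X Y hY)).obj J) := by
  refine isTorsionFree_of_detect fun U s h => ?_
  exact TFCurvLib.eq_zero_of_germ_isField hJ htJ (U := VecSt.subschι X Y hY ⁻¹ᵁ U) s fun z hz hzf =>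
    (germ_push_eq_zero_iff (VecSt.subschι X Y hY) J hz s).1
      (h _ ((genericPoints_subsch hY hYs z).1 (mem_genericPoints_of_isField hzf)) hz)

include hYs in
/-- The restriction of `M_Y` to `Y` is torsion-free of rank one. -/
theorem isTF1_pullback_quot {M GY : X.Modules} (hM : TFOne.IsTF1 X M) {πY : M ⟶ GY}
    (hGY : TFOne.IsQuotOn X M Y GY πY) :
    TFOne.IsTF1 (VecSt.subsch X Y hY) ((Scheme.Modules.pullback (VecSt.subschι X Y hY)).obj GY) := by
  let ι := VecSt.subschι X Y hY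
  let A := (Scheme.Modules.pullback ι).obj GY
  let η := (Scheme.Modules.pullbackPushforwardAdjunction ι).unit.app GY
  haveI : IsIso η := isIso_unit_subsch hY hYs hGY.2.1 hGY.2.2.1 hGY.2.2.2
  have hA : Coh.IsCoh A := ZClosLib.isCoh_pullback ι hGY.2.1
  have hPq : Coh.IsQCoh ((Coh.push ι).obj A) := (QCoh.isQCoh_iff_iso (asIso η)).1 hGY.2.1.1
  have hPt : TorSh.IsTorsionFree ((Coh.push ι).obj A) := isTorsionFree_of_mono (inv η) hGY.2.2.1
  refine ⟨hA, isTorsionFree_of_detect fun V s h => ?_, fun z hz => ?_⟩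
  · obtain ⟨O, hO, hOW⟩ := (IsClosedImmersion.base_closed (f := ι)).isInducing.isOpen_iff.1 V.2
    obtain rfl : ι ⁻¹ᵁ (⟨O, hO⟩ : X.Opens) = V := Opens.ext hOW
    refine TFCurvLib.eq_zero_of_germ_isField hPq hPt (U := ⟨O, hO⟩) s fun y hy hyf => ?_
    by_cases hyY : y ∈ Y
    · obtain ⟨z, rfl⟩ := (range_subschι hY).ge hyY
      exact (germ_push_eq_zero_iff ι A hy s).2
        (h z ((genericPoints_subsch hY hYs z).2 (mem_genericPoints_of_isField hyf)) hy)
    · exact stalk_eq_zero (fun hs => hyY (support_push_subsch hY hA.1 hs)) _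
  · have hy := (genericPoints_subsch hY hYs z).1 hz
    have hyY : ι z ∈ Y := (range_subschι hY).le ⟨z, rfl⟩
    letI := (isField_of_mem_genericPoints hz).toField
    haveI := isIso_stalk_quot hM.2.2 hGY hy hyY
    obtain ⟨e0⟩ := hM.2.2 (ι z) hy
    let e : ((Coh.push ι).obj A).presheaf.stalk (ι z) ≃ₗ[X.presheaf.stalk (ι z)] X.presheaf.stalk (ι z) :=
      ((asIso ((DerSch.stalkFunctor X (ι z)).map η)).symm ≪≫
        (asIso ((DerSch.stalkFunctor X (ι z)).map πY)).symm).toLinearEquiv.trans e0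
    letI := (isField_of_mem_genericPoints hy).toField
    haveI : Nontrivial (A.presheaf.stalk z) := not_subsingleton_iff_nontrivial.1 <| by
      refine (mem_support_push_iff ι A z).1 fun hs => ?_
      haveI := e.symm.toEquiv.subsingleton
      exact not_subsingleton (X.presheaf.stalk (ι z)) inferInstance
    obtain ⟨t0, ht0⟩ := exists_ne (0 : A.presheaf.stalk z)
    refine ⟨(LinearEquiv.ofBijective (LinearMap.toSpanSingleton _ _ t0) ⟨?_, fun t => ?_⟩).symm⟩
    · exact fun p q hpq => smul_left_injective _ ht0 hpq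
    · obtain ⟨U₀, hU₀, s₀, rfl⟩ := exists_lift_section ι A t0
      obtain ⟨U₁, hU₁, s₁, rfl⟩ := exists_lift_section ι A t
      let P := (Coh.push ι).obj A
      have h0 : P.presheaf.germ U₀ (ι z) hU₀ s₀ ≠ 0 := fun h => ht0 ((germ_push_eq_zero_iff ι A hU₀ s₀).1 h)
      have he : e (P.presheaf.germ U₀ (ι z) hU₀ s₀) ≠ 0 := fun h => h0 (e.injective (h.trans (map_zero e).symm))
      obtain ⟨c, hc⟩ : ∃ c : X.presheaf.stalk (ι z), c • P.presheaf.germ U₀ (ι z) hU₀ s₀ = P.presheaf.germ U₁ (ι z) hU₁ s₁ :=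
        ⟨e (P.presheaf.germ U₁ (ι z) hU₁ s₁) / e (P.presheaf.germ U₀ (ι z) hU₀ s₀),
          e.injective (by rw [map_smul, smul_eq_mul, div_mul_cancel₀ _ he])⟩
      obtain ⟨U₂, hU₂, b, rfl⟩ := X.presheaf.exists_germ_eq (x := ι z) c
      refine ⟨(VecSt.subsch X Y hY).presheaf.germ (ι ⁻¹ᵁ U₂) z hU₂ (ι.app U₂ b), ?_⟩
      let U := U₂ ⊓ (U₀ ⊓ U₁)
      have hz' : ι z ∈ U := ⟨hU₂, hU₀, hU₁⟩
      rw [← X.presheaf.germ_res_apply (homOfLE (inf_le_left : U ≤ U₂)) (ι z) hz' b,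
        ← P.presheaf.germ_res_apply (homOfLE (le_trans inf_le_right inf_le_left : U ≤ U₀)) (ι z) hz' s₀,
        ← P.presheaf.germ_res_apply (homOfLE (le_trans inf_le_right inf_le_right : U ≤ U₁)) (ι z) hz' s₁,
        ← QCoh.germ_smul', ← sub_eq_zero, ← map_sub] at hc
      have h2 := (germ_push_eq_zero_iff ι A hz' _).1 hc
      rw [map_sub, sub_eq_zero] at h2
      refine Eq.trans ?_ (h2.trans (A.presheaf.germ_res_apply
        (homOfLE (fun w hw => hw.2.2 : ι ⁻¹ᵁ U ≤ ι ⁻¹ᵁ U₁)) z hz' s₁))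
      refine Eq.trans ?_ (QCoh.germ_smul' (M := A) (U := ι ⁻¹ᵁ U) hz' (ι.app U (X.presheaf.map (homOfLE (inf_le_left : U ≤ U₂)).op b))
        (A.presheaf.map (homOfLE (fun w hw => hw.2.1 : ι ⁻¹ᵁ U ≤ ι ⁻¹ᵁ U₀)).op s₀)).symm
      rw [LinearMap.toSpanSingleton_apply]
      refine congrArg₂ (fun p q => p • q) ?_ (A.presheaf.germ_res_apply _ z hz' s₀).symm
      have hn : ι.app U (X.presheaf.map (homOfLE (inf_le_left : U ≤ U₂)).op b) =
          (VecSt.subsch X Y hY).presheaf.map (homOfLE (fun w hw => hw.1 : ι ⁻¹ᵁ U ≤ ι ⁻¹ᵁ U₂)).op (ι.app U₂ b) :=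
        congr($(ι.naturality (homOfLE (inf_le_left : U ≤ U₂)).op) b)
      rw [hn]
      exact ((VecSt.subsch X Y hY).presheaf.germ_res_apply
        (homOfLE (fun w hw => hw.1 : ι ⁻¹ᵁ U ≤ ι ⁻¹ᵁ U₂)) z hz' _).symm

include hYs in
/-- A torsion-free quotient on the subscheme pushes forward to one on the curve. -/
theorem isQuotOn_push {M : X.Modules} {A G : (VecSt.subsch X Y hY).Modules} (hA : Coh.IsQCoh A)
    (ψ : M ⟶ (Coh.push (VecSt.subschι X Y hY)).obj A) [Epi ψ] {T : Set (VecSt.subsch X Y hY)} (hT : IsClosed T)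
    (hTu : IsUnionComp T) {π : A ⟶ G} (h : TFOne.IsQuotOn (VecSt.subsch X Y hY) A T G π) :
    TFOne.IsQuotOn X M (VecSt.subschι X Y hY '' T) ((Coh.push (VecSt.subschι X Y hY)).obj G)
        (ψ ≫ (Coh.push (VecSt.subschι X Y hY)).map π) ∧
      IsUnionComp (VecSt.subschι X Y hY '' T) := by
  let ι := VecSt.subschι X Y hY
  haveI := h.1
  have hTc : IsClosed (ι '' T) := (IsClosedImmersion.base_closed (f := ι)).isClosedMap T hT
  have hTu' : IsUnionComp (ι '' T) := by
    rintro _ ⟨z, hz, rfl⟩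
    obtain ⟨w, hw, hwT, hsp⟩ := hTu z hz
    exact ⟨ι w, (genericPoints_subsch hY hYs w).1 hw, ⟨w, hwT, rfl⟩, hsp.map ι.continuous⟩
  haveI : Epi ((Coh.push ι).map π) := AmpleVan.epi_push ι hA h.2.1.1 π
  have hc : Coh.IsCoh ((Coh.push ι).obj G) := QCoh.isCoh_pushforward_finite ι h.2.1
  have ht : TorSh.IsTorsionFree ((Coh.push ι).obj G) := isTorsionFree_push hY hYs h.2.1.1 h.2.2.1
  refine ⟨⟨epi_comp _ _, hc, ht, support_eq_of_gen hc.1 ht hTc hTu' fun y hy => ?_⟩, hTu'⟩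
  refine ⟨fun hys => ?_, ?_⟩
  · obtain ⟨z, rfl⟩ := (range_subschι hY).ge (support_push_subsch hY h.2.1.1 hys)
    exact ⟨z, h.2.2.2 ▸ (mem_support_push_iff ι G z).1 hys, rfl⟩
  · rintro ⟨z, hz, rfl⟩
    exact (mem_support_push_iff ι G z).2 (h.2.2.2.symm ▸ hz)

end Subsch

section Euler

variable (k : Type u) [Field k] [X.Over (Spec (CommRingCat.of k))] [IsProper (X ↘ Spec (CommRingCat.of k))]
  {E : X.Modules} {r : ℕ} (hE : FlatMod.IsFinLocFreeOfRank r E) {Y : Set X} (hY : IsClosed Y)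

include hE in
/-- The defect does not change under direct images from a subcurve. -/
theorem delta_push {A : (VecSt.subsch X Y hY).Modules} (hA : Coh.IsCoh A) :
    letI : (VecSt.subsch X Y hY).Over (Spec (CommRingCat.of k)) :=
      ⟨VecSt.subschι X Y hY ≫ (X ↘ Spec (CommRingCat.of k))⟩
    delta k E r ((Coh.push (VecSt.subschι X Y hY)).obj A) =
        delta k ((Scheme.Modules.pullback (VecSt.subschι X Y hY)).obj E) r A ∧
      Curv2.euler k X ((Coh.push (VecSt.subschι X Y hY)).obj A) = Curv2.euler k (VecSt.subsch X Y hY) A := by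
  letI : (VecSt.subsch X Y hY).Over (Spec (CommRingCat.of k)) :=
    ⟨VecSt.subschι X Y hY ≫ (X ↘ Spec (CommRingCat.of k))⟩
  let i := VecSt.subschι X Y hY
  haveI := KFlatLib.isIso_projMod_of_isClosedImmersion i A E
  have hEf := CurveStable.isFinLocFree_of_rank hE
  have hEs : Coh.IsCoh ((Scheme.Modules.pullback i).obj E) := ZClosLib.isCoh_pullback i (CurveDeg.isCoh_of_isFinLocFree hEf)
  have hq : Coh.IsQCoh ((DCoh.tensorBi.obj ((Scheme.Modules.pullback i).obj E)).obj A) :=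
    (CurveTensor.isCoh_tensor (CurveStable.isFinLocFree_of_rank
      (LimitsH94.LM.isFinLocFreeOfRank_pullback i (CurveDeg.isCoh_of_isFinLocFree hEf).1
        (CurveDeg.isCoh_of_isFinLocFree hEf).2 r hE)) hA).1
  have h2 := SurfInt.euler_push k i rfl hA.1
  have h1 : Curv2.euler k X ((DCoh.tensorBi.obj E).obj ((Coh.push i).obj A)) =
      Curv2.euler k (VecSt.subsch X Y hY) ((DCoh.tensorBi.obj ((Scheme.Modules.pullback i).obj E)).obj A) := by
    rw [← SurfInt.euler_push k i rfl hq]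
    exact CurveCohLib.euler_congr (k := k) (CurveTensor.commIso _ _ ≪≫
      asIso (KFlatLib.projMod i A E) ≪≫ (Scheme.Modules.pushforward i).mapIso (CurveTensor.commIso _ _))
  refine ⟨?_, h2⟩
  unfold delta
  rw [h1, h2]

include hE in
/-- `β` on a subcurve is `β` of the direct image. -/
theorem rBeta_subsch (hYs : VecSt.IsSubcurve X Y) {T : Set (VecSt.subsch X Y hY)} (hT : IsClosed T)
    (hTu : IsUnionComp T) {G : (VecSt.subsch X Y hY).Modules} (hG : Coh.IsCoh G) :
    TFOne.rBeta (VecSt.subsch X Y hY) k (VecSt.subschι X Y hY ≫ (X ↘ Spec (CommRingCat.of k))) T hT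
        ((Scheme.Modules.pullback (VecSt.subschι X Y hY)).obj E) r G =
      TFOne.rBeta X k (X ↘ Spec (CommRingCat.of k)) (VecSt.subschι X Y hY '' T)
        ((IsClosedImmersion.base_closed (f := VecSt.subschι X Y hY)).isClosedMap T hT) E r
        ((Coh.push (VecSt.subschι X Y hY)).obj G) := by
  letI : (VecSt.subsch X Y hY).Over (Spec (CommRingCat.of k)) :=
    ⟨VecSt.subschι X Y hY ≫ (X ↘ Spec (CommRingCat.of k))⟩
  let i := VecSt.subschι X Y hY
  haveI : IsProper (VecSt.subsch X Y hY ↘ Spec (CommRingCat.of k)) :=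
    inferInstanceAs (IsProper (VecSt.subschι X Y hY ≫ (X ↘ Spec (CommRingCat.of k))))
  have hEf := CurveDeg.isCoh_of_isFinLocFree (CurveStable.isFinLocFree_of_rank hE)
  have hE' := LimitsH94.LM.isFinLocFreeOfRank_pullback i hEf.1 hEf.2 r hE
  have hTc := (IsClosedImmersion.base_closed (f := i)).isClosedMap T hT
  show TFOne.rBeta (VecSt.subsch X Y hY) k (VecSt.subsch X Y hY ↘ Spec (CommRingCat.of k)) T hT _ r G = _
  rw [rBeta_eq, rBeta_eq, (delta_push k hE hY hG).2, ← delta_push_structure k hE' hT,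
    ← delta_push_structure k hE hTc]
  congr 1
  have q1 := isQuotOn_structure hT (S := {C | C ∈ irreducibleComponents (VecSt.subsch X Y hY : Type u) ∧ C ⊆ T})
    (fun _ h => h.1) (eq_sUnion_of_isUnionComp hT hTu)
  haveI : Epi (ClSub.toSubscheme (Scheme.IdealSheafData.vanishingIdeal ⟨Y, hY⟩)) := epi_toSubscheme' _
  obtain ⟨q2, hu⟩ := isQuotOn_push hY hYs QCoh.isQCoh_structureModule
    (ClSub.toSubscheme (Scheme.IdealSheafData.vanishingIdeal ⟨Y, hY⟩)) hT hTu q1
  have q3 := isQuotOn_structure hTc (S := {C | C ∈ irreducibleComponents (X : Type u) ∧ C ⊆ i '' T})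
    (fun _ h => h.1) (eq_sUnion_of_isUnionComp hTc hu)
  obtain ⟨e⟩ := euler_quot_congr (isTF1_structure (X := X)).2.2 q3 q2
  rw [delta_congr k e, (delta_push k hE hY q1.2.1).1]

end Euler

end Groth.Agent.StabH89
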