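import Groth.Agent.StabH89.Ell
import Groth.Agent.StabH89.DecCurve
import Groth.Agent.HilbPoly.Simple
import Groth.Agent.RefX.Ext
import Groth.Agent.VarDim.Local
import Groth.Agent.VarDim.Top
import Groth.Agent.GrpSchLib.SmoothRegular
import Groth.Agent.ParaFX.Ufd
import Groth.Agent.RegLoc6.Normal

/-!
# Nonzero maps of slope stable reflexive sheaves
-/

set_option linter.style.haveILetI false
set_option linter.unusedSectionVars false
set_option backward.isDefEq.respectTransparency false
set_option backward.isDefEq.respectTransparency.types false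

universe u

open CategoryTheory CategoryTheory.Limits AlgebraicGeometry TopologicalSpace StabCat Polynomial

noncomputable section

namespace Groth.Agent.StabH89

open Groth.Agent Groth.Agent.HilbPoly

variable {X : Scheme.{u}}

lemma isTorsionFree_of_isReflexive [IsIntegral X] [IsLocallyNoetherian X] {F : X.Modules} (hF : Coh.IsCoh F)
    (hr : RefHull.IsReflexive F) : TorSh.IsTorsionFree F := fun x => by
  haveI : Module.IsReflexive (X.presheaf.stalk x) (F.presheaf.stalk x) := (RefX.isReflexive_iff hF).1 hr x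
  exact Function.Injective.moduleIsTorsionFree _ (Module.bijective_dual_eval (X.presheaf.stalk x) _).1 (map_smul _)

lemma genericPoint_mem_support [IsIntegral X] [IsLocallyNoetherian X] {F : X.Modules} (hF : Coh.IsCoh F)
    (htf : TorSh.IsTorsionFree F) (h0 : ¬ IsZero F) : genericPoint X ∈ CohB1.support F := by
  intro hg
  refine h0 (CurveCohLib.isZero_of_subsingleton_stalks fun x => ?_)
  refine subsingleton_of_forall_eq 0 fun t => ?_
  obtain ⟨U, hxU, s, rfl⟩ := TopCat.Presheaf.exists_germ_eq F.presheaf t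
  rw [TFCurvLib.eq_zero_of_germ_isField hF.1 htf s fun z hz hzf => by
    have : genericPoint X = z := TFCurvLib.eq_of_specializes_of_isField hzf (genericPoint_specializes z)
    subst this
    exact Subsingleton.elim _ _, map_zero]

/-- A monomorphism with a cokernel in codimension two between modules with extension is an isomorphism. -/
lemma isIso_of_extends {M N : X.Modules} (φ : M ⟶ N) [Mono φ] (U : X.Opens)
    (hM : RefX.ExtendsAcross U M) (hN : RefX.ExtendsAcross U N)
    (hU : ∀ x ∈ U, x ∉ CohB1.support (cokernel φ)) : IsIso φ := by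
  have hstalk : ∀ x ∈ U, Function.Bijective (ZClosLib.stalkMap φ x) := fun x hx => by
    refine ⟨ZClosLib.stalkMap_injective_of_mono φ x, ?_⟩
    let Φ := DerSch.stalkFunctor X x
    haveI : Subsingleton (Φ.obj (cokernel φ)) := not_not.1 (hU x hx)
    have hz : IsZero (cokernel (Φ.map φ)) :=
      (ModuleCat.isZero_of_subsingleton (Φ.obj (cokernel φ))).of_iso (PreservesCokernel.iso Φ φ).symm
    haveI := Preadditive.epi_of_isZero_cokernel _ hz
    exact (ModuleCat.epi_iff_surjective (Φ.map φ)).1 inferInstance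
  have hbij : ∀ V : X.Opens, V ≤ U → Function.Bijective (φ.app V) := fun V hV => by
    refine ⟨ZClosLib.app_injective_of_mono φ V, fun t => ?_⟩
    have hloc : ∀ p : V, ∃ (W : X.Opens) (hW : W ≤ V) (_ : p.1 ∈ W) (a : Γ(M, W)),
        φ.app W a = N.presheaf.map (homOfLE hW).op t := by
      intro p
      obtain ⟨z, hz⟩ := (hstalk p.1 (hV p.2)).2 (N.presheaf.germ V p.1 p.2 t)
      obtain ⟨W, hxW, a, rfl⟩ := TopCat.Presheaf.exists_germ_eq M.presheaf z
      rw [ZClosLib.stalkMap_germ] at hz
      obtain ⟨W', hxW', i₁, i₂, he⟩ := N.presheaf.germ_eq p.1 hxW p.2 _ _ hz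
      exact ⟨W', i₂.le, hxW', M.presheaf.map i₁.op a, (ZClosLib.app_res φ i₁.le a).trans he⟩
    choose W hW hxW a ha using hloc
    obtain ⟨s, hs, -⟩ := AModX.existsUnique_glue (M := M) (V := V) W hW (fun p hp => ⟨⟨p, hp⟩, hxW _⟩) a
      fun p q => ZClosLib.app_injective_of_mono φ _ (by
        erw [ZClosLib.app_res, ZClosLib.app_res, ha p, ha q]
        erw [ZClosLib.res_res, ZClosLib.res_res])
    refine ⟨s, AModX.eq_of_locally _ _ fun p hp => ⟨W ⟨p, hp⟩, hW _, hxW _, ?_⟩⟩
    rw [← AModX.app_res φ (hW ⟨p, hp⟩), hs]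
    exact ha _
  refine Scheme.Modules.Hom.isIso_iff_isIso_app.2 fun V => ?_
  rw [ConcreteCategory.isIso_iff_bijective]
  refine ⟨ZClosLib.app_injective_of_mono φ V, fun t => ?_⟩
  obtain ⟨a, ha⟩ := (hbij (V ⊓ U) inf_le_right).2 (AModX.res N inf_le_left t)
  obtain ⟨s, hs⟩ := (hM V).2 a
  refine ⟨s, (hN V).1 ?_⟩
  rw [← AModX.app_res φ inf_le_left, hs]
  exact ha

variable {k : Type u} [Field k] [X.Over (Spec (CommRingCat.of k))]
  [IsProper (X ↘ Spec (CommRingCat.of k))] {L : X.Modules}

include k in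
lemma isPure_of_torsionFree [IsIntegral X] {n : ℕ} (hX : topologicalKrullDim X = (n : WithBot ℕ∞))
    {F : X.Modules} (htf : TorSh.IsTorsionFree F) : ShStab.IsPure X F n := by
  haveI : IsNoetherian X := CurveCohLib.isNoetherian_of_proper (k := k)
  intro G g hg hG hG0
  haveI := hg
  have hgen := genericPoint_mem_support hG (isTorsionFree_of_monoCurve g htf) hG0
  have heq : CohB1.support G = Set.univ := eq_top_iff.2 <| by
    rw [Set.top_eq_univ, ← (genericPoint_spec X).def]
    exact (QCoh.isClosed_support_of_isFT hG.1 hG.2).closure_subset_iff.2 (Set.singleton_subset_iff.2 hgen)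
  rw [heq, ← hX]
  exact IsHomeomorph.topologicalKrullDim_eq _ (Homeomorph.Set.univ X).isHomeomorph

theorem isIso_of_muStable [IsIntegral X] [Smooth (X ↘ Spec (CommRingCat.of k))] {n : ℕ} (hn : 1 ≤ n)
    (hX : topologicalKrullDim X = (n : WithBot ℕ∞)) (hL : CohB1.IsAmple L) {F G : X.Modules}
    (hFr : RefHull.IsReflexive F) (hGr : RefHull.IsReflexive G)
    (hF : ShStab.IsMuStable k X L F n) (hG : ShStab.IsMuStable k X L G n) {pF pG : ℚ[X]}
    (hpF : ShStab.IsHilbPoly k X L F pF) (hpG : ShStab.IsHilbPoly k X L G pG)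
    (hle : StabCat.hatSlope n pG ≤ StabCat.hatSlope n pF) (φ : F ⟶ G) (hφ : φ ≠ 0) : IsIso φ := by
  haveI : IsNoetherian X := CurveCohLib.isNoetherian_of_proper (k := k)
  obtain ⟨hFc, hF0, hdF, -, hFst⟩ := hF
  obtain ⟨hGc, hG0, hdG, -, hGst⟩ := hG
  have hFp := isPure_of_torsionFree (k := k) hX (isTorsionFree_of_isReflexive hFc hFr)
  have hGp := isPure_of_torsionFree (k := k) hX (isTorsionFree_of_isReflexive hGc hGr)
  obtain ⟨K, I, a, p, b, w, hfac, ha, hb, hp, hS, hKc, hIc⟩ := exists_factor (k := k) hFc hGc φ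
  haveI := ha; haveI := hb; haveI := hp
  have hI0 : ¬ IsZero I := fun h => hφ (by rw [← hfac, h.eq_of_tgt p 0, Limits.zero_comp])
  have hdI := hGp I b hb hIc hI0
  obtain ⟨pI, hpI, -, -⟩ := exists_hilb (k := k) hL.1 hIc hdI.le
  obtain ⟨pK, hpK, -, -⟩ := exists_hilb (k := k) hL.1 hKc (dim_mono hKc hFc a hdF.le)
  have hsum := isHilbPoly_unique hpF (hilb_add hL.1 hS hKc hFc hIc hpK hpI)
  have hα : ∀ j, alpha j pF = alpha j pK + alpha j pI := fun j => by rw [hsum, HilbPoly.alpha_add]
  obtain ⟨hQc, hdQ, hpQ⟩ := cokernel_data (k := k) hL hIc hGc hdG.le b hpI hpG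
  have hαI := alpha_pos hL hIc hdI hpI
  have hαG := alpha_pos hL hGc hdG hpG
  have hαF := alpha_pos hL hFc hdF hpF
  have hαQ := alpha_nonneg hL hQc hdQ hpQ
  have hαs : ∀ j, alpha j (pG - pI) = alpha j pG - alpha j pI := fun j => by
    simp only [alpha, Polynomial.coeff_sub]; ring
  rw [hαs] at hαQ
  have hIG : alpha n pI = alpha n pG → alpha (n - 1) pI ≤ alpha (n - 1) pG := fun h => by
    have hlt : topologicalKrullDim ↥(CohB1.support (cokernel b)) < (n : WithBot ℕ∞) :=
      lt_of_le_of_ne hdQ fun he => by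
        have := alpha_pos hL hQc he hpQ
        rw [hαs, h, sub_self] at this
        exact lt_irrefl _ this
    have := alpha_nonneg hL hQc (pred_cast hn hlt) hpQ
    rw [hαs] at this
    linarith
  have hle' := hle
  simp only [hatSlope, div_le_div_iff₀ hαG hαF] at hle'
  by_cases hK0 : IsZero K
  swap
  · exfalso
    have hαK := alpha_pos hL hKc (hFp K a ha hKc hK0) hpK
    have hlt : alpha n pK < alpha n pF := by rw [hα]; linarith
    have h1 := hFst K a ha hKc pK pF hpK hpF hαK hlt
    simp only [hatSlope, div_lt_div_iff₀ hαK hαF] at h1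
    rcases eq_or_lt_of_le (show alpha n pI ≤ alpha n pG by linarith) with he | hltI
    · have h2 := hIG he
      rw [hα, hα] at h1
      rw [hα, hα] at hle'
      rw [he] at h1 hle'
      nlinarith
    · have h2 := hGst I b hb hIc pI pG hpI hpG hαI hltI
      simp only [hatSlope, div_lt_div_iff₀ hαI hαG] at h2
      rw [hα, hα] at h1
      rw [hα, hα] at hle'
      nlinarith
  have hpK0 : pK = 0 := isHilbPoly_unique hpK (hilb_isZero hK0)
  rw [hpK0, zero_add] at hsum
  subst hsum
  haveI : Mono p := hS.exact.mono_g (hK0.eq_of_src _ _)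
  haveI : Mono φ := by rw [← hfac]; exact mono_comp _ _
  obtain ⟨hCc, hdC, hpC⟩ := cokernel_data (k := k) hL hFc hGc hdG.le φ hpF hpG
  have heq : alpha n pF = alpha n pG := by
    refine le_antisymm (by linarith) (le_of_not_gt fun hlt => ?_)
    have h2 := hGst I b hb hIc pF pG hpI hpG hαI hlt
    simp only [hatSlope, div_lt_div_iff₀ hαI hαG] at h2
    linarith
  have heq' : alpha (n - 1) pF = alpha (n - 1) pG := by
    refine le_antisymm (hIG heq) ?_
    rw [heq] at hle'
    exact le_of_mul_le_mul_right (by linarith) hαG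
  -- the cokernel has codimension at least two
  have hC : topologicalKrullDim ↥(CohB1.support (cokernel φ)) < ((n - 1 : ℕ) : WithBot ℕ∞) := by
    have h1 : topologicalKrullDim ↥(CohB1.support (cokernel φ)) < (n : WithBot ℕ∞) :=
      lt_of_le_of_ne hdC fun he => by
        have := alpha_pos hL hCc he hpC
        rw [hαs, heq, sub_self] at this
        exact lt_irrefl _ this
    refine lt_of_le_of_ne (pred_cast hn h1) fun he => ?_
    have := alpha_pos hL hCc he hpC
    rw [hαs, heq', sub_self] at this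
    exact lt_irrefl _ this
  let f := X ↘ Spec (CommRingCat.of k)
  let U : X.Opens := ⟨(CohB1.support (cokernel φ))ᶜ, (QCoh.isClosed_support_of_isFT hCc.1 hCc.2).isOpen_compl⟩
  have hdepth : ∀ x : X, x ∉ U → (2 : ℕ∞) ≤ LocCoh.depth (X.presheaf.stalk x) (X.presheaf.stalk x) := by
    intro x hx
    have hxC : x ∈ CohB1.support (cokernel φ) := not_not.1 hx
    have h1 : ((VarDim.deg f x : ℕ∞) : WithBot ℕ∞) < ((n - 1 : ℕ) : WithBot ℕ∞) := by
      rw [← VarDim.topologicalKrullDim_closure_singleton f x]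
      exact lt_of_le_of_lt (H23.TopDim.dim_le_dim_of_subset ((QCoh.isClosed_support_of_isFT hCc.1
        hCc.2).closure_subset_iff.2 (Set.singleton_subset_iff.2 hxC))) hC
    have h1' : VarDim.deg f x < n - 1 := Nat.cast_lt.1 (WithBot.coe_lt_coe.1 h1)
    have h2 : ((VarDim.deg f (genericPoint X) : ℕ∞) : WithBot ℕ∞) = ((n : ℕ∞) : WithBot ℕ∞) := by
      rw [← VarDim.topologicalKrullDim_eq_deg_genericPoint f]; exact hX
    have h2' : VarDim.deg f (genericPoint X) = n := by exact_mod_cast h2
    obtain ⟨bb, hbb, -, hb'⟩ := VarDim.exists_deg_add_stalk f x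
    have h3 := hb' _ (genericPoint_specializes x)
    haveI := GrpSchLib.isRegularLocalRing_stalk_of_smooth f x
    haveI : IsIntegrallyClosed (X.presheaf.stalk x) :=
      RegLoc6.isIntegrallyClosed_of_isRegularLocalRing (X.presheaf.stalk x)
    refine ParaFX.two_le_depth_of_normal _ ?_
    rw [hbb]
    exact_mod_cast (show 2 ≤ bb by omega)
  exact isIso_of_extends φ U (RefX.extendsAcross_reflexive (U := U) hFc hFr hdepth)
    (RefX.extendsAcross_reflexive (U := U) hGc hGr hdepth) fun x hx => hx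

theorem endomorphism_scalar [IsAlgClosed k] [IsIntegral X] [Smooth (X ↘ Spec (CommRingCat.of k))] {n : ℕ}
    (hn : 1 ≤ n) (hX : topologicalKrullDim X = (n : WithBot ℕ∞)) (hL : CohB1.IsAmple L) {F : X.Modules}
    (hFr : RefHull.IsReflexive F) (hF : ShStab.IsMuStable k X L F n) (φ : F ⟶ F) :
    ∃ c : k, φ = HilbPoly.smulG F (Coh.toGlobal (X ↘ Spec (CommRingCat.of k)) c) := by
  obtain ⟨pF, hpF, -, -⟩ := exists_hilb (k := k) hL.1 hF.1 hF.2.2.1.le
  exact HilbPoly.exists_scalar (X ↘ Spec (CommRingCat.of k)) hF.1 hF.2.1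
    (fun ψ hψ => isIso_of_muStable hn hX hL hFr hFr hF hF hpF hpF le_rfl ψ hψ) φ

end Groth.Agent.StabH89
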