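import Groth.Agent.StabH89.HNEll

/-!
# The last factor of the `ℓ`-Harder–Narasimhan filtration as the minimal destabilising quotient
-/

set_option linter.style.haveILetI false
set_option linter.unusedSectionVars false
set_option backward.isDefEq.respectTransparency false
set_option backward.isDefEq.respectTransparency.types false

universe v u

open CategoryTheory CategoryTheory.Limits AlgebraicGeometry Polynomial StabCat TopologicalSpace

noncomputable section

namespace Groth.Agent.StabH89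

open Groth.Agent Groth.Agent.HilbPoly

variable {X : Scheme.{u}} {k : Type u} [Field k] [X.Over (Spec (CommRingCat.of k))]
  [IsProper (X ↘ Spec (CommRingCat.of k))] {L : X.Modules} {d ℓ : ℕ} {E : X.Modules}

/-- A morphism out of `E` is killed by the steps below which all slopes exceed the target. -/
lemma comp_eq_zero_of_slopes (hL : CohB1.IsAmple L) {s : LTSeries (Subobject E)} (hbot : s.head = ⊥)
    (hs : EllFactors k L d ℓ s) {G : X.Modules} (hG : SSEll k L d ℓ G) (q : E ⟶ G) :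
    ∀ a : Fin (s.length + 1), (∀ i : Fin s.length, i.castSucc < a →
      RedLT d (tq k L d ℓ G) (tq k L d ℓ (factor s i))) → (s a).arrow ≫ q = 0 := by
  intro a
  induction a using Fin.induction with
  | zero => intro _; rw [RelSeries.apply_zero, hbot, Subobject.bot_arrow, Limits.zero_comp]
  | succ a ih =>
    intro h
    have h0 := ih fun i hi => h i (hi.trans Fin.castSucc_lt_succ)
    have hg : Subobject.ofLE _ _ (le_of_lt (s.step a)) ≫ (s a.succ).arrow ≫ q = 0 := by
      rw [← Category.assoc, Subobject.ofLE_arrow]; exact h0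
    have h1 := (hs.1 a).hom_zero hL hG (h a Fin.castSucc_lt_succ) (cokernel.desc _ _ hg)
    rw [← cokernel.π_desc (Subobject.ofLE _ _ (le_of_lt (s.step a))) _ hg, h1, Limits.comp_zero]

lemma factor_last_iso (s : LTSeries (Subobject E)) (h : s.length ≠ 0) (htop : s.last = ⊤) :
    Nonempty (factor s ⟨s.length - 1, by omega⟩ ≅ cokernel s.eraseLast.last.arrow) := by
  let l : Fin s.length := ⟨s.length - 1, by omega⟩
  have e0 : s.eraseLast.last = s l.castSucc := by
    show s.toFun _ = s.toFun _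
    congr 1
  have e1 : s l.succ = ⊤ := by
    rw [← htop]
    exact congrArg s.toFun (Fin.ext (by simp [l]; omega))
  haveI : IsIso (s l.succ).arrow := by
    have key : ∀ T : Subobject E, T = ⊤ → IsIso T.arrow := fun T hT => by subst hT; infer_instance
    exact key _ e1
  rw [e0]
  exact ⟨cokernel.mapIso _ _ (Iso.refl _) (asIso (s l.succ).arrow) (by rw [Iso.refl_hom, Category.id_comp]; exact Subobject.ofLE_arrow _)⟩

theorem exists_iso_lastFactor (hL : CohB1.IsAmple L) (hE : Coh.IsCoh E) (h0 : ¬ IsZero E)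
    (hp : ShStab.IsPure X E d) (s : LTSeries (Subobject E))
    (hs : StabCat.IsHNWith (fun G => ShStab.IsEllSemistable k X L G d ℓ)
      (fun G P => ∃ Q : ℚ[X], ShStab.IsHilbPoly k X L G Q ∧ P = StabCat.topPart ℓ d Q) d E s)
    (G : X.Modules) (q : E ⟶ G) [Epi q] (hG : Coh.IsCoh G) (hG0 : ¬ IsZero G) (hGp : ShStab.IsPure X G d)
    (pF pG : ℚ[X]) (hpF : ShStab.IsHilbPoly k X L (cokernel s.eraseLast.last.arrow) pF)
    (hpG : ShStab.IsHilbPoly k X L G pG)
    (hα : StabCat.alpha d pF = StabCat.alpha d pG)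
    (hred : StabCat.RedEq d (StabCat.topPart ℓ d pF) (StabCat.topPart ℓ d pG)) :
    ∃ φ : (cokernel s.eraseLast.last.arrow) ≅ G, cokernel.π s.eraseLast.last.arrow ≫ φ.hom = q := by
  haveI : IsNoetherian X := CurveCohLib.isNoetherian_of_proper (k := k)
  obtain ⟨hsb, hst, hsf, hsd⟩ := hs
  have hfac : ∀ i, SSEll k L d ℓ (factor s i) := fun i => (ssEll_iff hL _).1 (hsf i)
  have hs' : EllFactors k L d ℓ s := ⟨hfac, fun i j hij =>
    hsd i j hij _ _ ⟨_, ((hfac i).data hL).1, rfl⟩ ⟨_, ((hfac j).data hL).1, rfl⟩⟩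
  have hne : s.length ≠ 0 := fun h => h0 (by
    have h2 : s.head = s.last := congrArg s.toFun (Fin.ext (by simp [h]))
    rw [hsb, hst] at h2
    have hz : IsZero ((⊥ : Subobject E) : X.Modules) := (isZero_zero _).of_iso Subobject.botCoeIsoZero
    rw [h2] at hz
    exact hz.of_iso (asIso (⊤ : Subobject E).arrow).symm)
  let l : Fin s.length := ⟨s.length - 1, by omega⟩
  obtain ⟨i₀⟩ := factor_last_iso s hne hst
  obtain ⟨hmin, htqmin⟩ := ssEll_of_iso hL i₀ (hfac l)
  set M := cokernel s.eraseLast.last.arrow with hM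
  have htqM : tq k L d ℓ M = topPart ℓ d pF := tq_eq hL hmin.2.2.1 hmin.1 hpF
  have htqG : tq k L d ℓ G = topPart ℓ d pG := tq_eq hL hGp hG hpG
  have hαM := (hmin.data hL).2.2.2
  -- no quotient has slope below the minimum
  have hd := dim_le_of_isPure hp hE
  let Bad : Subobject E → Prop := fun S => Coh.IsCoh (S : X.Modules) ∧ ¬ IsZero (cokernel S.arrow) ∧
    ShStab.IsPure X (cokernel S.arrow) d ∧ RedLT d (tq k L d ℓ (cokernel S.arrow)) (tq k L d ℓ M)
  have hfac_le : ∀ i, RedLE d (tq k L d ℓ M) (tq k L d ℓ (factor s i)) := fun i => by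
    rw [htqmin]
    rcases eq_or_lt_of_le (show i.val ≤ l.val by show _ ≤ s.length - 1; omega) with h | h
    · rw [Fin.ext h]; exact ⟨0, fun m _ => le_rfl⟩
    · exact redLE_of_redLT (hs'.redLT_of_lt hL h)
  have hkill : ∀ (A : X.Modules) (p : E ⟶ A), SSEll k L d ℓ A → RedLT d (tq k L d ℓ A) (tq k L d ℓ M) → p = 0 := by
    intro A p hA hlt
    have := comp_eq_zero_of_slopes hL hsb hs' hA p (Fin.last _) fun i _ =>
      redLT_trans_right (hA.data hL).2.2.2.le hαM ((hfac i).data hL).2.2.2 hlt (hfac_le i)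
    rw [RelSeries.apply_last, hst] at this
    rwa [← cancel_epi (⊤ : Subobject E).arrow, Limits.comp_zero]
  -- a proper step from a quotient which is not semistable
  have hstep : ∀ S : Subobject E, Coh.IsCoh (S : X.Modules) → ¬ IsZero (cokernel S.arrow) →
      ShStab.IsPure X (cokernel S.arrow) d → ¬ SSEll k L d ℓ (cokernel S.arrow) →
      ∃ T : Subobject E, S < T ∧ Coh.IsCoh (T : X.Modules) ∧ ¬ IsZero (cokernel T.arrow) ∧
        ShStab.IsPure X (cokernel T.arrow) d ∧
        RedLT d (tq k L d ℓ (cokernel T.arrow)) (tq k L d ℓ (cokernel S.arrow)) := by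
    intro S hS hQ0 hQp hnss
    set Q := cokernel S.arrow
    have hQ : Coh.IsCoh Q := QCoh.isCoh_cokernel hS.1 hE S.arrow
    obtain ⟨hpQ, hnQ, hαQ, hαQ'⟩ := pure_data (k := k) (ℓ := ℓ) hL hQp hQ hQ0
    unfold SSEll at hnss
    push Not at hnss
    obtain ⟨F, f, hf, hF, hF0, hbad⟩ := hnss hQ hQ0 hQp
    haveI := hf
    obtain ⟨hpF', hnF, hαF, -⟩ := pure_data (k := k) (ℓ := ℓ) hL (isPure_of_mono f hQp) hF hF0
    obtain ⟨F', f', l', hf', hl', hF', hRp, hprop⟩ :=
      exists_saturation (k := k) hL hQ (dim_le_of_isPure hQp hQ) f hF hpF'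
    haveI := hf'
    have hF'0 : ¬ IsZero F' := fun hz => hF0 ((IsZero.iff_id_eq_zero _).2 (by
      rw [← cancel_mono f, ← hl', hz.eq_of_tgt l' 0]; simp))
    obtain ⟨hpF'', hnF', hαF', hαF''⟩ := pure_data (k := k) (ℓ := ℓ) hL (isPure_of_mono f' hQp) hF' hF'0
    obtain ⟨hαeq, hple, -⟩ := hprop _ hpF''
    have hbad' : RedLT d (tq k L d ℓ Q) (tq k L d ℓ F') := by
      have h1 := (redLE_or_redLT d (tq k L d ℓ F) (tq k L d ℓ Q)).resolve_left hbad
      refine redLT_trans_right hαQ'.le ?_ hαF'' h1 (tq_mono_of_alpha_eq hnF hnF' hαeq hαF.le hple)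
      rw [tq, HilbPoly.alpha_topPart]; exact hαF
    obtain ⟨hR, hdR, hpR⟩ := cokernel_data (k := k) hL hF' hQ (dim_le_of_isPure hQp hQ) f' hpF'' hpQ
    have hR0 : ¬ IsZero (cokernel f') := fun hz => by
      haveI : Epi f' := Preadditive.epi_of_isZero_cokernel _ hz
      haveI := isIso_of_mono_of_epi f'
      refine not_redLE_of_redLT hbad' ?_
      rw [tq, tq, isHilbPoly_unique (hilb_iso (asIso f') hpF'') hpQ]
      exact ⟨0, fun m _ => le_rfl⟩
    let π : E ⟶ cokernel f' := cokernel.π S.arrow ≫ cokernel.π f'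
    haveI : Epi π := epi_comp _ _
    have hK : Coh.IsCoh (kernel π) := QCoh.isCoh_kernel hE hR π
    let T := Subobject.mk (kernel.ι π)
    have i1 : cokernel T.arrow ≅ cokernel (kernel.ι π) :=
      cokernel.mapIso _ _ (Subobject.underlyingIso (kernel.ι π)) (Iso.refl _) (by simp [T])
    have i2 : cokernel (kernel.ι π) ≅ cokernel f' :=
      (cokernelIsCokernel _).coconePointUniqueUpToIso
        (Abelian.epiIsCokernelOfKernel (KernelFork.ofι (kernel.ι π) (kernel.condition π)) (kernelIsKernel π))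
    let i := i1 ≪≫ i2
    have hTp : ShStab.IsPure X (cokernel T.arrow) d := isPure_of_mono i.hom hRp
    have hlt : RedLT d (tq k L d ℓ (cokernel T.arrow)) (tq k L d ℓ Q) := by
      rw [tq_eq hL hTp (HilbPoly.isCoh_of_iso i.symm hR) (hilb_iso i.symm hpR)]
      obtain ⟨N, hN⟩ := hbad'
      refine ⟨N, fun m hm => ?_⟩
      have := hN m hm
      simp only [tq, HilbPoly.alpha_topPart] at this ⊢
      simp only [topPart_sub, alpha, Polynomial.coeff_sub, eval_smul, eval_sub, smul_eq_mul] at this ⊢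
      linarith
    refine ⟨T, lt_of_le_of_ne (Subobject.le_mk_of_comm (kernel.lift π S.arrow (by simp [π])) (kernel.lift_ι _ _ _))
      (fun h => ?_), HilbPoly.isCoh_of_iso (Subobject.underlyingIso _).symm hK, fun hz => hR0 (hz.of_iso i.symm),
      hTp, hlt⟩
    have key : ∀ U : Subobject E, S = U → RedLT d (tq k L d ℓ (cokernel U.arrow)) (tq k L d ℓ Q) → False := by
      rintro _ rfl h'
      exact not_redLE_of_redLT h' ⟨0, fun m _ => le_rfl⟩
    exact key T h hlt
  have hnobad : ¬ ∃ S, Bad S := fun hex => by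
    obtain ⟨S, ⟨hS, hQ0, hQp, hlt⟩, hmax⟩ := exists_maximal_coh hE Bad (fun _ h => h.1) hex
    by_cases hss : SSEll k L d ℓ (cokernel S.arrow)
    · have h := hkill _ (cokernel.π S.arrow) hss hlt
      exact hQ0 ((IsZero.iff_id_eq_zero _).2 (by rw [← cancel_epi (cokernel.π S.arrow), h]; simp))
    · obtain ⟨T, hST, hT, hT0, hTp, hTlt⟩ := hstep S hS hQ0 hQp hss
      refine hST.ne (hmax T ⟨hT, hT0, hTp, ?_⟩ hST.le).symm
      obtain ⟨-, -, -, a1⟩ := pure_data (k := k) (ℓ := ℓ) hL hTp
        (QCoh.isCoh_cokernel hT.1 hE T.arrow) hT0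
      obtain ⟨-, -, -, a2⟩ := pure_data (k := k) (ℓ := ℓ) hL hQp (QCoh.isCoh_cokernel hS.1 hE S.arrow) hQ0
      exact redLT_trans_right a1.le a2 hαM hTlt (redLE_of_redLT hlt)
  -- the given quotient
  let K := Subobject.mk (kernel.ι q)
  have j1 : cokernel K.arrow ≅ cokernel (kernel.ι q) :=
    cokernel.mapIso _ _ (Subobject.underlyingIso (kernel.ι q)) (Iso.refl _) (by simp [K])
  have j2 : cokernel (kernel.ι q) ≅ G :=
    (cokernelIsCokernel _).coconePointUniqueUpToIso
      (Abelian.epiIsCokernelOfKernel (KernelFork.ofι (kernel.ι q) (kernel.condition q)) (kernelIsKernel q))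
  let j := j1 ≪≫ j2
  have hKc : Coh.IsCoh (K : X.Modules) :=
    HilbPoly.isCoh_of_iso (Subobject.underlyingIso _).symm (QCoh.isCoh_kernel hE hG q)
  have hKp := isPure_of_iso j.symm hGp
  have hK0 : ¬ IsZero (cokernel K.arrow) := fun hz => hG0 (hz.of_iso j.symm)
  have htqK : tq k L d ℓ (cokernel K.arrow) = tq k L d ℓ G :=
    (tq_eq hL hKp (HilbPoly.isCoh_of_iso j.symm hG) (hilb_iso j.symm hpG)).trans htqG.symm
  obtain ⟨-, -, -, hαG⟩ := pure_data (k := k) (ℓ := ℓ) hL hGp hG hG0
  have hGM : RedLE d (tq k L d ℓ G) (tq k L d ℓ M) := ⟨0, fun m _ => by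
    rw [htqG, htqM]
    exact le_of_eq (congrArg (Polynomial.eval (m : ℚ)) hred).symm⟩
  have hGss : SSEll k L d ℓ G := by
    by_contra hn
    have hn' : ¬ SSEll k L d ℓ (cokernel K.arrow) := fun h => hn (ssEll_of_iso hL j h).1
    obtain ⟨T, -, hT, hT0, hTp, hTlt⟩ := hstep K hKc hK0 hKp hn'
    refine hnobad ⟨T, hT, hT0, hTp, ?_⟩
    obtain ⟨-, -, -, a1⟩ := pure_data (k := k) (ℓ := ℓ) hL hTp (QCoh.isCoh_cokernel hT.1 hE T.arrow) hT0
    exact redLT_trans_right a1.le hαG hαM (htqK ▸ hTlt) hGM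
  have hkl : (s l.castSucc).arrow ≫ q = 0 := by
    refine comp_eq_zero_of_slopes hL hsb hs' hGss q _ fun i hi => ?_
    have h1 : RedLT d (tq k L d ℓ M) (tq k L d ℓ (factor s i)) := by
      rw [htqmin]; exact hs'.redLT_of_lt hL hi
    exact redLT_trans_left hαG hαM ((hfac i).data hL).2.2.2.le hGM h1
  have he : s.eraseLast.last = s l.castSucc := by
    show s.toFun _ = s.toFun _
    congr 1
  have hz : s.eraseLast.last.arrow ≫ q = 0 := by
    have key : ∀ T : Subobject E, T = s l.castSucc → T.arrow ≫ q = 0 := by rintro _ rfl; exact hkl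
    exact key _ he
  let φ : M ⟶ G := cokernel.desc _ q hz
  haveI : Epi φ := by
    haveI : Epi (cokernel.π s.eraseLast.last.arrow ≫ φ) := by rw [cokernel.π_desc]; infer_instance
    exact epi_of_epi (cokernel.π s.eraseLast.last.arrow) φ
  obtain ⟨hKc', hdK, hpK⟩ := kernel_data (k := k) hL hmin.1 hG (dim_le_of_isPure hmin.2.2.1 hmin.1) φ hpF hpG
  have hKz : IsZero (kernel φ) := by
    by_contra hn
    have h := alpha_pos hL hKc' (dim_of_isPure (isPure_of_mono (kernel.ι φ) hmin.2.2.1) hKc' hn) hpK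
    simp only [alpha, Polynomial.coeff_sub] at h hα
    linarith
  haveI : Mono φ := Preadditive.mono_of_isZero_kernel _ hKz
  haveI := isIso_of_mono_of_epi φ
  exact ⟨asIso φ, cokernel.π_desc _ _ _⟩

end Groth.Agent.StabH89
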