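import Groth.Agent.StabH89.DecCurve
import Groth.Agent.QCoh.LocFree
import Groth.Agent.Lib.CurveStable
import Groth.Agent.KRRLib.Ample
import Groth.Agent.AlgSpLib.DescendLocally

/-!
# The slope bound for parabolic semistable tensor fields
-/

set_option linter.style.haveILetI false
set_option linter.unusedSectionVars false
set_option backward.isDefEq.respectTransparency false
set_option backward.isDefEq.respectTransparency.types false

universe u

open CategoryTheory CategoryTheory.Limits AlgebraicGeometry TopologicalSpace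

noncomputable section

namespace Groth.Agent.StabH89

open Groth.Agent

variable {X : Scheme.{u}}

theorem isTorsionFree_of_finLocFree {E : X.Modules} (hE : FlatMod.IsFinLocFree E) : TorSh.IsTorsionFree E := fun x => by
  haveI : Module.Free (X.presheaf.stalk x) (E.presheaf.stalk x) := QCoh.free_stalk_of_isFinLocFree hE x
  let b := Module.Free.chooseBasis (X.presheaf.stalk x) (E.presheaf.stalk x)
  refine ⟨fun r hr m m' h => b.repr.injective (Finsupp.ext fun j => hr.left ?_)⟩
  simpa using DFunLike.congr_fun (congrArg b.repr h) j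

variable {k : Type u} [Field k] [X.Over (Spec (CommRingCat.of k))]
  [IsProper (X ↘ Spec (CommRingCat.of k))] [AlgebraicGeometry.IsReduced X] {L E D : X.Modules} {r a b ν : ℕ}

theorem finrank_map_mkQ_le {V : Type u} [AddCommGroup V] [Module k V] (K : Submodule k V) (hr : r ≠ 0)
    (hK : Module.finrank k (V ⧸ K) = r) (S : Submodule k V) :
    Module.finrank k (S.map K.mkQ) ≤ r := by
  haveI : Module.Finite k (V ⧸ K) := Module.finite_of_finrank_pos (by omega)
  exact hK ▸ Submodule.finrank_le _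

/-- The slope bound for `(κ, δ)`-semistable parabolic tensor fields, multiplied out. -/
theorem par_slope_bound (hdim : topologicalKrullDim X = 1) (hpure : ∀ x : X, ¬ IsOpen ({x} : Set X))
    (hL : CohB1.IsAmple L) (hE : FlatMod.IsFinLocFreeOfRank r E)
    (I : Fin ν → X.IdealSheafData) (K : ∀ i, Submodule k (ParSh.fibD X (I i) E))
    (hK : ∀ i, Module.finrank k (ParSh.fibD X (I i) E ⧸ K i) = r)
    (κ : Fin ν → ℚ) (hκ : ∀ i, 0 < κ i ∧ κ i < 1) (T : DecSh.TF E a b D) {δ : ℚ} (hδ : 0 < δ)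
    (hT : T.IsParSemistable k I K κ L δ) {F : X.Modules} (ι : F ⟶ E) [Mono ι] (hF : Coh.IsCoh F)
    (hF0 : ¬ IsZero F) (hι : ¬ IsIso ι) :
    (1 ≤ DecSh.mult k X L F ∧ DecSh.mult k X L F ≤ DecSh.mult k X L E) ∧
    (DecSh.mult k X L E : ℚ) * (Curv2.euler k X F : ℚ) - (DecSh.mult k X L F : ℚ) * (Curv2.euler k X E : ℚ) ≤
      δ * (a : ℚ) * ((DecSh.mult k X L E : ℚ) - (DecSh.mult k X L F : ℚ)) +
        (DecSh.mult k X L E : ℚ) * ((r : ℚ) * (ν : ℚ)) := by
  haveI : IsNoetherian X := CurveCohLib.isNoetherian_of_proper (k := k)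
  have hEf := CurveStable.isFinLocFree_of_rank hE
  have hEc : Coh.IsCoh E := CurveDeg.isCoh_of_isFinLocFree hEf
  have htf := isTorsionFree_of_finLocFree hEf
  have hb := decMult_bounds (k := k) hdim hpure hL hEc htf ι hF hF0
  refine ⟨hb, ?_⟩
  have hr : r ≠ 0 := by
    rintro rfl
    exact hF0 (IsZero.of_mono ι (KRRLib.isZero_of_rank_zero hE))
  let P := Subobject.mk ι
  have hPe : (P : X.Modules) ≅ F := Subobject.underlyingIso ι
  have hPc : Coh.IsCoh (P : X.Modules) := HilbPoly.isCoh_of_iso hPe.symm hF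
  have hP0 : ¬ IsZero (P : X.Modules) := fun hz => hF0 (hz.of_iso hPe.symm)
  let 𝓕 := DecSh.WFilt.single P (fun h => hι ((Subobject.isIso_iff_mk_eq_top ι).2 h)) hP0
  have h1 := hT 𝓕 fun _ => hPc
  have h2 := mu_single_ge 𝓕 (α := fun Q => DecSh.mult k X L (Q : X.Modules)) (αE := DecSh.mult k X L E)
    (fun _ => decMult_bounds (k := k) hdim hpure hL hEc htf P.arrow hPc hP0) T.nv
  simp only [DecSh.WFilt.msum] at h1
  simp only [𝓕, DecSh.WFilt.single, Finset.univ_unique, Finset.sum_singleton, one_mul] at h1 h2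
  rw [decMult_iso hL.1 hPe] at h1 h2
  simp only [DecSh.parChi] at h1
  rw [(HilbPoly.additive_euler (k := k)).iso _ _ ⟨hPe⟩] at h1
  have hsum : ∀ (M : X.Modules) (g : M ⟶ E), 0 ≤ ∑ i, κ i *
        (Module.finrank k ((LinearMap.range (ParSh.fibDMap k X (I i) g)).map (K i).mkQ) : ℚ) ∧
      ∑ i, κ i * (Module.finrank k ((LinearMap.range (ParSh.fibDMap k X (I i) g)).map (K i).mkQ) : ℚ) ≤
        (r : ℚ) * (ν : ℚ) := fun M g => by
    refine ⟨Finset.sum_nonneg fun i _ => mul_nonneg (hκ i).1.le (Nat.cast_nonneg _), ?_⟩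
    refine (Finset.sum_le_sum fun i _ => ?_).trans (b := ∑ _i : Fin ν, (r : ℚ)) (by simp [mul_comm])
    calc κ i * (Module.finrank k ((LinearMap.range (ParSh.fibDMap k X (I i) g)).map (K i).mkQ) : ℚ)
        ≤ 1 * (r : ℚ) := mul_le_mul (hκ i).2.le (by exact_mod_cast finrank_map_mkQ_le (K i) hr (hK i) _)
          (Nat.cast_nonneg _) zero_le_one
      _ = r := one_mul _
  have hP := hsum _ P.arrow
  have hE' := hsum _ (𝟙 E)
  have hF1 : (1 : ℚ) ≤ (DecSh.mult k X L F : ℚ) := by exact_mod_cast hb.1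
  have hE1 : (1 : ℚ) ≤ (DecSh.mult k X L E : ℚ) := by exact_mod_cast hb.1.trans hb.2
  nlinarith [mul_le_mul_of_nonneg_left h2 hδ.le,
    mul_le_mul_of_nonneg_left hP.2 (le_trans zero_le_one hE1), mul_nonneg (le_trans zero_le_one hF1) hE'.1]

end Groth.Agent.StabH89
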