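import Groth.Agent.StabH89.HN

/-!
# Truncated reduced polynomials and `ℓ`-semistable modules
-/

set_option linter.style.haveILetI false
set_option linter.unusedSectionVars false
set_option backward.isDefEq.respectTransparency false
set_option backward.isDefEq.respectTransparency.types false

universe v u

open CategoryTheory CategoryTheory.Limits AlgebraicGeometry Polynomial StabCat TopologicalSpace

noncomputable section

namespace Groth.Agent.StabH89

open Groth.Agent Groth.Agent.HilbPoly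

section Poly

variable {d ℓ : ℕ} {P Q : ℚ[X]}

lemma topPart_add (P Q : ℚ[X]) : topPart ℓ d (P + Q) = topPart ℓ d P + topPart ℓ d Q := by
  ext j; simp only [HilbPoly.topPart_coeff, Polynomial.coeff_add]; split_ifs <;> simp

lemma topPart_sub (P Q : ℚ[X]) : topPart ℓ d (P - Q) = topPart ℓ d P - topPart ℓ d Q := by
  ext j; simp only [HilbPoly.topPart_coeff, Polynomial.coeff_sub]; split_ifs <;> simp

lemma topPart_zero : topPart ℓ d 0 = 0 := by
  ext j; simp only [HilbPoly.topPart_coeff, Polynomial.coeff_zero, ite_self]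

/-- For `ℓ = 1` the comparisons are those of `hatSlope`. -/
lemma red_topPart_one (hd : 1 ≤ d) (hP : 0 < alpha d P) (hQ : 0 < alpha d Q) :
    (RedLE d (topPart 1 d P) (topPart 1 d Q) ↔ hatSlope d P ≤ hatSlope d Q) ∧
      (RedLT d (topPart 1 d P) (topPart 1 d Q) ↔ hatSlope d P < hatSlope d Q) := by
  let c : ℚ := alpha d P * Q.coeff (d - 1) - alpha d Q * P.coeff (d - 1)
  have hT : alpha d P • topPart 1 d Q - alpha d Q • topPart 1 d P = monomial (d - 1) c := by
    ext j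
    simp only [Polynomial.coeff_sub, Polynomial.coeff_smul, HilbPoly.topPart_coeff, Polynomial.coeff_monomial,
      smul_eq_mul, c]
    by_cases h1 : d - 1 = j
    · subst h1
      rw [if_pos rfl, if_pos ⟨le_rfl, by omega⟩, if_pos ⟨le_rfl, by omega⟩]
    · rw [if_neg h1]
      by_cases h2 : d - 1 ≤ j ∧ j ≤ d
      · obtain rfl : j = d := by omega
        rw [if_pos h2, if_pos h2]
        simp only [alpha]; ring
      · rw [if_neg h2, if_neg h2]; ring
  have hev : ∀ m : ℕ, ((alpha d P • topPart 1 d Q).eval (m : ℚ) - (alpha d Q • topPart 1 d P).eval (m : ℚ)) =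
      c * (m : ℚ) ^ (d - 1) := fun m => by
    rw [← Polynomial.eval_sub, hT, Polynomial.eval_monomial]
  have hf : (0 : ℚ) < ((d - 1).factorial : ℚ) := by exact_mod_cast Nat.factorial_pos _
  have hc : c * ((d - 1).factorial : ℚ) = alpha d P * alpha (d - 1) Q - alpha d Q * alpha (d - 1) P := by
    simp only [alpha, c]; ring
  unfold RedLE RedLT PolyLE PolyLT
  simp only [HilbPoly.alpha_topPart]
  constructor
  · rw [hatSlope, hatSlope, div_le_div_iff₀ hP hQ]
    constructor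
    · rintro ⟨N, hN⟩
      have h1 := hN (N + 1) (by omega)
      have h2 := hev (N + 1)
      have hm : (0 : ℚ) < ((N + 1 : ℕ) : ℚ) ^ (d - 1) := by positivity
      have : 0 ≤ c := nonneg_of_mul_nonneg_left (by linarith) hm
      nlinarith
    · intro h
      refine ⟨0, fun m _ => ?_⟩
      have h2 := hev m
      have : 0 ≤ c := nonneg_of_mul_nonneg_left (by rw [hc]; linarith) hf
      have hm : (0 : ℚ) ≤ (m : ℚ) ^ (d - 1) := by positivity
      nlinarith
  · rw [hatSlope, hatSlope, div_lt_div_iff₀ hP hQ]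
    constructor
    · rintro ⟨N, hN⟩
      have h1 := hN (N + 1) (by omega)
      have h2 := hev (N + 1)
      have hm : (0 : ℚ) < ((N + 1 : ℕ) : ℚ) ^ (d - 1) := by positivity
      have : 0 < c := pos_of_mul_pos_left (by linarith) hm.le
      nlinarith
    · intro h
      refine ⟨1, fun m hm' => ?_⟩
      have h2 := hev m
      have : 0 < c := pos_of_mul_pos_left (by rw [hc]; linarith) hf.le
      have hm : (0 : ℚ) < (m : ℚ) ^ (d - 1) := pow_pos (by exact_mod_cast hm') _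
      nlinarith

end Poly

variable {X : Scheme.{u}} {k : Type u} [Field k] [X.Over (Spec (CommRingCat.of k))]
  [IsProper (X ↘ Spec (CommRingCat.of k))] {L : X.Modules} {d ℓ : ℕ} {E : X.Modules}

variable (k L d ℓ) in
/-- The truncated Hilbert polynomial. -/
def tq (F : X.Modules) : ℚ[X] := topPart ℓ d (hp k L F)

variable (k L d ℓ) in
/-- `ℓ`-semistability with the comparison on all nonzero coherent submodules. -/
def SSEll (A : X.Modules) : Prop :=
  Coh.IsCoh A ∧ ¬ IsZero A ∧ ShStab.IsPure X A d ∧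
    ∀ (G : X.Modules) (g : G ⟶ A), Mono g → Coh.IsCoh G → ¬ IsZero G →
      RedLE d (tq k L d ℓ G) (tq k L d ℓ A)

lemma pure_data (hL : CohB1.IsAmple L) {A : X.Modules} (hp' : ShStab.IsPure X A d) (hc : Coh.IsCoh A)
    (h0 : ¬ IsZero A) :
    ShStab.IsHilbPoly k X L A (hp k L A) ∧ (hp k L A).natDegree ≤ d ∧ 0 < alpha d (hp k L A) ∧
      0 < alpha d (tq k L d ℓ A) := by
  have hd := dim_of_isPure hp' hc h0
  have h : ShStab.IsHilbPoly k X L A (hp k L A) := isHilbPoly_hp (k := k) hL hc hd.le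
  have h' := alpha_pos hL hc hd h
  refine ⟨h, (hilb_props hL.1 hc hd.le h).1, h', ?_⟩
  rw [tq, HilbPoly.alpha_topPart]; exact h'

lemma SSEll.data (hL : CohB1.IsAmple L) {A : X.Modules} (hA : SSEll k L d ℓ A) :
    ShStab.IsHilbPoly k X L A (hp k L A) ∧ (hp k L A).natDegree ≤ d ∧ 0 < alpha d (hp k L A) ∧
      0 < alpha d (tq k L d ℓ A) :=
  pure_data hL hA.2.2.1 hA.1 hA.2.1

lemma tq_eq (hL : CohB1.IsAmple L) {A : X.Modules} (hp' : ShStab.IsPure X A d) (hc : Coh.IsCoh A) {p : ℚ[X]}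
    (h : ShStab.IsHilbPoly k X L A p) : tq k L d ℓ A = topPart ℓ d p := by
  rw [tq, isHilbPoly_unique (isHilbPoly_hp (k := k) (L := L) hL hc (dim_le_of_isPure hp' hc)) h]

lemma isPure_of_iso {A B : X.Modules} (e : A ≅ B) (h : ShStab.IsPure X A d) : ShStab.IsPure X B d :=
  isPure_of_mono e.inv h

lemma ssEll_iff (hL : CohB1.IsAmple L) (A : X.Modules) :
    ShStab.IsEllSemistable k X L A d ℓ ↔ SSEll k L d ℓ A := by
  constructor
  · rintro ⟨hc, h0, hp', hss⟩
    refine ⟨hc, h0, hp', fun G g hg hG hG0 => ?_⟩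
    haveI := hg
    obtain ⟨hpA, hnA, -, -⟩ := pure_data (k := k) (ℓ := ℓ) hL hp' hc h0
    obtain ⟨hpG, hnG, hαG, -⟩ := pure_data (k := k) (ℓ := ℓ) hL (isPure_of_mono g hp') hG hG0
    by_cases hi : IsIso g
    · rw [tq, isHilbPoly_unique (hilb_iso (asIso g) hpG) hpA]; exact ⟨0, fun m _ => le_rfl⟩
    obtain ⟨hpos, h | h⟩ := sub_cases hL hc hp' g hG hG0 hi hpG hpA
    · exact hss G g hg hG _ _ hpG hpA hpos h
    · exact redLE_topPart ℓ hnG hnA (redLE_of_redLT h)
  · rintro ⟨hc, h0, hp', hss⟩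
    refine ⟨hc, h0, hp', fun G g hg hG pG pA hpG hpA hpos _ => ?_⟩
    haveI := hg
    have hG0 : ¬ IsZero G := fun hz => by
      rw [isHilbPoly_unique hpG (hilb_isZero hz)] at hpos
      simp [alpha] at hpos
    have h := hss G g hg hG hG0
    rwa [tq_eq hL (isPure_of_mono g hp') hG hpG, tq_eq hL hp' hc hpA] at h

lemma ssEll_of_iso (hL : CohB1.IsAmple L) {A B : X.Modules} (e : A ≅ B) (hA : SSEll k L d ℓ A) :
    SSEll k L d ℓ B ∧ tq k L d ℓ B = tq k L d ℓ A := by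
  obtain ⟨hc, h0, hp', hss⟩ := hA
  have hBc := HilbPoly.isCoh_of_iso e hc
  have hBp := isPure_of_iso e hp'
  have heq : tq k L d ℓ B = tq k L d ℓ A :=
    tq_eq hL hBp hBc (hilb_iso e (pure_data (k := k) (ℓ := ℓ) hL hp' hc h0).1)
  refine ⟨⟨hBc, fun hz => h0 (hz.of_iso e), hBp, fun G g hg hG hG0 => ?_⟩, heq⟩
  haveI := hg
  rw [heq]
  exact hss G (g ≫ e.inv) (mono_comp _ _) hG hG0

lemma SSEll.hom_zero (hL : CohB1.IsAmple L) {A B : X.Modules} (hA : SSEll k L d ℓ A) (hB : SSEll k L d ℓ B)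
    (h : RedLT d (tq k L d ℓ B) (tq k L d ℓ A)) (φ : A ⟶ B) : φ = 0 := by
  by_contra hφ
  obtain ⟨K, I, a, p, b, w, hfac, ha, hb, hp', hS, hKc, hIc⟩ := exists_factor (k := k) hA.1 hB.1 φ
  haveI := ha; haveI := hb; haveI := hp'
  have hI0 : ¬ IsZero I := fun h => hφ (by rw [← hfac, h.eq_of_tgt p 0, Limits.zero_comp])
  have h2 : RedLE d (tq k L d ℓ I) (tq k L d ℓ B) := hB.2.2.2 I b hb hIc hI0
  obtain ⟨hpI, -, -, hαI⟩ := pure_data (k := k) (ℓ := ℓ) hL (isPure_of_mono b hB.2.2.1) hIc hI0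
  obtain ⟨hpA, -, -, hαA⟩ := hA.data hL
  have h1 : RedLE d (tq k L d ℓ A) (tq k L d ℓ I) := by
    by_cases hK0 : IsZero K
    · have h := hilb_add hL.1 hS hKc hA.1 hIc (hilb_isZero hK0) hpI
      rw [zero_add] at h
      show RedLE d (topPart ℓ d (hp k L A)) _
      rw [isHilbPoly_unique hpA h]
      exact ⟨0, fun m _ => le_rfl⟩
    · obtain ⟨hpK, -, -, -⟩ := pure_data (k := k) (ℓ := ℓ) hL (isPure_of_mono a hA.2.2.1) hKc hK0
      have hsum := isHilbPoly_unique hpA (hilb_add hL.1 hS hKc hA.1 hIc hpK hpI)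
      refine red_kernel_iff.1.1 ?_
      have e : tq k L d ℓ A - tq k L d ℓ I = tq k L d ℓ K := by
        show topPart ℓ d _ - topPart ℓ d _ = topPart ℓ d _
        rw [hsum, topPart_add, add_sub_cancel_right]
      rw [e]
      exact hA.2.2.2 K a ha hKc hK0
  exact not_redLE_of_redLT h (redLE_trans hαA.le hαI (hB.data hL).2.2.2.le h1 h2)

lemma tq_mono_of_alpha_eq {P Q : ℚ[X]} (hP : P.natDegree ≤ d) (hQ : Q.natDegree ≤ d) (hα : alpha d Q = alpha d P)
    (hpos : 0 ≤ alpha d P) (h : PolyLE P Q) : RedLE d (topPart ℓ d P) (topPart ℓ d Q) := by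
  refine redLE_topPart ℓ hP hQ ?_
  obtain ⟨N, hN⟩ := h
  refine ⟨N, fun m hm => ?_⟩
  rw [hα, eval_smul, eval_smul]
  exact mul_le_mul_of_nonneg_left (hN m hm) hpos

/-- The largest submodule of maximal truncated slope. -/
theorem exists_maxDestabEll (hL : CohB1.IsAmple L) (hE : Coh.IsCoh E) (h0 : ¬ IsZero E)
    (hp' : ShStab.IsPure X E d) :
    ∃ F : Subobject E, Coh.IsCoh (F : X.Modules) ∧ ¬ IsZero (F : X.Modules) ∧
      ∀ (G : X.Modules) (g : G ⟶ E), Mono g → Coh.IsCoh G → ¬ IsZero G →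
        RedLE d (tq k L d ℓ G) (tq k L d ℓ (F : X.Modules)) ∧
          (RedEq d (tq k L d ℓ G) (tq k L d ℓ (F : X.Modules)) → F.Factors g) := by
  classical
  haveI : IsNoetherian X := CurveCohLib.isNoetherian_of_proper (k := k)
  have hd := dim_le_of_isPure hp' hE
  obtain ⟨F₀, ι₀, hι₀, hF₀c, hF₀0, hmax₀⟩ := exists_maxDestab (k := k) hL hE h0 hp'
  haveI := hι₀
  obtain ⟨hpF₀, hnF₀, -, hαF₀⟩ := pure_data (k := k) (ℓ := ℓ) hL (isPure_of_mono ι₀ hp') hF₀c hF₀0
  have hle₀ : ∀ (G : X.Modules) (g : G ⟶ E), Mono g → Coh.IsCoh G → ¬ IsZero G →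
      RedLE d (tq k L d ℓ G) (tq k L d ℓ F₀) := fun G g hg hG hG0 => by
    haveI := hg
    obtain ⟨hpG, hnG, -, -⟩ := pure_data (k := k) (ℓ := ℓ) hL (isPure_of_mono g hp') hG hG0
    exact redLE_topPart ℓ hnG hnF₀ (hmax₀ G g hg hG hG0 _ _ hpF₀ hpG).1
  let P : Subobject E → Prop := fun S => Coh.IsCoh (S : X.Modules) ∧ ¬ IsZero (S : X.Modules) ∧
    RedLE d (tq k L d ℓ F₀) (tq k L d ℓ (S : X.Modules))
  have hex : ∃ S, P S := by
    refine ⟨Subobject.mk ι₀, HilbPoly.isCoh_of_iso (Subobject.underlyingIso ι₀).symm hF₀c,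
      fun hz => hF₀0 (hz.of_iso (Subobject.underlyingIso ι₀).symm), ?_⟩
    rw [tq, tq, (hp_mk (k := k) hL hE hd ι₀ hF₀c hpF₀).2]
    exact ⟨0, fun m _ => le_rfl⟩
  obtain ⟨F, ⟨hFc, hF0, hFmax⟩, hFm⟩ := exists_maximal_coh hE P (fun _ h => h.1) hex
  obtain ⟨-, -, -, hαF⟩ := pure_data (k := k) (ℓ := ℓ) hL (isPure_of_mono F.arrow hp') hFc hF0
  refine ⟨F, hFc, hF0, fun G g hg hG hG0 => ?_⟩
  haveI := hg
  obtain ⟨hpG, -, -, hαG⟩ := pure_data (k := k) (ℓ := ℓ) hL (isPure_of_mono g hp') hG hG0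
  have hGF : RedLE d (tq k L d ℓ G) (tq k L d ℓ (F : X.Modules)) :=
    redLE_trans hαG.le hαF₀ hαF.le (hle₀ G g hg hG hG0) hFmax
  refine ⟨hGF, fun heq => ?_⟩
  obtain ⟨hGc', hGp⟩ := hp_mk (k := k) hL hE hd g hG hpG
  obtain ⟨U, K, hFU, hGU, hKF, -, -, hUc, hKc, hsum⟩ := exists_sum_inter (k := k) hL hE hd hFc hGc'
  rw [hGp] at hsum
  have hU0 : ¬ IsZero (U : X.Modules) := fun hz => hF0 ((IsZero.iff_id_eq_zero _).2 (by
    rw [← cancel_mono (Subobject.ofLE F U hFU)]; exact hz.eq_of_tgt _ _))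
  obtain ⟨-, -, -, hαU⟩ := pure_data (k := k) (ℓ := ℓ) hL (isPure_of_mono U.arrow hp') hUc hU0
  have hsum' : tq k L d ℓ (U : X.Modules) + tq k L d ℓ (K : X.Modules) =
      tq k L d ℓ (F : X.Modules) + tq k L d ℓ G := by
    simp only [tq]
    rw [← topPart_add, hsum, topPart_add]
  have hKle : RedLE d (tq k L d ℓ (K : X.Modules)) (tq k L d ℓ (F : X.Modules)) := by
    by_cases hK0 : IsZero (K : X.Modules)
    · rw [show tq k L d ℓ (K : X.Modules) = 0 by
        rw [tq, isHilbPoly_unique (hp_sub (k := k) hL hE hd hKc) (hilb_isZero hK0), topPart_zero]]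
      exact ⟨0, fun m _ => by simp [alpha]⟩
    · obtain ⟨-, -, -, hαK⟩ := pure_data (k := k) (ℓ := ℓ) hL (isPure_of_mono K.arrow hp') hKc hK0
      exact redLE_trans hαK.le hαF₀ hαF.le (hle₀ _ K.arrow inferInstance hKc hK0) hFmax
  have hFU' : RedLE d (tq k L d ℓ (F : X.Modules)) (tq k L d ℓ (U : X.Modules)) := by
    obtain ⟨N, hN⟩ := hKle
    refine ⟨N, fun m hm => ?_⟩
    have h1 := hN m hm
    have h2 := congrArg (Polynomial.eval (m : ℚ)) heq
    have h3 := congrArg (Polynomial.eval (m : ℚ)) hsum'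
    have hα : alpha d (tq k L d ℓ (U : X.Modules)) + alpha d (tq k L d ℓ (K : X.Modules)) =
        alpha d (tq k L d ℓ (F : X.Modules)) + alpha d (tq k L d ℓ G) := by
      rw [← HilbPoly.alpha_add, hsum', HilbPoly.alpha_add]
    simp only [eval_smul, smul_eq_mul, eval_add] at h1 h2 h3 ⊢
    have h3' := congrArg (fun t => alpha d (tq k L d ℓ (F : X.Modules)) * t) h3
    have hα' := congrArg (fun t => (tq k L d ℓ (F : X.Modules)).eval (m : ℚ) * t) hα
    linarith
  have hUF : U = F := hFm U ⟨hUc, hU0, redLE_trans hαF₀.le hαF hαU.le hFmax hFU'⟩ hFU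
  rw [hUF] at hGU
  exact (Subobject.factors_iff _ _).2
    ⟨(Subobject.underlyingIso g).inv ≫ Subobject.ofLE _ _ hGU, by
      show (_ ≫ _) ≫ F.arrow = g
      rw [Category.assoc, Subobject.ofLE_arrow, Subobject.underlyingIso_arrow]⟩

end Groth.Agent.StabH89
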