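import Groth.Agent.ParShLib.Degree
import Groth.Agent.StabH89.ParAt
import Groth.Agent.VBCurvesLib.Basic
import Groth.Agent.Lib.CurveTensor
import Groth.Agent.CurveCohLib.SmoothCurve
import Groth.Agent.ParShLib.FibD
import Groth.Agent.ArSurfX.IdealFrame
import Groth.Prelude.Def_ParBun

/-!
# Parabolic degrees of bundles on a curve
-/

set_option linter.style.haveILetI false
set_option linter.unusedSectionVars false
set_option maxHeartbeats 400000
set_option backward.isDefEq.respectTransparency false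
set_option backward.isDefEq.respectTransparency.types false

universe u v

open CategoryTheory CategoryTheory.Limits AlgebraicGeometry TopologicalSpace MeasureTheory

noncomputable section

namespace Groth.Agent.StabH89

open Groth.Agent

/-! ### The parabolic degree as an integral -/

variable (k : Type u) [Field k] {X : Scheme.{u}} [X.Over (Spec (CommRingCat.of k))]

lemma sum_by_parts (p c : ℕ → ℝ) (n : ℕ) :
    ∑ i ∈ Finset.range (n + 1), (p (i + 1) - p i) * c i =
      c n * p (n + 1) + ∑ i ∈ Finset.range n, p (i + 1) * (c i - c (i + 1)) - p 0 * c 0 := by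
  induction n with
  | zero => simp; ring
  | succ n ih =>
    rw [Finset.sum_range_succ, ih, Finset.sum_range_succ _ n]
    ring

section Integral

variable {E : X.Modules} (𝓔 : ParSh.Str E)

/-- `a ↦ χ(E_a)`. -/
def eulerAt (a : ℝ) : ℝ := (Curv2.euler k X ((𝓔.at a : Subobject E) : X.Modules) : ℝ)

lemma intervalIntegrable_eulerAt_and_parEuler :
    IntervalIntegrable (eulerAt k 𝓔) volume 0 1 ∧ 𝓔.parEuler k X = ∫ a in (0 : ℝ)..1, eulerAt k 𝓔 a := by
  classical
  let p : ℕ → ℝ := fun n => if n = 0 then 0 else if h : n - 1 < 𝓔.l + 1 then 𝓔.wt ⟨n - 1, h⟩ else 1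
  let c : ℕ → ℝ := fun n =>
    if h : n < 𝓔.l + 2 then (Curv2.euler k X ((𝓔.pieceX ⟨n, h⟩ : Subobject E) : X.Modules) : ℝ) else 0
  have hp0 : p 0 = 0 := rfl
  have hpl : p (𝓔.l + 2) = 1 := by simp [p]
  have hps : ∀ (n : ℕ) (h : n < 𝓔.l + 1), p (n + 1) = 𝓔.wt ⟨n, h⟩ := fun n h => by simp [p, Nat.le_of_lt_succ h]
  have hle : ∀ n < 𝓔.l + 2, p n ≤ p (n + 1) := by
    intro n hn
    rcases Nat.eq_zero_or_pos n with rfl | hn0
    · rw [hp0, hps 0 (by omega)]; exact 𝓔.wt_nonneg
    · obtain ⟨m, rfl⟩ := Nat.exists_eq_add_of_le hn0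
      rw [Nat.add_comm 1 m, hps m (by omega)]
      by_cases hm : m + 1 < 𝓔.l + 1
      · rw [hps (m + 1) hm]; exact (𝓔.wt_strictMono (Fin.mk_lt_mk.2 (Nat.lt_succ_self m))).le
      · rw [show m + 1 + 1 = 𝓔.l + 2 by omega, hpl]
        exact ((𝓔.wt_strictMono.monotone (Fin.le_last _)).trans_lt 𝓔.wt_lt_one).le
  have hconst : ∀ n < 𝓔.l + 2, Set.EqOn (eulerAt k 𝓔) (fun _ => c n) (Set.uIoc (p n) (p (n + 1))) := by
    intro n hn a ha
    rw [Set.uIoc_of_le (hle n hn)] at ha
    have hlt : ∀ j' : Fin (𝓔.l + 1), (j' : ℕ) < n → 𝓔.wt j' < a := by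
      intro j' hj'
      refine lt_of_le_of_lt ?_ ha.1
      obtain ⟨m, rfl⟩ := Nat.exists_eq_add_of_le (show 1 ≤ n by omega)
      rw [Nat.add_comm 1 m, hps m (by omega)]
      exact 𝓔.wt_strictMono.monotone (Fin.le_def.2 (show (j' : ℕ) ≤ m by omega))
    show (Curv2.euler k X ((𝓔.at a : Subobject E) : X.Modules) : ℝ) = c n
    simp only [c, dif_pos hn]
    by_cases hm : n < 𝓔.l + 1
    · rw [𝓔.at_eq_piece ⟨n, hm⟩ (hps n hm ▸ ha.2) fun j' hj' => hlt j' hj',
        show (⟨n, hn⟩ : Fin (𝓔.l + 2)) = (⟨n, hm⟩ : Fin (𝓔.l + 1)).castSucc from rfl, 𝓔.pieceX_castSucc]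
    · rw [𝓔.at_eq_bot fun j => hlt j (lt_of_lt_of_le j.2 (by omega)),
        show (⟨n, hn⟩ : Fin (𝓔.l + 2)) = Fin.last (𝓔.l + 1) from Fin.ext (show n = 𝓔.l + 1 by omega), 𝓔.pieceX_last]
  have hint : ∀ n < 𝓔.l + 2, IntervalIntegrable (eulerAt k 𝓔) volume (p n) (p (n + 1)) := fun n hn =>
    (intervalIntegrable_const (c := c n)).congr (hconst n hn).symm
  refine ⟨by simpa [hp0, hpl] using IntervalIntegrable.trans_iterate (a := p) hint, ?_⟩
  rw [← hp0, ← hpl, ← intervalIntegral.sum_integral_adjacent_intervals hint,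
    Finset.sum_congr rfl (g := fun n => (p (n + 1) - p n) * c n) (fun n hn => by
      rw [intervalIntegral.integral_congr_ae (g := fun _ => c n)
        (Filter.Eventually.of_forall (hconst n (Finset.mem_range.1 hn))), intervalIntegral.integral_const, smul_eq_mul]),
    sum_by_parts p c (𝓔.l + 1), hp0, zero_mul, sub_zero, hpl, mul_one, Finset.sum_range]
  have hbot : c (𝓔.l + 1) = (Curv2.euler k X (𝓔.bot : X.Modules) : ℝ) := by
    simp only [c, dif_pos (show 𝓔.l + 1 < 𝓔.l + 2 by omega)]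
    rw [show (⟨𝓔.l + 1, _⟩ : Fin (𝓔.l + 2)) = Fin.last (𝓔.l + 1) from rfl, 𝓔.pieceX_last]
  rw [hbot]
  unfold ParSh.Str.parEuler ParSh.Str.parWt
  congr 1
  refine Finset.sum_congr rfl fun j _ => ?_
  simp only [c, dif_pos (show (j : ℕ) < 𝓔.l + 2 by omega), dif_pos (show (j : ℕ) + 1 < 𝓔.l + 2 by omega)]
  rw [hps j j.2, show (⟨(j : ℕ), _⟩ : Fin (𝓔.l + 2)) = j.castSucc from rfl, 𝓔.pieceX_castSucc]
  rfl

theorem parEuler_mono {F : X.Modules} (𝓕 : ParSh.Str F)
    (h : ∀ a : ℝ, 0 ≤ a → a ≤ 1 → eulerAt k 𝓔 a ≤ eulerAt k 𝓕 a) : 𝓔.parEuler k X ≤ 𝓕.parEuler k X := by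
  obtain ⟨h1, e1⟩ := intervalIntegrable_eulerAt_and_parEuler k 𝓔
  obtain ⟨h2, e2⟩ := intervalIntegrable_eulerAt_and_parEuler k 𝓕
  rw [e1, e2]
  exact intervalIntegral.integral_mono_on zero_le_one h1 h2 fun a ha => h a ha.1 ha.2

lemma parDeg_eq (r : ℕ) : 𝓔.parDeg k X r =
    (Curv2.deg k X E r : ℝ) - (Curv2.euler k X (𝓔.bot : X.Modules) : ℝ) + 𝓔.parEuler k X := by
  unfold ParSh.Str.parDeg ParSh.Str.parEuler
  ring

end Integral

/-! ### Twists by the divisor -/

section Twist

variable (I : X.IdealSheafData)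

lemma unitorR_natural {F G : X.Modules} (f : F ⟶ G) :
    (DCoh.tensorBi.map f).app (Coh.structureModule X) ≫ (SecTwist.unitorR G).hom =
      (SecTwist.unitorR F).hom ≫ f := by
  let adj := PresheafOfModules.sheafificationAdjunction.{u, u, u, u}
    (J := Opens.grothendieckTopology X) (𝟙 X.ringCatSheaf.obj)
  have h1 := MonoidalCategory.rightUnitor_naturality (DCoh.toP.map f)
  have h2 := congrArg (DCoh.shP (X := X)).map h1
  rw [Functor.map_comp, Functor.map_comp] at h2
  have h3 := adj.counit.naturality f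
  show DCoh.shP.map _ ≫ DCoh.shP.map _ ≫ adj.counit.app G = (DCoh.shP.map _ ≫ adj.counit.app F) ≫ f
  rw [Category.assoc]
  refine (Category.assoc _ _ _).symm.trans ((congrArg (· ≫ adj.counit.app G) h2).trans ?_)
  refine (Category.assoc _ _ _).trans ?_
  exact congrArg (_ ≫ ·) h3

lemma tensorMap_id_left (E : X.Modules) {A B : X.Modules} (g : A ⟶ B) :
    KoszTw.tensorMap (𝟙 E) g = (DCoh.tensorBi.obj E).map g := by
  unfold KoszTw.tensorMap
  rw [CategoryTheory.Functor.map_id, NatTrans.id_app]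
  exact Category.id_comp _

lemma twistMap_natural {F G : X.Modules} (f : F ⟶ G) :
    (DCoh.tensorBi.map f).app (ClSub.idealMod I) ≫ ParSh.twistMap I G = ParSh.twistMap I F ≫ f := by
  unfold ParSh.twistMap
  rw [tensorMap_id_left, tensorMap_id_left, Category.assoc]
  refine (Category.assoc _ _ _).symm.trans ?_
  rw [← NatTrans.naturality]
  refine (Category.assoc _ _ _).trans ?_
  exact congrArg (_ ≫ ·) (unitorR_natural f)

lemma mono_twistMap {V : X.Modules} (hV : FlatMod.IsFinLocFree V) : Mono (ParSh.twistMap I V) := by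
  haveI : Mono (ClSub.idealModι I) := by unfold ClSub.idealModι; infer_instance
  haveI : Mono ((DCoh.tensorBi.obj V).map (ClSub.idealModι I)) :=
    (CurveTensor.shortExact_tensor hV (ClSub.idealModι I) (cokernel.π _) (cokernel.condition _)
      { exact := ShortComplex.exact_of_g_is_cokernel _ (cokernelIsCokernel _) }).mono_f
  unfold ParSh.twistMap
  rw [tensorMap_id_left]
  exact mono_comp _ _

variable [IsProper (X ↘ Spec (CommRingCat.of k))] [IsIntegral X]

lemma euler_twistSub (hdim : topologicalKrullDim X = 1) (hI : PicF.IsInvertible (ClSub.idealMod I)) {n : ℕ}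
    {V : X.Modules} (hV : FlatMod.IsFinLocFreeOfRank n V) :
    Curv2.euler k X ((ParSh.twistSub I V : Subobject V) : X.Modules) =
      Curv2.euler k X V + n * (Curv2.euler k X (ClSub.idealMod I) - Curv2.euler k X (Coh.structureModule X)) := by
  haveI := mono_twistMap I (CurveStable.isFinLocFree_of_rank hV)
  have h1 : Curv2.euler k X ((ParSh.twistSub I V : Subobject V) : X.Modules) =
      Curv2.euler k X (CohB1.tensorMod V (ClSub.idealMod I)) :=
    CurveCohLib.euler_congr (k := k) (eqToIso (congrArg (fun S : Subobject V => (S : X.Modules))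
      (imageSubobject_mono (ParSh.twistMap I V))) ≪≫ Subobject.underlyingIso _)
  haveI := CurveCohLib.isNoetherian_of_proper (k := k) (X := X)
  refine h1.trans ((CurveTensor.euler_tensor k hdim hV (AmpleVan.isCoh_invertible hI)).trans ?_)
  rw [CurveBundle.rk_eq (InvEnd.isFinLocFreeOfRank_one hI)]
  unfold Curv2.deg
  push_cast
  ring

lemma imageSubobject_twist {E V : X.Modules} (hI : PicF.IsInvertible (ClSub.idealMod I)) (q : E ⟶ V) [Epi q] :
    imageSubobject ((ParSh.twistSub I E).arrow ≫ q) = ParSh.twistSub I V := by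
  haveI := AmpleVan.isEquivalence_tw hI
  haveI : Epi ((DCoh.tensorBi.map q).app (ClSub.idealMod I)) :=
    (inferInstance : Epi ((AmpleVan.tw (ClSub.idealMod I)).map q))
  rw [← imageSubobject_epi_comp (factorThruImageSubobject (ParSh.twistMap I E)), ← Category.assoc]
  unfold ParSh.twistSub
  rw [imageSubobject_arrow_comp, ← twistMap_natural, imageSubobject_epi_comp]

lemma pullback_twistSub {V F C : X.Modules} (hI : PicF.IsInvertible (ClSub.idealMod I)) {ι : V ⟶ F} [Mono ι]
    {p : F ⟶ C} (w : ι ≫ p = 0) (hS : (ShortComplex.mk ι p w).ShortExact) (hF : FlatMod.IsFinLocFree F)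
    (hC : FlatMod.IsFinLocFree C) :
    (Subobject.pullback ι).obj (ParSh.twistSub I F) = ParSh.twistSub I V := by
  haveI := mono_twistMap I hF
  haveI := mono_twistMap I hC
  haveI := AmpleVan.isEquivalence_tw hI
  haveI : (AmpleVan.tw (ClSub.idealMod I)).Additive := Functor.additive_of_preserves_binary_products _
  have hT := hS.map_of_exact (AmpleVan.tw (ClSub.idealMod I))
  haveI := hT.mono_f
  set W := (Subobject.pullback ι).obj (ParSh.twistSub I F)
  refine le_antisymm ?_ ?_
  · let e := Subobject.pullbackπ ι (ParSh.twistSub I F) ≫ eqToHom (congrArg (fun S : Subobject F => (S : X.Modules))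
      (imageSubobject_mono (ParSh.twistMap I F))) ≫ (Subobject.underlyingIso (ParSh.twistMap I F)).hom
    have he : e ≫ ParSh.twistMap I F = W.arrow ≫ ι := by
      rw [show W.arrow ≫ ι = Subobject.pullbackπ ι (ParSh.twistSub I F) ≫ (ParSh.twistSub I F).arrow from
        (Subobject.isPullback ι (ParSh.twistSub I F)).w.symm]
      simp only [e, Category.assoc, Subobject.underlyingIso_hom_comp_eq_mk]
      congr 1
      exact Subobject.arrow_congr _ _ (imageSubobject_mono (ParSh.twistMap I F))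
    have h0 : e ≫ (AmpleVan.tw (ClSub.idealMod I)).map p = 0 := by
      rw [← cancel_mono (ParSh.twistMap I C), zero_comp, Category.assoc]
      refine (congrArg (e ≫ ·) (twistMap_natural I p)).trans ?_
      rw [← Category.assoc, he, Category.assoc, w, comp_zero]
    obtain ⟨l, hl⟩ : ∃ l, l ≫ (AmpleVan.tw (ClSub.idealMod I)).map ι = e := ⟨hT.exact.lift e h0, hT.exact.lift_f e h0⟩
    refine Subobject.le_of_comm (l ≫ factorThruImageSubobject (ParSh.twistMap I V)) ?_
    unfold ParSh.twistSub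
    rw [Category.assoc, imageSubobject_arrow_comp, ← cancel_mono ι, Category.assoc, ← twistMap_natural, ← Category.assoc]
    exact (congrArg (· ≫ ParSh.twistMap I F) hl).trans he
  · refine imageSubobject_le _ ?_ ?_
    · exact (Subobject.isPullback ι (ParSh.twistSub I F)).lift
        ((DCoh.tensorBi.map ι).app (ClSub.idealMod I) ≫ factorThruImageSubobject (ParSh.twistMap I F))
        (ParSh.twistMap I V) (by
          unfold ParSh.twistSub
          rw [Category.assoc, imageSubobject_arrow_comp, twistMap_natural])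
    · exact IsPullback.lift_snd _ _ _ _

/-- The parabolic degree of an image is at most that of its saturation. -/
theorem parDeg_le_saturation (hdim : topologicalKrullDim X = 1) (hI : PicF.IsInvertible (ClSub.idealMod I))
    (hη : genericPoint X ∉ (I.support : Set X)) {E F V V' C : X.Modules} {r'' : ℕ}
    (hE : Coh.IsCoh E) (hF : FlatMod.IsFinLocFree F) {𝓔 : ParSh.Str E} (h𝓔 : 𝓔.Along I)
    (hEc : ∀ a, Coh.IsCoh ((𝓔.at a : Subobject E) : X.Modules))
    {𝓕 : ParSh.Str F} (h𝓕 : 𝓕.Along I) (hFc : ∀ a, Coh.IsCoh ((𝓕.at a : Subobject F) : X.Modules))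
    (q : E ⟶ V) [Epi q] (u : V ⟶ V') [Mono u] (ι : V' ⟶ F) [Mono ι] (hφ : ParSh.IsParHom 𝓔 𝓕 (q ≫ u ≫ ι))
    (hV : FlatMod.IsFinLocFreeOfRank r'' V) (hV' : FlatMod.IsFinLocFreeOfRank r'' V')
    {p : F ⟶ C} (w : ι ≫ p = 0) (hS : (ShortComplex.mk ι p w).ShortExact) (hC : FlatMod.IsFinLocFree C) :
    (𝓔.coinduced q).parDeg k X r'' ≤ (𝓕.induced ι).parDeg k X r'' := by
  haveI := CurveCohLib.isNoetherian_of_proper (k := k) (X := X)
  have hVc : Coh.IsCoh V := CurveDeg.isCoh_of_isFinLocFree (CurveStable.isFinLocFree_of_rank hV)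
  have hV'c : Coh.IsCoh V' := CurveDeg.isCoh_of_isFinLocFree (CurveStable.isFinLocFree_of_rank hV')
  have hb1 : (𝓔.coinduced q).bot = ParSh.twistSub I V := by
    show imageSubobject (𝓔.bot.arrow ≫ q) = _
    rw [show 𝓔.bot = ParSh.twistSub I E from h𝓔, imageSubobject_twist I hI q]
  have hb2 : (𝓕.induced ι).bot = ParSh.twistSub I V' := by
    show (Subobject.pullback ι).obj 𝓕.bot = _
    rw [show 𝓕.bot = ParSh.twistSub I F from h𝓕, pullback_twistSub I hI w hS hF hC]
  have hu : genericPoint X ∉ CohB1.support (cokernel u) := by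
    have hr := CurveSlope.rk_add_coh k _ _ _ (CurveSlope.shortExact_cokernel_of_mono u) hV'c
    rw [CurveBundle.rk_eq hV, CurveBundle.rk_eq hV'] at hr
    have hcok := QCoh.isCoh_cokernel hVc.1 hV'c u
    intro h
    exact CurveBundle.support_ne_univ_of_rk hcok (by omega) (Set.eq_univ_of_forall fun x =>
      ((genericPoint_spec X).specializes trivial : genericPoint X ⤳ x).mem_closed
        (QCoh.isClosed_support_of_isFT hcok.1 hcok.2) h)
  have hpt : ∀ a : ℝ, 0 ≤ a → a ≤ 1 → eulerAt k (𝓔.coinduced q) a ≤ eulerAt k (𝓕.induced ι) a := by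
    intro a h0 h1
    obtain ⟨g, hg⟩ := exists_at_map 𝓔 hφ a h0 h1
    haveI : Mono g := mono_of_mono_fac hg
    obtain ⟨hS0, hT0⟩ : Coh.IsCoh (((𝓔.coinduced q).at a : Subobject V) : X.Modules) ∧
        Coh.IsCoh (((𝓕.induced ι).at a : Subobject V') : X.Modules) := by
      rw [at_coinduced, at_induced]
      constructor
      · obtain ⟨w', h'⟩ := ParShLib.shortExact_pullback_image (CurveSlope.shortExact_kernel_of_epi q) (𝓔.at a)
        exact (ParShLib.isCoh_parts _ ((𝓔.at a).arrow ≫ q) (hEc a) hVc w' h').2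
      · obtain ⟨w', h'⟩ := ParShLib.shortExact_pullback_image hS (𝓕.at a)
        exact (ParShLib.isCoh_parts _ ((𝓕.at a).arrow ≫ p) (hFc a) (CurveDeg.isCoh_of_isFinLocFree hC) w' h').1
    refine Int.cast_le.2 (CurveCohLib.euler_le_of_mono (k := k) g hS0 hT0 fun x hx => ?_).1
    by_contra hc
    obtain rfl := CurveCohLib.eq_genericPoint_of_not_isClosed hdim hc
    let Φ := DerSch.stalkFunctor X (genericPoint X)
    haveI : IsIso (Φ.map ((𝓔.coinduced q).at a).arrow) := by
      rw [at_coinduced]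
      obtain ⟨j, hj⟩ := at_eq_pieceX 𝓔 a
      haveI : IsIso (Φ.map (𝓔.at a).arrow) := hj ▸ ParShLib.agreeOff_of_along I 𝓔 h𝓔 j _ hη
      haveI : Epi (Φ.map (𝓔.at a).arrow ≫ Φ.map q) := epi_comp _ _
      haveI : Epi (Φ.map (factorThruImageSubobject ((𝓔.at a).arrow ≫ q)) ≫
          Φ.map (imageSubobject ((𝓔.at a).arrow ≫ q)).arrow) := by
        rw [← Φ.map_comp, imageSubobject_arrow_comp, Φ.map_comp]; infer_instance
      haveI := epi_of_epi (Φ.map (factorThruImageSubobject ((𝓔.at a).arrow ≫ q)))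
        (Φ.map (imageSubobject ((𝓔.at a).arrow ≫ q)).arrow)
      exact isIso_of_mono_of_epi _
    haveI : IsIso (Φ.map ((𝓕.induced ι).at a).arrow) := by
      obtain ⟨j, hj⟩ := at_eq_pieceX (𝓕.induced ι) a
      rw [hj]
      exact (ParShLib.agreeOff_of_along I 𝓕 h𝓕).induced ι j _ hη
    haveI : IsIso (Φ.map u) := by
      haveI : Epi (Φ.map u) := Preadditive.epi_of_isZero_cokernel _
        ((ModuleCat.isZero_of_iff_subsingleton.2 (not_not.1 hu)).of_iso (PreservesCokernel.iso Φ u).symm)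
      exact isIso_of_mono_of_epi _
    haveI : IsIso (Φ.map g) := by
      haveI : IsIso (Φ.map g ≫ Φ.map ((𝓕.induced ι).at a).arrow) := by
        rw [← Φ.map_comp, hg, Φ.map_comp]; infer_instance
      exact IsIso.of_isIso_comp_right (Φ.map g) (Φ.map ((𝓕.induced ι).at a).arrow)
    exact Snapper.notMem_support_cokernel g inferInstance hx
  have h := parEuler_mono k _ _ hpt
  rw [parDeg_eq, parDeg_eq, hb1, hb2, euler_twistSub k I hdim hI hV, euler_twistSub k I hdim hI hV']
  unfold Curv2.deg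
  push_cast
  linarith

end Twist

end Groth.Agent.StabH89
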