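import Groth.Agent.StabH89.TFModif
import Groth.Agent.KZ.OpenExt

/-!
# The numbers `β` of an elementary modification
-/

set_option linter.style.haveILetI false
set_option linter.unusedSectionVars false
set_option backward.isDefEq.respectTransparency false
set_option backward.isDefEq.respectTransparency.types false

universe u

open CategoryTheory CategoryTheory.Limits AlgebraicGeometry TopologicalSpace

noncomputable section

namespace Groth.Agent.StabH89

open Groth.Agent

variable {X : Scheme.{u}}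

section Sets

variable [IsNoetherian X] [AlgebraicGeometry.IsReduced X]

lemma eq_sUnion_of_isUnionComp {T : Set X} (hT : IsClosed T) (h : IsUnionComp T) :
    T = ⋃₀ {C | C ∈ irreducibleComponents (X : Type u) ∧ C ⊆ T} :=
  Set.Subset.antisymm (fun x hx => by
    obtain ⟨η, hη, hηT, hsp⟩ := h x hx
    exact ⟨closure {η}, ⟨hη, closure_minimal (Set.singleton_subset_iff.2 hηT) hT⟩,
      specializes_iff_mem_closure.1 hsp⟩) (Set.sUnion_subset fun _ hC => hC.2)

lemma isUnionComp_union {A B : Set X} (hA : IsUnionComp A) (hB : IsUnionComp B) : IsUnionComp (A ∪ B) := by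
  rintro x (hx | hx)
  · obtain ⟨η, h, hT, hs⟩ := hA x hx
    exact ⟨η, h, Or.inl hT, hs⟩
  · obtain ⟨η, h, hT, hs⟩ := hB x hx
    exact ⟨η, h, Or.inr hT, hs⟩

lemma isUnionComp_meet (S : Set X) :
    IsUnionComp (⋃₀ {C | C ∈ irreducibleComponents (X : Type u) ∧ C ⊆ S}) :=
  isUnionComp_sUnion fun _ h => h.1

lemma isClosed_meet (S : Set X) :
    IsClosed (⋃₀ {C | C ∈ irreducibleComponents (X : Type u) ∧ C ⊆ S}) := by
  rw [Set.sUnion_eq_biUnion]
  exact (NoetherianSpace.finite_irreducibleComponents.subset fun C hC => hC.1).isClosed_biUnion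
    fun C hC => isClosed_of_mem_irreducibleComponents C hC.1

lemma isSubcurve_of_isUnionComp {T : Set X} (hT : IsClosed T) (h : IsUnionComp T) (hne : T.Nonempty) :
    VecSt.IsSubcurve X T := by
  refine ⟨{C | C ∈ irreducibleComponents (X : Type u) ∧ C ⊆ T}, fun C hC => hC.1, ?_, eq_sUnion_of_isUnionComp hT h⟩
  obtain ⟨x, hx⟩ := hne
  rw [eq_sUnion_of_isUnionComp hT h] at hx
  obtain ⟨C, hC, -⟩ := hx
  exact ⟨C, hC⟩

lemma isSubcurve_union {Y Z : Set X} (hY : VecSt.IsSubcurve X Y) (hZ : VecSt.IsSubcurve X Z) :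
    VecSt.IsSubcurve X (Y ∪ Z) := by
  obtain ⟨S, hS, hne, rfl⟩ := hY
  obtain ⟨S', hS', -, rfl⟩ := hZ
  exact ⟨S ∪ S', Set.union_subset hS hS', hne.mono Set.subset_union_left, Set.sUnion_union S S' |>.symm⟩

lemma mem_compl_components_iff {Y : Set X} (hY : IsClosed Y) {y : X} (hy : y ∈ genericPoints X) :
    y ∈ ⋃₀ {C | C ∈ irreducibleComponents (X : Type u) ∧ ¬ C ⊆ Y} ↔ y ∉ Y := by
  refine ⟨fun ⟨C, hC, hyC⟩ hyY => hC.2 ?_, fun h => ⟨closure {y}, ⟨hy, fun hs => h (hs (subset_closure rfl))⟩, subset_closure rfl⟩⟩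
  have hsub : closure ({y} : Set X) ⊆ C :=
    closure_minimal (Set.singleton_subset_iff.2 hyC) (isClosed_of_mem_irreducibleComponents C hC.1)
  exact (hy.2 hC.1.1 hsub).trans (closure_minimal (Set.singleton_subset_iff.2 hyY) hY)

lemma union_compl_eq_univ {Y : Set X} (hY : IsClosed Y) :
    Y ∪ ⋃₀ {C | C ∈ irreducibleComponents (X : Type u) ∧ ¬ C ⊆ Y} = Set.univ := by
  refine Set.eq_univ_of_forall fun x => ?_
  obtain ⟨η, hη, hsp⟩ := MorLib.Birat.exists_generic x
  by_cases h : η ∈ Y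
  · exact Or.inl (hY.stableUnderSpecialization hsp h)
  · refine Or.inr ⟨closure {η}, ⟨hη, fun hs => h (hs (subset_closure rfl))⟩, specializes_iff_mem_closure.1 hsp⟩

lemma mem_inter_components_iff {Y Z : Set X} (hY : IsClosed Y) (hZ : IsClosed Z) {W : Set X}
    (hW : W = ⋃₀ {C | C ∈ irreducibleComponents (X : Type u) ∧ C ⊆ Y ∩ Z}) {y : X} (hy : y ∈ genericPoints X) :
    y ∈ W ↔ y ∈ Y ∧ y ∈ Z := by
  rw [hW, mem_sUnion_components_iff hy (hY.inter hZ)]; rfl

end Sets

variable (k : Type u) [Field k] [X.Over (Spec (CommRingCat.of k))] [IsProper (X ↘ Spec (CommRingCat.of k))]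
  [IsNoetherian X] [AlgebraicGeometry.IsReduced X]

local notation "β" => fun T hT E r G => TFOne.rBeta X k (X ↘ Spec (CommRingCat.of k)) T hT E r G

variable {E : X.Modules} {r : ℕ} (hE : FlatMod.IsFinLocFreeOfRank r E)

lemma euler_isZero {A : X.Modules} (hA : Coh.IsCoh A) (h : IsZero A) : Curv2.euler k X A = 0 := by
  have h1 := euler_kernel k hA hA (𝟙 A)
  have h2 := CurveCohLib.euler_congr (k := k) ((isZero_kernel_of_mono (𝟙 A)).iso h)
  omega

lemma delta_congr {A B : X.Modules} (e : A ≅ B) : delta k E r A = delta k E r B := by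
  unfold delta
  rw [CurveCohLib.euler_congr (k := k) e, CurveCohLib.euler_congr (k := k) ((DCoh.tensorBi.obj E).mapIso e)]

lemma isZero_of_support_empty {G : X.Modules} (h : CohB1.support G = ∅) : IsZero G :=
  KFlatLib.isZero_of_stalk G fun x => isZero_stalk (h ▸ Set.notMem_empty x)

include hE in
lemma degOnT_empty (hT : IsClosed (∅ : Set X)) : degOnT k (∅ : Set X) hT E r = 0 := by
  have hq := isQuotOn_structure hT (S := (∅ : Set (Set X))) (Set.empty_subset _) (by simp)
  rw [← delta_push_structure k hE hT]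
  let A := (Coh.push (VecSt.subschι X (∅ : Set X) hT)).obj (Coh.structureModule (VecSt.subsch X (∅ : Set X) hT))
  have hz : IsZero A := isZero_of_support_empty hq.2.2.2
  have h := delta_add k hE (𝟙 A) (cokernel.π (𝟙 A)) (cokernel.condition _)
    (CurveSlope.shortExact_cokernel_of_mono (𝟙 A)) hq.2.1 hq.2.1 (QCoh.isCoh_cokernel hq.2.1.1 hq.2.1 _)
  rw [delta_congr k ((isZero_cokernel_of_epi (𝟙 A)).iso hz)] at h
  exact by linarith

lemma isQuotOn_id {M : X.Modules} (hM : TFOne.IsTF1 X M) : TFOne.IsQuotOn X M Set.univ M (𝟙 M) :=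
  ⟨inferInstance, hM.1, hM.2.1, support_eq_of_gen hM.1.1 hM.2.1 isClosed_univ isUnionComp_univ
    fun _ hη => iff_of_true (support_of_rkOne hM.2.2 hη) trivial⟩

lemma euler_quot_congr {M G G' : X.Modules} (hM : TFOne.IsRkOne X M) {T : Set X} {π : M ⟶ G}
    (h : TFOne.IsQuotOn X M T G π) {π' : M ⟶ G'} (h' : TFOne.IsQuotOn X M T G' π') :
    Nonempty (G ≅ G') := by
  obtain ⟨g, -, hg⟩ := exists_factor hM h h' fun _ _ h => h
  obtain ⟨g', -, hg'⟩ := exists_factor hM h' h fun _ _ h => h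
  haveI := h.1
  haveI := h'.1
  exact ⟨⟨g', g, by rw [← cancel_epi π, ← Category.assoc, hg', hg, Category.comp_id],
    by rw [← cancel_epi π', ← Category.assoc, hg, hg', Category.comp_id]⟩⟩

include hE in
lemma degOnT_univ : degOnT k (Set.univ : Set X) isClosed_univ E r = Curv2.deg k X E r := by
  rw [← delta_push_structure k hE isClosed_univ]
  have hq := isQuotOn_structure (X := X) isClosed_univ
    (S := {C | C ∈ irreducibleComponents (X : Type u) ∧ C ⊆ Set.univ}) (fun _ h => h.1)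
    (eq_sUnion_of_isUnionComp isClosed_univ isUnionComp_univ)
  obtain ⟨e⟩ := euler_quot_congr (isTF1_structure (X := X)).2.2 (isQuotOn_id isTF1_structure) hq
  rw [← delta_congr k e]
  unfold delta Curv2.deg
  rw [CurveCohLib.euler_congr (k := k) (CurveTensor.commIso _ _ ≪≫ CurveTensor.structureTensorIso E)]

include hE in
lemma rBeta_empty (hT : IsClosed (∅ : Set X)) {M G : X.Modules} {π : M ⟶ G}
    (h : TFOne.IsQuotOn X M ∅ G π) : TFOne.rBeta X k (X ↘ Spec (CommRingCat.of k)) ∅ hT E r G = 0 := by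
  rw [rBeta_eq, degOnT_empty k hE hT, euler_isZero k h.2.1 (isZero_of_support_empty h.2.2.2)]
  simp

include hE in
lemma rBeta_univ {M G : X.Modules} (hM : TFOne.IsTF1 X M) {π : M ⟶ G}
    (h : TFOne.IsQuotOn X M Set.univ G π) {d : ℤ} (hχ : Curv2.euler k X M = d)
    (hd : Curv2.deg k X E r = -(r : ℤ) * d) (hT : IsClosed (Set.univ : Set X)) :
    TFOne.rBeta X k (X ↘ Spec (CommRingCat.of k)) Set.univ hT E r G = 0 := by
  obtain ⟨e⟩ := euler_quot_congr hM.2.2 (isQuotOn_id hM) h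
  rw [rBeta_eq, degOnT_univ k hE, hd, ← CurveCohLib.euler_congr (k := k) e, hχ]
  ring

include hE in
/-- Semistability gives `0 ≤ β` on every union of components. -/
lemma rBeta_nonneg {M : X.Modules} {d : ℤ} (hχ : Curv2.euler k X M = d)
    (hd : Curv2.deg k X E r = -(r : ℤ) * d)
    (hss : TFOne.IsSemistable X k (X ↘ Spec (CommRingCat.of k)) M E r) {T : Set X} (hT : IsClosed T)
    (hTu : IsUnionComp T) {G : X.Modules} {π : M ⟶ G} (h : TFOne.IsQuotOn X M T G π) :
    0 ≤ TFOne.rBeta X k (X ↘ Spec (CommRingCat.of k)) T hT E r G := by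
  by_cases hne : T.Nonempty
  · by_cases hu : T = Set.univ
    · subst hu
      exact (rBeta_univ k hE hss.1 h hχ hd hT).ge
    · exact hss.2 T hT (isSubcurve_of_isUnionComp hT hTu hne) hu G π h
  · obtain rfl := Set.not_nonempty_iff_eq_empty.1 hne
    exact (rBeta_empty k hE hT h).ge

variable (hpure : ∀ C ∈ irreducibleComponents (X : Type u), topologicalKrullDim C = 1)
  {M GY N : X.Modules} (hM : TFOne.IsTF1 X M) {Y : Set X} (hY : IsClosed Y) (hYu : IsUnionComp Y)
  {πY : M ⟶ GY} (hGY : TFOne.IsQuotOn X M Y GY πY) {a : GY ⟶ N} {b : N ⟶ kernel πY} {w : a ≫ b = 0}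
  (hS : (ShortComplex.mk a b w).ShortExact) (hN : Coh.IsCoh N)

include hE hpure hM hY hYu hGY hS hN in
/-- `β(W) + β(Y ∪ Z) ≤ β¹(Z) + β(Y)`. -/
theorem rBeta_modif {Z W : Set X} (hZ : IsClosed Z) (hZu : IsUnionComp Z) (hW : IsClosed W) (hWu : IsUnionComp W)
    (hWg : ∀ y ∈ genericPoints X, (y ∈ W ↔ y ∈ Y ∧ y ∈ Z))
    {GZ1 GW GU : X.Modules} {πZ1 : N ⟶ GZ1} {πW : M ⟶ GW} {πU : M ⟶ GU}
    (hGZ1 : TFOne.IsQuotOn X N Z GZ1 πZ1) (hGW : TFOne.IsQuotOn X M W GW πW)
    (hGU : TFOne.IsQuotOn X M (Y ∪ Z) GU πU) :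
    TFOne.rBeta X k (X ↘ Spec (CommRingCat.of k)) W hW E r GW +
        TFOne.rBeta X k (X ↘ Spec (CommRingCat.of k)) (Y ∪ Z) (hY.union hZ) E r GU ≤
      TFOne.rBeta X k (X ↘ Spec (CommRingCat.of k)) Z hZ E r GZ1 +
        TFOne.rBeta X k (X ↘ Spec (CommRingCat.of k)) Y hY E r GY := by
  have hd := degOnT_union_add k hE hpure hY hZ hW (fun _ h => h.1) (fun _ h => h.1) (fun _ h => h.1)
    (eq_sUnion_of_isUnionComp hY hYu) (eq_sUnion_of_isUnionComp hZ hZu) (eq_sUnion_of_isUnionComp hW hWu) hWg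
  have hle := mul_le_mul_of_nonneg_left (euler_modif hM hGY hS hN k hpure hWg hGZ1 hGW hGU).1 (Int.natCast_nonneg r)
  simp only [rBeta_eq, mul_add] at hle ⊢
  linarith

include hE hpure hM hY hYu hGY hS hN in
/-- The inequality is an equality exactly when it is one of Euler characteristics. -/
theorem rBeta_modif_eq_iff (hr : 0 < r) {Z W : Set X} (hZ : IsClosed Z) (hZu : IsUnionComp Z) (hW : IsClosed W)
    (hWu : IsUnionComp W) (hWg : ∀ y ∈ genericPoints X, (y ∈ W ↔ y ∈ Y ∧ y ∈ Z))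
    (GW GU GZ1 : X.Modules) :
    TFOne.rBeta X k (X ↘ Spec (CommRingCat.of k)) W hW E r GW +
        TFOne.rBeta X k (X ↘ Spec (CommRingCat.of k)) (Y ∪ Z) (hY.union hZ) E r GU =
      TFOne.rBeta X k (X ↘ Spec (CommRingCat.of k)) Z hZ E r GZ1 +
        TFOne.rBeta X k (X ↘ Spec (CommRingCat.of k)) Y hY E r GY ↔
    Curv2.euler k X GW + Curv2.euler k X GU = Curv2.euler k X GZ1 + Curv2.euler k X GY := by
  have hd := degOnT_union_add k hE hpure hY hZ hW (fun _ h => h.1) (fun _ h => h.1) (fun _ h => h.1)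
    (eq_sUnion_of_isUnionComp hY hYu) (eq_sUnion_of_isUnionComp hZ hZu) (eq_sUnion_of_isUnionComp hW hWu) hWg
  simp only [rBeta_eq]
  constructor
  · intro h
    refine mul_left_cancel₀ (Int.natCast_ne_zero.2 hr.ne') ?_
    rw [mul_add, mul_add]
    linarith
  · intro h
    have h' := congrArg ((r : ℤ) * ·) h
    simp only [mul_add] at h'
    linarith

include hS hN hM hGY in
lemma euler_modif_total : Curv2.euler k X N = Curv2.euler k X M := by
  haveI := hGY.1
  rw [CurveCohLib.euler_additive (k := k) hS hGY.2.1 hN (QCoh.isCoh_kernel hM.1 hGY.2.1 πY),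
    euler_kernel k hM.1 hGY.2.1 πY]
  ring

include hM hY hGY hS hN in
/-- `χ(N_{Y'}) = χ(M) - χ(M_Y)` for the complementary subcurve. -/
lemma euler_compl {Y' : Set X} (hY' : Y' = ⋃₀ {C | C ∈ irreducibleComponents (X : Type u) ∧ ¬ C ⊆ Y})
    (hY'c : IsClosed Y') {G2 : X.Modules} {π2 : N ⟶ G2} (h2 : TFOne.IsQuotOn X N Y' G2 π2) :
    Curv2.euler k X G2 + Curv2.euler k X GY = Curv2.euler k X M := by
  have hu : Y ∪ Y' = Set.univ := hY' ▸ union_compl_eq_univ hY
  refine euler_outside (Z := Y') hM hGY hS hN k hY'c (hY' ▸ isUnionComp_sUnion fun _ h => h.1)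
    (fun y hy => ?_) h2 (hu ▸ isQuotOn_id hM)
  rw [hY', mem_compl_components_iff hY hy]
  exact ⟨fun h => ⟨h, h⟩, fun h => h.2⟩

lemma shortExact_biprod (A B : X.Modules) :
    (ShortComplex.mk (biprod.inl : A ⟶ A ⊞ B) biprod.snd biprod.inl_snd).ShortExact :=
  (ShortComplex.Splitting.ofHasBinaryBiproduct A B).shortExact

include hpure hM hY hGY hS hN in
/-- The modification splits along `Y` exactly when `χ(N_Y) = χ(M_Y)`. -/
theorem isIso_lift_iff {Y' : Set X} (hY' : Y' = ⋃₀ {C | C ∈ irreducibleComponents (X : Type u) ∧ ¬ C ⊆ Y})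
    (hY'c : IsClosed Y') {G1 G2 : X.Modules} {π1 : N ⟶ G1} {π2 : N ⟶ G2} (h1 : TFOne.IsQuotOn X N Y G1 π1)
    (h2 : TFOne.IsQuotOn X N Y' G2 π2) :
    IsIso (biprod.lift π1 π2) ↔ Curv2.euler k X G1 = Curv2.euler k X GY := by
  have hN1 := isTF1_modif hM hGY hS hN
  have hB : Coh.IsCoh (G1 ⊞ G2) := KZ.isCoh_biprod h1.2.1 h2.2.1
  have hχB := CurveCohLib.euler_additive (k := k) (shortExact_biprod G1 G2) h1.2.1 hB h2.2.1
  have hχN := euler_modif_total k hM hGY hS hN
  have hχ2 := euler_compl k hM hY hGY hS hN hY' hY'c h2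
  have hcase : ∀ y ∈ genericPoints X, IsIso ((DerSch.stalkFunctor X y).map (biprod.lift π1 π2)) := by
    intro y hy
    by_cases hyY : y ∈ Y
    · haveI := isIso_stalk_quot hN1.2.2 h1 hy hyY
      have hz : IsZero ((DerSch.stalkFunctor X y).obj G2) :=
        isZero_stalk (by rw [h2.2.2.2, hY', mem_compl_components_iff hY hy]; exact not_not.2 hyY)
      haveI : IsIso ((DerSch.stalkFunctor X y).map (biprod.fst : G1 ⊞ G2 ⟶ G1)) := by
        refine ⟨(DerSch.stalkFunctor X y).map biprod.inl, ?_, by rw [← Functor.map_comp, biprod.inl_fst, (DerSch.stalkFunctor X y).map_id]⟩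
        have ht : (DerSch.stalkFunctor X y).map (biprod.snd : G1 ⊞ G2 ⟶ G2) = 0 := hz.eq_of_tgt _ _
        rw [← Functor.map_comp, ← (DerSch.stalkFunctor X y).map_id, ← biprod.total, Functor.map_add, Functor.map_comp,
          Functor.map_comp, ht, zero_comp, add_zero]
      haveI : IsIso ((DerSch.stalkFunctor X y).map (biprod.lift π1 π2) ≫ (DerSch.stalkFunctor X y).map biprod.fst) := by
        rw [← Functor.map_comp, biprod.lift_fst]; infer_instance
      exact IsIso.of_isIso_comp_right _ ((DerSch.stalkFunctor X y).map (biprod.fst : G1 ⊞ G2 ⟶ G1))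
    · haveI := isIso_stalk_quot hN1.2.2 h2 hy (by rw [hY', mem_compl_components_iff hY hy]; exact hyY)
      have hz : IsZero ((DerSch.stalkFunctor X y).obj G1) := isZero_stalk (by rw [h1.2.2.2]; exact hyY)
      haveI : IsIso ((DerSch.stalkFunctor X y).map (biprod.snd : G1 ⊞ G2 ⟶ G2)) := by
        refine ⟨(DerSch.stalkFunctor X y).map biprod.inr, ?_, by rw [← Functor.map_comp, biprod.inr_snd, (DerSch.stalkFunctor X y).map_id]⟩
        have ht : (DerSch.stalkFunctor X y).map (biprod.fst : G1 ⊞ G2 ⟶ G1) = 0 := hz.eq_of_tgt _ _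
        rw [← Functor.map_comp, ← (DerSch.stalkFunctor X y).map_id, ← biprod.total, Functor.map_add, Functor.map_comp,
          Functor.map_comp, ht, zero_comp, zero_add]
      haveI : IsIso ((DerSch.stalkFunctor X y).map (biprod.lift π1 π2) ≫ (DerSch.stalkFunctor X y).map biprod.snd) := by
        rw [← Functor.map_comp, biprod.lift_snd]; infer_instance
      exact IsIso.of_isIso_comp_right _ ((DerSch.stalkFunctor X y).map (biprod.snd : G1 ⊞ G2 ⟶ G2))
  haveI : Mono (biprod.lift π1 π2) := by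
    refine Preadditive.mono_of_cancel_zero _ fun {A} g hg => ?_
    refine hom_eq_zero_of_gen hN.1 hN1.2.1 _ fun y hy => ?_
    haveI := hcase y hy
    rw [← cancel_mono ((DerSch.stalkFunctor X y).map (biprod.lift π1 π2)), ← Functor.map_comp, hg,
      Functor.map_zero, zero_comp]
  have h := euler_le_of_gen k hpure hN hB (biprod.lift π1 π2) fun y hy => by haveI := hcase y hy; infer_instance
  dsimp only at hχB
  rw [← h.2]
  omega

end Groth.Agent.StabH89
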