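import Groth.Agent.StabH89.TFQuot
import Groth.Agent.StabH89.TFSimple
import Groth.Agent.CurveCohLib.Nonspecial
import Groth.Agent.ZClosLib.CohDescent
import Groth.Agent.QCoh.Stalk
import Groth.Agent.AssLib.Apply
import Groth.Agent.Lib.CurveTensor
import Groth.Agent.SurfInt.Push
import Groth.Agent.KFlatLib.Scheme.ProjClosed

/-!
# Degrees on subcurves
-/

set_option linter.style.haveILetI false
set_option linter.unusedSectionVars false
set_option backward.isDefEq.respectTransparency false
set_option backward.isDefEq.respectTransparency.types false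

universe u

open CategoryTheory CategoryTheory.Limits AlgebraicGeometry TopologicalSpace

noncomputable section

namespace Groth.Agent.StabH89

open Groth.Agent

variable {X : Scheme.{u}}

lemma epi_toSubscheme' (Z : X.IdealSheafData) : Epi (ClSub.toSubscheme Z) := by
  refine Preadditive.epi_of_isZero_cokernel _ (CurveCohLib.isZero_of_subsingleton_stalks fun x => ?_)
  haveI : Epi ((DerSch.stalkFunctor X x).map (ClSub.toSubscheme Z)) := by
    refine (ModuleCat.epi_iff_surjective _).2 fun q => ?_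
    obtain ⟨V, hxV, s, rfl⟩ := (ClSub.quotMod Z).presheaf.germ_exist q
    obtain ⟨_, ⟨W, hW, rfl⟩, hxW, hWV⟩ :=
      X.isBasis_affineOpens.exists_subset_of_mem_open (show x ∈ V from hxV) V.2
    have hle : W ≤ V := hWV
    obtain ⟨r, hr⟩ := Z.subschemeι_app_surjective ⟨W, hW⟩
      (show Γ(Z.subscheme, Z.subschemeι ⁻¹ᵁ W) from (ClSub.quotMod Z).presheaf.map (homOfLE hle).op s)
    refine ⟨(Coh.structureModule X).presheaf.germ W x hxW r, ?_⟩
    rw [← (ClSub.quotMod Z).presheaf.germ_res_apply (homOfLE hle) x hxW s]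
    refine Eq.trans ?_ (congrArg ((ClSub.quotMod Z).presheaf.germ W x hxW) hr)
    exact TopCat.Presheaf.stalkFunctor_map_germ_apply W x hxW ((Scheme.Modules.toPresheaf X).map (ClSub.toSubscheme Z)) r
  exact ModuleCat.subsingleton_of_isZero ((isZero_cokernel_of_epi
    ((DerSch.stalkFunctor X x).map (ClSub.toSubscheme Z))).of_iso
      (PreservesCokernel.iso (DerSch.stalkFunctor X x) (ClSub.toSubscheme Z)))

/-! ### Regular elements at the generic points -/

lemma stalkSpecializes_smul (L : X.Modules) {x ξ : X} (h : ξ ⤳ x) (a : X.presheaf.stalk x)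
    (m : L.presheaf.stalk x) :
    L.presheaf.stalkSpecializes h (a • m) = X.presheaf.stalkSpecializes h a • L.presheaf.stalkSpecializes h m := by
  obtain ⟨U, hU, b, rfl⟩ := X.presheaf.exists_germ_eq (x := x) a
  obtain ⟨V, hV, v, rfl⟩ := L.presheaf.germ_exist m
  have hW : x ∈ U ⊓ V := ⟨hU, hV⟩
  rw [← X.presheaf.germ_res_apply (homOfLE inf_le_left : U ⊓ V ⟶ U) x hW b,
    ← L.presheaf.germ_res_apply (homOfLE inf_le_right : U ⊓ V ⟶ V) x hW v, ← QCoh.germ_smul',
    TopCat.Presheaf.germ_stalkSpecializes_apply]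
  refine (QCoh.germ_smul' L (h.mem_open (U ⊓ V).isOpen hW) _ _).trans ?_
  exact congrArg₂ (fun p q => p • q) (TopCat.Presheaf.germ_stalkSpecializes_apply X.presheaf hW h _).symm
    (TopCat.Presheaf.germ_stalkSpecializes_apply L.presheaf hW h _).symm

lemma stalkSpecializes_ne_zero {x η : X} (h : η ⤳ x) (hη : η ∈ genericPoints X) [AlgebraicGeometry.IsReduced X]
    {r : X.presheaf.stalk x} (hr : IsRegular r) : X.presheaf.stalkSpecializes h r ≠ 0 := by
  intro h0
  letI := (isField_of_mem_genericPoints hη).toField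
  let φ := X.presheaf.stalkSpecializes h
  let p : PrimeSpectrum (X.presheaf.stalk x) :=
    Spec.map φ (IsLocalRing.closedPoint (X.presheaf.stalk η))
  have hpη : X.fromSpecStalk x p = η := by
    show (Spec.map φ ≫ X.fromSpecStalk x) (IsLocalRing.closedPoint (X.presheaf.stalk η)) = η
    rw [Scheme.SpecMap_stalkSpecializes_fromSpecStalk h]
    exact Scheme.fromSpecStalk_closedPoint
  obtain ⟨q, hq, hqp⟩ := Ideal.exists_minimalPrimes_le (J := p.asIdeal) (bot_le : (⊥ : Ideal (X.presheaf.stalk x)) ≤ _)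
  have hle : (⟨q, hq.1.1⟩ : PrimeSpectrum (X.presheaf.stalk x)) ≤ p := hqp
  have hsp := ((PrimeSpectrum.le_iff_specializes _ _).1 hle).map (X.fromSpecStalk x).continuous
  rw [hpη] at hsp
  have he := MorLib.Birat.eq_of_specializes_generic hη hsp
  have heq : (⟨q, hq.1.1⟩ : PrimeSpectrum (X.presheaf.stalk x)) = p :=
    (X.fromSpecStalk x).isEmbedding.injective (he.trans hpη.symm)
  have hrp : r ∈ p.asIdeal := by
    show φ r ∈ IsLocalRing.maximalIdeal (X.presheaf.stalk η)
    rw [show φ r = 0 from h0]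
    exact Submodule.zero_mem _
  have hqp' := congrArg PrimeSpectrum.asIdeal heq
  change q = p.asIdeal at hqp'
  exact Set.disjoint_left.1 (Ideal.disjoint_nonZeroDivisors_of_mem_minimalPrimes hq)
    (hqp'.symm ▸ hrp : r ∈ q) (mem_nonZeroDivisors_iff_right.2 fun z hz => hr.right (by simpa using hz))

/-- A module whose sections are detected at the generic points is torsion free. -/
theorem isTorsionFree_of_detect [IsNoetherian X] [AlgebraicGeometry.IsReduced X] {G : X.Modules}
    (h : ∀ (U : X.Opens) (s : Γ(G, U)), (∀ y ∈ genericPoints X, ∀ hy : y ∈ U, G.presheaf.germ U y hy s = 0) → s = 0) :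
    TorSh.IsTorsionFree G := fun x => by
  refine ⟨fun r hr => ?_⟩
  intro a b hab
  obtain ⟨U₀, hxU, t, ht⟩ := TopCat.Presheaf.exists_germ_eq G.presheaf (a - b)
  have hrab : r • G.presheaf.germ U₀ x hxU t = 0 := by
    rw [ht, smul_sub, sub_eq_zero]; exact hab
  have hfin : {η ∈ genericPoints X | ¬ η ⤳ x}.Finite :=
    (genericPoints.finite NoetherianSpace.finite_irreducibleComponents).subset fun _ h => h.1
  let U : X.Opens := U₀ ⊓ ⟨(⋃ η ∈ {η ∈ genericPoints X | ¬ η ⤳ x}, closure {η})ᶜ,
    (hfin.isClosed_biUnion fun _ _ => isClosed_closure).isOpen_compl⟩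
  have hxU' : x ∈ U := ⟨hxU, fun hm => by
    obtain ⟨η, hη, hm⟩ := Set.mem_iUnion₂.1 hm
    exact hη.2 (specializes_iff_mem_closure.2 hm)⟩
  have hs : G.presheaf.map (homOfLE (inf_le_left : U ≤ U₀)).op t = 0 := by
    refine h U _ fun y hy hyU => ?_
    rw [G.presheaf.germ_res_apply]
    have hyx : y ⤳ x := by
      by_contra hne
      exact hyU.2 (Set.mem_iUnion₂.2 ⟨y, ⟨hy, hne⟩, subset_closure rfl⟩)
    have h0 := congrArg (G.presheaf.stalkSpecializes hyx) hrab
    rw [stalkSpecializes_smul, TopCat.Presheaf.germ_stalkSpecializes_apply, map_zero] at h0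
    letI := (isField_of_mem_genericPoints hy).toField
    exact (smul_eq_zero.1 h0).resolve_left (stalkSpecializes_ne_zero hyx hy hr)
  rw [← sub_eq_zero, ← ht]
  exact AssLib.germ_eq_zero_of_res_eq_zero (M := G) (inf_le_left : U ≤ U₀) hxU' t hs

lemma isTF1_structure [IsLocallyNoetherian X] [AlgebraicGeometry.IsReduced X] :
    TFOne.IsTF1 X (Coh.structureModule X) :=
  ⟨CurveDeg.isCoh_of_isFinLocFree (CurveStable.isFinLocFree_of_rank
      (InvEnd.isFinLocFreeOfRank_one CurveDeg.isInvertible_structureModule)),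
    fun x => Function.Injective.moduleIsTorsionFree (KFlatLib.stalkUnitEquiv x).symm
      (KFlatLib.stalkUnitEquiv x).symm.injective (map_smul _),
    fun x _ => ⟨(KFlatLib.stalkUnitEquiv x).symm⟩⟩

lemma sUnion_mem_iff {S : Set (Set X)} {y : X} : y ∈ ⋃₀ S ↔ ∃ C ∈ S, y ∈ C := Iff.rfl

lemma sUnion_generic {S : Set (Set X)} (hS : S ⊆ irreducibleComponents (X : Type u)) {y : X} (hy : y ∈ ⋃₀ S) :
    ∃ η ∈ genericPoints X, η ∈ ⋃₀ S ∧ η ⤳ y := by
  obtain ⟨C, hC, hyC⟩ := hy
  obtain ⟨η, hη⟩ := QuasiSober.sober (hS hC).1 (isClosed_of_mem_irreducibleComponents C (hS hC))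
  refine ⟨η, ?_, ⟨C, hC, hη.mem⟩, hη.specializes hyC⟩
  show closure {η} ∈ irreducibleComponents (X : Type u)
  rw [hη.def]
  exact hS hC

/-- The structure sheaf of a union of components is the torsion-free quotient of `O`. -/
theorem isQuotOn_structure [IsNoetherian X] [AlgebraicGeometry.IsReduced X] {T : Set X} (hT : IsClosed T)
    {S : Set (Set X)} (hS : S ⊆ irreducibleComponents (X : Type u)) (hTS : T = ⋃₀ S) :
    TFOne.IsQuotOn X (Coh.structureModule X) T
      ((Coh.push (VecSt.subschι X T hT)).obj (Coh.structureModule (VecSt.subsch X T hT)))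
      (ClSub.toSubscheme (Scheme.IdealSheafData.vanishingIdeal ⟨T, hT⟩)) := by
  haveI : AlgebraicGeometry.IsReduced (VecSt.subsch X T hT) := H23.RedSub.isReduced_vanishingIdeal _
  haveI : IsLocallyNoetherian (VecSt.subsch X T hT) := LocallyOfFiniteType.isLocallyNoetherian (VecSt.subschι X T hT)
  have hg : ∀ z ∈ genericPoints (VecSt.subsch X T hT), VecSt.subschι X T hT z ∈ genericPoints X := by
    intro z hz
    obtain ⟨η, hη, hηT, hsp⟩ := sUnion_generic hS (hTS.le ((range_subschι hT).le ⟨z, rfl⟩))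
    obtain ⟨w, rfl⟩ := (range_subschι hT).ge (hTS.ge hηT : η ∈ T)
    rw [← MorLib.Birat.eq_of_specializes_generic hz
      ((VecSt.subschι X T hT).isClosedEmbedding.isInducing.specializes_iff.1 hsp)]
    exact hη
  have hO := isTF1_structure (X := VecSt.subsch X T hT)
  refine ⟨epi_toSubscheme' _, QCoh.isCoh_push_structure _, isTorsionFree_of_detect fun U s h => ?_, ?_⟩
  · refine TFCurvLib.eq_zero_of_germ_isField hO.1.1 hO.2.1 (U := VecSt.subschι X T hT ⁻¹ᵁ U) s fun z hz hzf => ?_
    obtain ⟨V, hV, i₁, i₂, he⟩ := ((Coh.push (VecSt.subschι X T hT)).obj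
      (Coh.structureModule (VecSt.subsch X T hT))).presheaf.germ_eq (VecSt.subschι X T hT z) hz hz s 0
      ((h _ (hg z (mem_genericPoints_of_isField hzf)) hz).trans (map_zero _).symm)
    rw [map_zero] at he
    exact AssLib.germ_eq_zero_of_res_eq_zero (M := Coh.structureModule (VecSt.subsch X T hT))
      (show VecSt.subschι X T hT ⁻¹ᵁ V ≤ VecSt.subschι X T hT ⁻¹ᵁ U from fun w hw => i₁.le hw) hV _ he
  · refine Set.Subset.antisymm (fun y hy => support_push_subsch hT hO.1.1 hy) fun y hy => ?_
    obtain ⟨z, rfl⟩ := (range_subschι hT).ge hy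
    refine support_push_of_mem _ fun hz => ?_
    haveI : Subsingleton ((Coh.structureModule (VecSt.subsch X T hT)).presheaf.stalk z) := hz
    obtain ⟨e⟩ := AssLib.nonempty_stalkUnitEquiv (X := VecSt.subsch X T hT) z
    exact not_subsingleton ((VecSt.subsch X T hT).presheaf.stalk z) e.toEquiv.subsingleton

/-! ### The defect `χ(E ⊗ F) - r χ(F)` -/

section Delta

variable (k : Type u) [Field k] [X.Over (Spec (CommRingCat.of k))] [IsProper (X ↘ Spec (CommRingCat.of k))]
  (E : X.Modules) (r : ℕ)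

/-- `χ(E ⊗ F) - r χ(F)`. -/
def delta (F : X.Modules) : ℤ :=
  Curv2.euler k X ((DCoh.tensorBi.obj E).obj F) - r * Curv2.euler k X F

variable {E r} (hE : FlatMod.IsFinLocFreeOfRank r E)

include hE in
lemma delta_add {A B C : X.Modules} (f : A ⟶ B) (g : B ⟶ C) (w : f ≫ g = 0)
    (hS : (ShortComplex.mk f g w).ShortExact) (hA : Coh.IsCoh A) (hB : Coh.IsCoh B) (hC : Coh.IsCoh C) :
    delta k E r B = delta k E r A + delta k E r C := by
  haveI : IsNoetherian X := CurveCohLib.isNoetherian_of_proper (k := k)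
  have hEf := CurveStable.isFinLocFree_of_rank hE
  have h1 := CurveBundle.euler_add' k _ _ _ (CurveTensor.shortExact_tensor hEf f g w hS)
    (CurveTensor.isCoh_tensor hEf hA) (CurveTensor.isCoh_tensor hEf hB) (CurveTensor.isCoh_tensor hEf hC)
  have h2 := CurveCohLib.euler_additive (k := k) hS hA hB hC
  dsimp only at h2
  unfold delta
  rw [h1, h2]
  ring

include hE in
lemma delta_eq_of_gen (hpure : ∀ C ∈ irreducibleComponents (X : Type u), topologicalKrullDim C = 1)
    {A B : X.Modules} (hA : Coh.IsCoh A) (hB : Coh.IsCoh B) (f : A ⟶ B) [Mono f]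
    (h : ∀ y ∈ genericPoints X, Epi ((DerSch.stalkFunctor X y).map f)) : delta k E r A = delta k E r B := by
  haveI : IsNoetherian X := CurveCohLib.isNoetherian_of_proper (k := k)
  have hQ := QCoh.isCoh_cokernel hA.1 hB f
  have h0 : ∀ x ∈ CohB1.support (cokernel f), IsClosed ({x} : Set X) := fun x hx => by
    by_contra hc
    haveI := h x (mem_genericPoints_of_not_isClosed hpure hc)
    haveI := isIso_of_mono_of_epi ((DerSch.stalkFunctor X x).map f)
    exact Snapper.notMem_support_cokernel f inferInstance hx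
  have hz : delta k E r (cokernel f) = 0 := by
    unfold delta
    rw [CurveTensor.euler_tensor_torsion k hE hQ h0]
    ring
  rw [delta_add k hE f (cokernel.π f) (cokernel.condition f)
    (CurveSlope.shortExact_cokernel_of_mono f) hA hB hQ, hz, add_zero]

/-- The degree on a subcurve. -/
def degOnT (T : Set X) (hT : IsClosed T) (E : X.Modules) (r : ℕ) : ℤ :=
  letI : (VecSt.subsch X T hT).Over (Spec (CommRingCat.of k)) :=
    ⟨VecSt.subschι X T hT ≫ (X ↘ Spec (CommRingCat.of k))⟩
  Curv2.deg k (VecSt.subsch X T hT) ((Scheme.Modules.pullback (VecSt.subschι X T hT)).obj E) r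

lemma rBeta_eq (T : Set X) (hT : IsClosed T) (E : X.Modules) (r : ℕ) (G : X.Modules) :
    TFOne.rBeta X k (X ↘ Spec (CommRingCat.of k)) T hT E r G = r * Curv2.euler k X G + degOnT k T hT E r := rfl

include hE in
lemma delta_push_structure {T : Set X} (hT : IsClosed T) :
    delta k E r ((Coh.push (VecSt.subschι X T hT)).obj (Coh.structureModule (VecSt.subsch X T hT))) =
      degOnT k T hT E r := by
  letI : (VecSt.subsch X T hT).Over (Spec (CommRingCat.of k)) :=
    ⟨VecSt.subschι X T hT ≫ (X ↘ Spec (CommRingCat.of k))⟩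
  haveI : IsNoetherian X := CurveCohLib.isNoetherian_of_proper (k := k)
  let i := VecSt.subschι X T hT
  haveI : IsLocallyNoetherian (VecSt.subsch X T hT) := LocallyOfFiniteType.isLocallyNoetherian i
  haveI := KFlatLib.isIso_projMod_of_isClosedImmersion i (Coh.structureModule (VecSt.subsch X T hT)) E
  have hEf := CurveStable.isFinLocFree_of_rank hE
  have hq : Coh.IsQCoh ((Scheme.Modules.pullback i).obj E) :=
    (ZClosLib.isCoh_pullback i (CurveDeg.isCoh_of_isFinLocFree hEf)).1
  have h1 : Curv2.euler k X ((DCoh.tensorBi.obj E).obj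
      ((Coh.push i).obj (Coh.structureModule (VecSt.subsch X T hT)))) =
      Curv2.euler k (VecSt.subsch X T hT) ((Scheme.Modules.pullback i).obj E) := by
    rw [← SurfInt.euler_push k i rfl hq]
    exact CurveCohLib.euler_congr (k := k) (CurveTensor.commIso _ _ ≪≫
      asIso (KFlatLib.projMod i (Coh.structureModule (VecSt.subsch X T hT)) E) ≪≫
      (Scheme.Modules.pushforward i).mapIso (CurveTensor.structureTensorIso _))
  unfold delta degOnT Curv2.deg
  rw [h1, SurfInt.euler_push k i rfl QCoh.isQCoh_structureModule]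

include hE in
/-- Degrees on subcurves are additive. -/
theorem degOnT_union_add [AlgebraicGeometry.IsReduced X]
    (hpure : ∀ C ∈ irreducibleComponents (X : Type u), topologicalKrullDim C = 1)
    {Y Z W : Set X} (hY : IsClosed Y) (hZ : IsClosed Z) (hW : IsClosed W)
    {SY SZ SW : Set (Set X)} (hSY : SY ⊆ irreducibleComponents (X : Type u))
    (hSZ : SZ ⊆ irreducibleComponents (X : Type u)) (hSW : SW ⊆ irreducibleComponents (X : Type u))
    (eY : Y = ⋃₀ SY) (eZ : Z = ⋃₀ SZ) (eW : W = ⋃₀ SW)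
    (hWg : ∀ y ∈ genericPoints X, (y ∈ W ↔ y ∈ Y ∧ y ∈ Z)) :
    degOnT k (Y ∪ Z) (hY.union hZ) E r + degOnT k W hW E r = degOnT k Y hY E r + degOnT k Z hZ E r := by
  haveI : IsNoetherian X := CurveCohLib.isNoetherian_of_proper (k := k)
  have qY := isQuotOn_structure hY hSY eY
  have qZ := isQuotOn_structure hZ hSZ eZ
  have qW := isQuotOn_structure hW hSW eW
  have qU := isQuotOn_structure (hY.union hZ) (Set.union_subset hSY hSZ)
    (by rw [eY, eZ, Set.sUnion_union])
  obtain ⟨p, hpe, s, hse, φ, hmono, hepi⟩ :=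
    exists_kernel_map k (isTF1_structure (X := X)).2.2 hWg qY qZ qU qW
  haveI := hmono
  have h := delta_eq_of_gen k hE hpure (QCoh.isCoh_kernel qU.2.1 qY.2.1 p) (QCoh.isCoh_kernel qZ.2.1 qW.2.1 s) φ hepi
  have h1 := delta_add k hE (kernel.ι p) p (kernel.condition p) (CurveSlope.shortExact_kernel_of_epi p)
    (QCoh.isCoh_kernel qU.2.1 qY.2.1 p) qU.2.1 qY.2.1
  have h2 := delta_add k hE (kernel.ι s) s (kernel.condition s) (CurveSlope.shortExact_kernel_of_epi s)
    (QCoh.isCoh_kernel qZ.2.1 qW.2.1 s) qZ.2.1 qW.2.1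
  rw [← delta_push_structure k hE (hY.union hZ), ← delta_push_structure k hE hW, ← delta_push_structure k hE hY,
    ← delta_push_structure k hE hZ, h1, h2, h]
  ring

end Delta

end Groth.Agent.StabH89
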