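import Groth.Agent.StabH89.TFDeg
import Groth.Agent.PureLib.Supported

/-!
# Existence of torsion-free quotients on subcurves
-/

set_option linter.style.haveILetI false
set_option linter.unusedSectionVars false
set_option backward.isDefEq.respectTransparency false
set_option backward.isDefEq.respectTransparency.types false

universe u

open CategoryTheory CategoryTheory.Limits AlgebraicGeometry TopologicalSpace

noncomputable section

namespace Groth.Agent.StabH89

open Groth.Agent

variable {X : Scheme.{u}} [IsNoetherian X] [AlgebraicGeometry.IsReduced X]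

local notation "st" => DerSch.stalkFunctor X

/-- A closed set which is a union of irreducible components. -/
def IsUnionComp (T : Set X) : Prop :=
  ∀ x ∈ T, ∃ η ∈ genericPoints X, η ∈ T ∧ η ⤳ x

lemma isUnionComp_sUnion {S : Set (Set X)} (hS : S ⊆ irreducibleComponents (X : Type u)) : IsUnionComp (⋃₀ S) :=
  fun _ hx => sUnion_generic hS hx

lemma isUnionComp_of_isSubcurve {T : Set X} (h : VecSt.IsSubcurve X T) : IsUnionComp T :=
  fun _ hx => exists_generic_of_subcurve h hx

lemma isUnionComp_univ : IsUnionComp (Set.univ : Set X) := fun x _ => by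
  obtain ⟨η, hη, h⟩ := MorLib.Birat.exists_generic x
  exact ⟨η, hη, trivial, h⟩

/-- The open set avoiding the components not through `x`. -/
lemma exists_open_gen (x : X) :
    ∃ U : X.Opens, x ∈ U ∧ ∀ y ∈ genericPoints X, y ∈ U → y ⤳ x := by
  have hfin : {η ∈ genericPoints X | ¬ η ⤳ x}.Finite :=
    (genericPoints.finite NoetherianSpace.finite_irreducibleComponents).subset fun _ h => h.1
  refine ⟨⟨(⋃ η ∈ {η ∈ genericPoints X | ¬ η ⤳ x}, closure {η})ᶜ,
    (hfin.isClosed_biUnion fun _ _ => isClosed_closure).isOpen_compl⟩, fun hm => ?_, fun y hy hyU => ?_⟩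
  · obtain ⟨η, hη, hm⟩ := Set.mem_iUnion₂.1 hm
    exact hη.2 (specializes_iff_mem_closure.2 hm)
  · by_contra hne
    exact hyU (Set.mem_iUnion₂.2 ⟨y, ⟨hy, hne⟩, subset_closure rfl⟩)

lemma exists_gen_mem_support {G : X.Modules} (hG : Coh.IsQCoh G) (htG : TorSh.IsTorsionFree G) {x : X}
    (hx : x ∈ CohB1.support G) : ∃ η ∈ genericPoints X, η ⤳ x ∧ η ∈ CohB1.support G := by
  by_contra hne
  push Not at hne
  refine hx (subsingleton_of_forall_eq 0 fun t => ?_)
  obtain ⟨V, hxV, s, rfl⟩ := G.presheaf.germ_exist t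
  obtain ⟨U, hxU, hU⟩ := exists_open_gen x
  have hs : G.presheaf.map (homOfLE (inf_le_left : V ⊓ U ≤ V)).op s = 0 :=
    TFCurvLib.eq_zero_of_germ_isField hG htG _ fun y hy hyf => by
      have hg := mem_genericPoints_of_isField hyf
      exact stalk_eq_zero (hne y hg (hU y hg hy.2)) _
  exact AssLib.germ_eq_zero_of_res_eq_zero (M := G) (inf_le_left : V ⊓ U ≤ V) ⟨hxV, hxU⟩ s hs

lemma support_eq_of_gen {G : X.Modules} (hG : Coh.IsQCoh G) (htG : TorSh.IsTorsionFree G) {T : Set X}
    (hT : IsClosed T) (hTu : IsUnionComp T)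
    (h : ∀ η ∈ genericPoints X, (η ∈ CohB1.support G ↔ η ∈ T)) : CohB1.support G = T := by
  refine Set.Subset.antisymm (fun x hx => ?_) fun x hx => ?_
  · obtain ⟨η, hη, hsp, hs⟩ := exists_gen_mem_support hG htG hx
    exact hT.stableUnderSpecialization hsp ((h η hη).1 hs)
  · obtain ⟨η, hη, hηT, hsp⟩ := hTu x hx
    exact QCoh.stableUnderSpecialization_support hG hsp ((h η hη).2 hηT)

/-- Torsion-free quotients on unions of components exist. -/
theorem exists_isQuotOn {M : X.Modules} (hM : TFOne.IsTF1 X M) {T : Set X} (hT : IsClosed T)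
    (hTu : IsUnionComp T) : ∃ (G : X.Modules) (π : M ⟶ G), TFOne.IsQuotOn X M T G π := by
  let S' : Set (Set X) := {C | C ∈ irreducibleComponents (X : Type u) ∧ ¬ C ⊆ T}
  have hT' : IsClosed (⋃₀ S') := by
    rw [Set.sUnion_eq_biUnion]
    exact (NoetherianSpace.finite_irreducibleComponents.subset fun C hC => hC.1).isClosed_biUnion
      fun C hC => isClosed_of_mem_irreducibleComponents C hC.1
  have hgen : ∀ η ∈ genericPoints X, (η ∈ ⋃₀ S' ↔ η ∉ T) := fun η hη => by
    refine ⟨fun ⟨C, hC, hηC⟩ hηT => hC.2 ?_, fun h => ⟨closure {η}, ⟨hη, fun hs => h (hs (subset_closure rfl))⟩, subset_closure rfl⟩⟩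
    have hsub : closure ({η} : Set X) ⊆ C :=
      closure_minimal (Set.singleton_subset_iff.2 hηC) (isClosed_of_mem_irreducibleComponents C hC.1)
    exact (hη.2 hC.1.1 hsub).trans (closure_minimal (Set.singleton_subset_iff.2 hηT) hT)
  let L := PureLib.supported M (⋃₀ S')
  haveI := L.mono_ι
  have hLc : Coh.IsCoh L.toModules := PureLib.isCoh_supported hM.1 hT'
  have hLzero : ∀ y ∈ genericPoints X, y ∈ T → (st y).map (cokernel.π L.ι) ≠ 0 ∧
      Function.Injective ((st y).map (cokernel.π L.ι)) := by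
    intro y hy hyT
    have hz : IsZero ((st y).obj L.toModules) := @ModuleCat.isZero_of_subsingleton _ _ _
      (not_not.1 fun h => ((hgen y hy).1 (PureLib.support_supported hM.1 hT' h)) hyT)
    have hex : ((ShortComplex.mk L.ι (cokernel.π L.ι) (cokernel.condition L.ι)).map (st y)).Exact :=
      (CurveSlope.shortExact_cokernel_of_mono L.ι).exact.map (st y)
    haveI : Mono ((st y).map (cokernel.π L.ι)) := hex.mono_g (hz.eq_of_src _ _)
    have hinj := (ModuleCat.mono_iff_injective _).1 (inferInstance : Mono ((st y).map (cokernel.π L.ι)))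
    refine ⟨fun h0 => support_of_rkOne hM.2.2 hy ⟨fun a b => hinj ?_⟩, hinj⟩
    rw [h0]
    rfl
  have hLepi : ∀ y ∈ genericPoints X, y ∉ T → Epi ((st y).map L.ι) := by
    intro y hy hyT
    refine (ModuleCat.epi_iff_surjective _).2 fun t => ?_
    obtain ⟨V, hyV, s, rfl⟩ := M.presheaf.germ_exist t
    obtain ⟨U, hyU, hU⟩ := exists_open_gen y
    have hmem : M.presheaf.map (homOfLE (inf_le_left : V ⊓ U ≤ V)).op s ∈ L.mem (V ⊓ U) := by
      intro z hz hzn
      obtain ⟨η, hη, hsp⟩ := MorLib.Birat.exists_generic z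
      have hηU : η ∈ U := hsp.mem_open U.2 hz.2
      obtain rfl := MorLib.Birat.eq_of_specializes_generic hy (hU η hη hηU)
      exact absurd (hT'.stableUnderSpecialization hsp ((hgen _ hη).2 hyT)) hzn
    obtain ⟨a, ha⟩ := L.exists_app_eq hmem
    refine ⟨L.toModules.presheaf.germ (V ⊓ U) y ⟨hyV, hyU⟩ a, ?_⟩
    refine (DerSch.stalkFunctor_map_germ y L.ι (V ⊓ U) ⟨hyV, hyU⟩ a).trans ?_
    rw [ha, M.presheaf.germ_res_apply]
  have hG := QCoh.isCoh_cokernel hLc.1 hM.1 L.ι
  have htG : TorSh.IsTorsionFree (cokernel L.ι) := by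
    refine isTorsionFree_of_detect fun U s hs => ?_
    refine TopCat.Presheaf.section_ext ⟨(cokernel L.ι).presheaf, (cokernel L.ι).isSheaf⟩ U _ _ fun z hz => ?_
    show (cokernel L.ι).presheaf.germ U z hz s = (cokernel L.ι).presheaf.germ U z hz 0
    rw [map_zero]
    obtain ⟨t, ht⟩ := (ModuleCat.epi_iff_surjective ((st z).map (cokernel.π L.ι))).1 inferInstance
      ((cokernel L.ι).presheaf.germ U z hz s)
    obtain ⟨V, hzV, m, rfl⟩ := M.presheaf.germ_exist t
    erw [DerSch.stalkFunctor_map_germ] at ht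
    obtain ⟨W, hzW, i₁, i₂, he⟩ := (cokernel L.ι).presheaf.germ_eq z hzV hz _ _ ht
    have hmem : M.presheaf.map i₁.op m ∈ L.mem W := by
      intro w hw hwn
      let W' : X.Opens := W ⊓ ⟨(⋃₀ S')ᶜ, hT'.isOpen_compl⟩
      have hz0 : M.presheaf.map (homOfLE (inf_le_left : W' ≤ W)).op (M.presheaf.map i₁.op m) = 0 := by
        refine TFCurvLib.eq_zero_of_germ_isField hM.1.1 hM.2.1 _ fun y hy hyf => ?_
        have hg := mem_genericPoints_of_isField hyf
        have hyT : y ∈ T := not_not.1 fun h => hy.2 ((hgen y hg).2 h)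
        apply (hLzero y hg hyT).2
        rw [M.presheaf.germ_res_apply, M.presheaf.germ_res_apply, map_zero]
        erw [DerSch.stalkFunctor_map_germ]
        rw [← (cokernel L.ι).presheaf.germ_res_apply i₁ y hy.1, he, (cokernel L.ι).presheaf.germ_res_apply]
        exact hs y hg (i₂.le hy.1)
      exact AssLib.germ_eq_zero_of_res_eq_zero (M := M) (inf_le_left : W' ≤ W) ⟨hw, hwn⟩ _ hz0
    obtain ⟨a, ha⟩ := L.exists_app_eq hmem
    rw [← (cokernel L.ι).presheaf.germ_res_apply i₂ z hzW, ← he]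
    refine Eq.trans ?_ (map_zero ((cokernel L.ι).presheaf.germ W z hzW).hom)
    refine congrArg _ ?_
    rw [← QCoh.map_app_comm (cokernel.π L.ι) i₁ m, ← ha]
    exact congr(($(cokernel.condition L.ι)).app W a)
  refine ⟨cokernel L.ι, cokernel.π L.ι, inferInstance, hG, htG, support_eq_of_gen hG.1 htG hT hTu fun η hη => ?_⟩
  refine ⟨fun h => ?_, fun hηT h0 => (hLzero η hη hηT).1 (map_eq_zero_of_notMem (not_not.2 h0) _)⟩
  by_contra hηT
  haveI := hLepi η hη hηT
  have h0 : (st η).map (cokernel.π L.ι) = 0 := by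
    rw [← cancel_epi ((st η).map L.ι), ← Functor.map_comp, cokernel.condition, Functor.map_zero, comp_zero]
  refine h (subsingleton_of_forall_eq 0 fun t => ?_)
  obtain ⟨b, hb⟩ := (ModuleCat.epi_iff_surjective ((st η).map (cokernel.π L.ι))).1 inferInstance t
  rw [← hb, h0]
  rfl

end Groth.Agent.StabH89
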