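import Groth.Agent.StabH89.TFExist

/-!
# The modification inequality on the special fibre
-/

set_option linter.style.haveILetI false
set_option linter.unusedSectionVars false
set_option backward.isDefEq.respectTransparency false
set_option backward.isDefEq.respectTransparency.types false

universe u

open CategoryTheory CategoryTheory.Limits AlgebraicGeometry TopologicalSpace

noncomputable section

namespace Groth.Agent.StabH89

open Groth.Agent

variable {X : Scheme.{u}} [IsNoetherian X] [AlgebraicGeometry.IsReduced X]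

local notation "st" => DerSch.stalkFunctor X

lemma exact_kernel_stalk {A B : X.Modules} (p : A ⟶ B) (y : X) :
    ((ShortComplex.mk (kernel.ι p) p (kernel.condition p)).map (st y)).Exact :=
  (ShortComplex.exact_of_f_is_kernel (ShortComplex.mk (kernel.ι p) p (kernel.condition p))
    (kernelIsKernel p)).map (st y)

lemma isZero_stalk {G : X.Modules} {y : X} (h : y ∉ CohB1.support G) : IsZero ((st y).obj G) :=
  @ModuleCat.isZero_of_subsingleton _ _ _ (not_not.1 h)

lemma isIso_kernel_ι_stalk {A B : X.Modules} (p : A ⟶ B) {y : X} (h : y ∉ CohB1.support B) :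
    IsIso ((st y).map (kernel.ι p)) := by
  haveI : Epi ((st y).map (kernel.ι p)) := (exact_kernel_stalk p y).epi_f ((isZero_stalk h).eq_of_tgt _ _)
  exact isIso_of_mono_of_epi _

lemma notMem_support_kernel {A B : X.Modules} (p : A ⟶ B) {y : X} [IsIso ((st y).map p)] :
    y ∉ CohB1.support (kernel p) := fun h => h (subsingleton_of_forall_eq 0 fun t => by
  apply (ModuleCat.mono_iff_injective ((st y).map (kernel.ι p))).1 inferInstance
  apply (ConcreteCategory.bijective_of_isIso ((st y).map p)).1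
  rw [map_zero, map_zero, ← ConcreteCategory.comp_apply, ← Functor.map_comp, kernel.condition, Functor.map_zero]
  rfl)

lemma isTorsionFree_of_mono {A B : X.Modules} (f : A ⟶ B) [Mono f] (h : TorSh.IsTorsionFree B) :
    TorSh.IsTorsionFree A := fun x =>
  haveI := h x
  let φ : A.presheaf.stalk x →ₗ[X.presheaf.stalk x] B.presheaf.stalk x := ((st x).map f).hom
  have hφ : Function.Injective φ := (ModuleCat.mono_iff_injective ((st x).map f)).1 inferInstance
  Function.Injective.moduleIsTorsionFree φ hφ (fun r m => φ.map_smul r m)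

lemma isTorsionFree_of_extension {S : ShortComplex X.Modules} (hS : S.ShortExact)
    (h1 : TorSh.IsTorsionFree S.X₁) (h3 : TorSh.IsTorsionFree S.X₃) : TorSh.IsTorsionFree S.X₂ := fun x => by
  haveI := hS.mono_f
  haveI := h1 x
  haveI := h3 x
  refine ⟨fun r hr => ?_⟩
  intro m n hmn
  let f : S.X₁.presheaf.stalk x →ₗ[X.presheaf.stalk x] S.X₂.presheaf.stalk x := ((st x).map S.f).hom
  let g : S.X₂.presheaf.stalk x →ₗ[X.presheaf.stalk x] S.X₃.presheaf.stalk x := ((st x).map S.g).hom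
  have hf : Function.Injective f := (ModuleCat.mono_iff_injective ((st x).map S.f)).1 inferInstance
  have h0 : r • (m - n) = 0 := by rw [smul_sub, sub_eq_zero]; exact hmn
  have hg : g (m - n) = 0 := Module.IsTorsionFree.isSMulRegular hr
    (show r • g (m - n) = r • 0 by rw [← map_smul, h0, map_zero, smul_zero])
  obtain ⟨c', hc'⟩ := (ShortComplex.moduleCat_exact_iff _).1 (hS.exact.map (st x)) (m - n) hg
  obtain ⟨c, hc⟩ : ∃ c : S.X₁.presheaf.stalk x, f c = m - n := ⟨c', hc'⟩
  have hc0 : c = 0 := Module.IsTorsionFree.isSMulRegular hr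
    (show r • c = r • 0 from (hf (by rw [map_smul, hc, h0, map_zero])).trans (smul_zero r).symm)
  rw [← sub_eq_zero, ← hc, hc0, map_zero]

variable {M GY N : X.Modules} (hM : TFOne.IsTF1 X M) {Y : Set X} {πY : M ⟶ GY}
  (hGY : TFOne.IsQuotOn X M Y GY πY) {a : GY ⟶ N} {b : N ⟶ kernel πY} {w : a ≫ b = 0}
  (hS : (ShortComplex.mk a b w).ShortExact) (hN : Coh.IsCoh N)

include hM hGY hS in
lemma isIso_stalk_a {y : X} (hy : y ∈ genericPoints X) (hyY : y ∈ Y) : IsIso ((st y).map a) := by
  haveI := isIso_stalk_quot hM.2.2 hGY hy hyY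
  haveI : Mono a := hS.mono_f
  haveI : Epi ((st y).map a) := (hS.exact.map (st y)).epi_f ((isZero_stalk (notMem_support_kernel πY)).eq_of_tgt _ _)
  exact isIso_of_mono_of_epi _

include hGY hS in
lemma isIso_stalk_b {y : X} (hyY : y ∉ Y) : IsIso ((st y).map b) := by
  haveI : Epi b := hS.epi_g
  haveI : Mono ((st y).map b) := (hS.exact.map (st y)).mono_g ((isZero_stalk (by rwa [hGY.2.2.2])).eq_of_src _ _)
  exact isIso_of_mono_of_epi _

include hM hGY hS hN in
theorem isTF1_modif : TFOne.IsTF1 X N := by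
  refine ⟨hN, isTorsionFree_of_extension hS hGY.2.2.1 (isTorsionFree_of_mono (kernel.ι πY) hM.2.1), fun y hy => ?_⟩
  obtain ⟨e⟩ := hM.2.2 y hy
  by_cases hyY : y ∈ Y
  · haveI := isIso_stalk_a hM hGY hS hy hyY
    haveI := isIso_stalk_quot hM.2.2 hGY hy hyY
    exact ⟨((asIso ((st y).map a)).symm ≪≫ (asIso ((st y).map πY)).symm).toLinearEquiv.trans e⟩
  · haveI := isIso_stalk_b hGY hS hyY
    haveI := isIso_kernel_ι_stalk πY (show y ∉ CohB1.support GY by rwa [hGY.2.2.2])
    exact ⟨((asIso ((st y).map b)) ≪≫ (asIso ((st y).map (kernel.ι πY)))).toLinearEquiv.trans e⟩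

variable {Z W : Set X} {GU GW GZ1 : X.Modules} {πU : M ⟶ GU} {πW : M ⟶ GW} {πZ1 : N ⟶ GZ1}

include hM hGY hS hN in
/-- The kernel of `M_{Y ∪ Z} ⟶ M_Y` as a quotient of the modification. -/
lemma exists_quot_outside (hGU : TFOne.IsQuotOn X M (Y ∪ Z) GU πU) :
    ∃ (p : GU ⟶ GY) (_ : Epi p) (c : kernel πY ⟶ kernel p), Epi c ∧ πU ≫ p = πY ∧
      Coh.IsCoh (kernel p) ∧ TorSh.IsTorsionFree (kernel p) ∧
      (∀ y ∈ genericPoints X, y ∈ Z → y ∉ Y → IsIso ((st y).map (b ≫ c))) ∧
      (∀ y ∈ genericPoints X, (y ∈ CohB1.support (kernel p) ↔ (y ∈ Z ∧ y ∉ Y))) ∧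
      ((∀ y ∈ genericPoints X, y ∈ Y ∪ Z) → Mono c) := by
  haveI := hGU.1
  obtain ⟨p, hpe, hp⟩ := exists_factor hM.2.2 hGY hGU fun _ _ h => Or.inl h
  have hc0 : (kernel.ι πY ≫ πU) ≫ p = 0 := by rw [Category.assoc, hp, kernel.condition]
  let c : kernel πY ⟶ kernel p := kernel.lift p _ hc0
  have hc : c ≫ kernel.ι p = kernel.ι πY ≫ πU := kernel.lift_ι _ _ _
  have hce : Epi c := by
    refine (epi_iff_surjective_up_to_refinements c).2 fun {A} x => ?_
    obtain ⟨A₁, π, hπ, v, hv⟩ := surjective_up_to_refinements_of_epi πU (x ≫ kernel.ι p)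
    have hv0 : v ≫ πY = 0 := by
      rw [← hp, ← Category.assoc, ← hv, Category.assoc, Category.assoc, kernel.condition, comp_zero, comp_zero]
    refine ⟨A₁, π, hπ, kernel.lift πY v hv0, ?_⟩
    rw [← cancel_mono (kernel.ι p), Category.assoc, hv, Category.assoc, hc, kernel.lift_ι_assoc]
  have hciso : ∀ y ∈ genericPoints X, y ∈ Z → y ∉ Y →
      IsIso ((st y).map c) ∧ IsIso ((st y).map (kernel.ι p)) := by
    intro y hy hyZ hyY
    haveI := isIso_stalk_quot hM.2.2 hGU hy (Or.inr hyZ)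
    have hn : y ∉ CohB1.support GY := by rwa [hGY.2.2.2]
    haveI := isIso_kernel_ι_stalk πY hn
    haveI := isIso_kernel_ι_stalk p hn
    refine ⟨?_, inferInstance⟩
    haveI : IsIso ((st y).map c ≫ (st y).map (kernel.ι p)) := by
      rw [← Functor.map_comp, hc, Functor.map_comp]; infer_instance
    exact IsIso.of_isIso_comp_right _ ((st y).map (kernel.ι p))
  refine ⟨p, hpe, c, hce, hp, QCoh.isCoh_kernel hGU.2.1 hGY.2.1 p, isTorsionFree_of_mono (kernel.ι p) hGU.2.2.1,
    fun y hy hyZ hyY => ?_, fun y hy => ⟨fun h => ?_, fun ⟨hyZ, hyY⟩ => ?_⟩, fun hall => ?_⟩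
  · haveI := (hciso y hy hyZ hyY).1
    haveI := isIso_stalk_b hGY hS hyY
    rw [Functor.map_comp]
    infer_instance
  · have hyY : y ∉ Y := fun hyY => by
      haveI := isIso_stalk_factor hM.2.2 hGY hGU hp hy hyY (Or.inl hyY)
      exact notMem_support_kernel p h
    refine ⟨by_contra fun hyZ => h (subsingleton_of_forall_eq 0 fun t => ?_), hyY⟩
    apply (ModuleCat.mono_iff_injective ((st y).map (kernel.ι p))).1 inferInstance
    exact (stalk_eq_zero (show y ∉ CohB1.support GU from hGU.2.2.2 ▸ fun h => h.elim hyY hyZ) _).trans (map_zero _).symm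
  · intro h
    haveI := (hciso y hy hyZ hyY).2
    haveI : Subsingleton ((st y).obj (kernel p)) := h
    haveI : Subsingleton (GU.presheaf.stalk y) :=
      (ConcreteCategory.bijective_of_isIso ((st y).map (kernel.ι p))).2.subsingleton (α := (st y).obj (kernel p))
    exact ((Set.ext_iff.1 hGU.2.2.2 y).2 (Or.inr hyZ)) ‹_›
  · refine Preadditive.mono_of_cancel_zero _ fun {A} g hg => ?_
    have h1 : (g ≫ kernel.ι πY) ≫ πU = 0 := by rw [Category.assoc, ← hc, reassoc_of% hg, zero_comp]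
    rw [← cancel_mono (kernel.ι πY), zero_comp]
    refine hom_eq_zero_of_gen hM.1.1 hM.2.1 _ fun y hy => ?_
    haveI := isIso_stalk_quot hM.2.2 hGU hy (hall y hy)
    rw [← cancel_mono ((st y).map πU), ← Functor.map_comp, h1, Functor.map_zero, zero_comp]

include hM hGY hS hN in
/-- `χ(N_V) = χ(M_{Y ∪ Z}) - χ(M_Y)` for `V` the part of `Z` outside `Y`. -/
theorem euler_outside (k : Type u) [Field k] [X.Over (Spec (CommRingCat.of k))]
    [IsProper (X ↘ Spec (CommRingCat.of k))] {V : Set X} (hV : IsClosed V) (hVu : IsUnionComp V)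
    (hVg : ∀ y ∈ genericPoints X, (y ∈ V ↔ y ∈ Z ∧ y ∉ Y)) {G4 : X.Modules} {π4 : N ⟶ G4}
    (hG4 : TFOne.IsQuotOn X N V G4 π4) (hGU : TFOne.IsQuotOn X M (Y ∪ Z) GU πU) :
    Curv2.euler k X G4 + Curv2.euler k X GY = Curv2.euler k X GU := by
  obtain ⟨p, hpe, c, hce, hp, hKc, hKt, -, hsupp, -⟩ := exists_quot_outside (Z := Z) hM hGY hS hN hGU
  haveI : Epi b := hS.epi_g
  have hq : TFOne.IsQuotOn X N V (kernel p) (b ≫ c) :=
    ⟨epi_comp _ _, hKc, hKt, support_eq_of_gen hKc.1 hKt hV hVu fun y hy => (hsupp y hy).trans (hVg y hy).symm⟩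
  have hN1 := (isTF1_modif hM hGY hS hN).2.2
  obtain ⟨g, -, hg⟩ := exists_factor hN1 hq hG4 fun _ _ h => h
  obtain ⟨g', -, hg'⟩ := exists_factor hN1 hG4 hq fun _ _ h => h
  haveI := hG4.1
  haveI := hq.1
  have e : G4 ≅ kernel p := ⟨g, g',
    by rw [← cancel_epi π4, ← Category.assoc, hg, hg', Category.comp_id],
    by rw [← cancel_epi (b ≫ c), ← Category.assoc, hg', hg, Category.comp_id]⟩
  rw [CurveCohLib.euler_congr (k := k) e, euler_kernel k hGU.2.1 hGY.2.1 p]

include hM hGY hS hN in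
/-- The modification inequality. -/
theorem euler_modif (k : Type u) [Field k] [X.Over (Spec (CommRingCat.of k))]
    [IsProper (X ↘ Spec (CommRingCat.of k))]
    (hpure : ∀ C ∈ irreducibleComponents (X : Type u), topologicalKrullDim C = 1)
    (hWg : ∀ y ∈ genericPoints X, (y ∈ W ↔ y ∈ Y ∧ y ∈ Z))
    (hGZ1 : TFOne.IsQuotOn X N Z GZ1 πZ1) (hGW : TFOne.IsQuotOn X M W GW πW)
    (hGU : TFOne.IsQuotOn X M (Y ∪ Z) GU πU) :
    Curv2.euler k X GW + Curv2.euler k X GU ≤ Curv2.euler k X GZ1 + Curv2.euler k X GY ∧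
      ((∀ y ∈ genericPoints X, y ∈ Y ∪ Z) →
        Curv2.euler k X GW + Curv2.euler k X GU = Curv2.euler k X GZ1 + Curv2.euler k X GY) := by
  obtain ⟨p, hpe, c, hce, hp, hKc, hKt, hiso, hsupp, hmono⟩ := exists_quot_outside (Z := Z) hM hGY hS hN hGU
  haveI : Epi b := hS.epi_g
  have hN1 := (isTF1_modif hM hGY hS hN).2.2
  haveI := hGZ1.1
  obtain ⟨h, hh⟩ := exists_desc hN1 hGZ1 hKc.1 hKt (fun y hy hy' => ((hsupp y hy).1 hy').1) (b ≫ c)
  haveI : Epi (πZ1 ≫ h) := hh.symm ▸ epi_comp b c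
  haveI : Epi h := epi_of_epi πZ1 h
  have hHc : Coh.IsCoh (kernel h) := QCoh.isCoh_kernel hGZ1.2.1 hKc h
  have hHt : TorSh.IsTorsionFree (kernel h) := isTorsionFree_of_mono (kernel.ι h) hGZ1.2.2.1
  have hl0 : (a ≫ πZ1) ≫ h = 0 := by rw [Category.assoc, hh, reassoc_of% w, zero_comp]
  let l : GY ⟶ kernel h := kernel.lift h _ hl0
  have hl : l ≫ kernel.ι h = a ≫ πZ1 := kernel.lift_ι _ _ _
  have hHsupp : ∀ y ∈ genericPoints X, y ∉ W → y ∉ CohB1.support (kernel h) := by
    intro y hy hyW hys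
    by_cases hyZ : y ∈ Z
    · have hyY : y ∉ Y := fun h => hyW ((hWg y hy).2 ⟨h, hyZ⟩)
      haveI := hiso y hy hyZ hyY
      haveI := isIso_stalk_quot hN1 hGZ1 hy hyZ
      haveI : IsIso ((st y).map πZ1 ≫ (st y).map h) := by rw [← Functor.map_comp, hh]; infer_instance
      haveI := IsIso.of_isIso_comp_left ((st y).map πZ1) ((st y).map h)
      exact notMem_support_kernel h hys
    · refine hys (subsingleton_of_forall_eq 0 fun t => ?_)
      apply (ModuleCat.mono_iff_injective ((st y).map (kernel.ι h))).1 inferInstance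
      exact (stalk_eq_zero (show y ∉ CohB1.support GZ1 by rwa [hGZ1.2.2.2]) _).trans (map_zero _).symm
  obtain ⟨r, hre, hr⟩ := exists_factor hM.2.2 hGW hGY fun y hy h => ((hWg y hy).1 h).1
  haveI := hre
  have hz : kernel.ι r ≫ l = 0 := by
    refine hom_eq_zero_of_gen hHc.1 hHt _ fun y hy => ?_
    by_cases hyW : y ∈ W
    · haveI := isIso_stalk_factor hM.2.2 hGW hGY hr hy hyW ((hWg y hy).1 hyW).1
      have h0 : (st y).map (kernel.ι r) = 0 := by
        rw [← cancel_mono ((st y).map r), ← Functor.map_comp, kernel.condition, Functor.map_zero, zero_comp]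
      rw [Functor.map_comp, h0, zero_comp]
    · exact map_eq_zero_of_notMem (hHsupp y hy hyW) _
  let g : GW ⟶ kernel h := (Abelian.epiIsCokernelOfKernel _ (limit.isLimit _)).desc (CokernelCofork.ofπ l hz)
  have hg : r ≫ g = l :=
    (Abelian.epiIsCokernelOfKernel _ (limit.isLimit _)).fac (CokernelCofork.ofπ l hz) WalkingParallelPair.one
  have hgW : ∀ y ∈ genericPoints X, y ∈ W → IsIso ((st y).map g) := by
    intro y hy hyW
    obtain ⟨hyY, hyZ⟩ := (hWg y hy).1 hyW
    haveI := isIso_stalk_a hM hGY hS hy hyY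
    haveI := isIso_stalk_quot hN1 hGZ1 hy hyZ
    haveI := isIso_stalk_factor hM.2.2 hGW hGY hr hy hyW hyY
    haveI : IsIso ((st y).map r ≫ (st y).map g ≫ (st y).map (kernel.ι h)) := by
      rw [← Functor.map_comp, ← Functor.map_comp, ← Category.assoc, hg, hl, Functor.map_comp]
      infer_instance
    haveI := IsIso.of_isIso_comp_left ((st y).map r) ((st y).map g ≫ (st y).map (kernel.ι h))
    haveI : Epi ((st y).map (kernel.ι h)) := epi_of_epi ((st y).map g) _
    haveI : IsIso ((st y).map (kernel.ι h)) := isIso_of_mono_of_epi _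
    exact IsIso.of_isIso_comp_right _ ((st y).map (kernel.ι h))
  haveI hgm : Mono g := by
    refine Preadditive.mono_of_cancel_zero _ fun {A} x hx => ?_
    refine hom_eq_zero_of_gen hGW.2.1.1 hGW.2.2.1 _ fun y hy => ?_
    by_cases hyW : y ∈ W
    · haveI := hgW y hy hyW
      rw [← cancel_mono ((st y).map g), ← Functor.map_comp, hx, Functor.map_zero, zero_comp]
    · exact map_eq_zero_of_notMem (by rwa [hGW.2.2.2]) _
  have hgen : ∀ y ∈ genericPoints X, Epi ((st y).map g) := by
    intro y hy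
    by_cases hyW : y ∈ W
    · haveI := hgW y hy hyW
      infer_instance
    · exact (isZero_stalk (hHsupp y hy hyW)).epi _
  have hχ := euler_le_of_gen k hpure hGW.2.1 hHc g hgen
  refine ⟨?_, fun hall => ?_⟩
  · rw [euler_kernel k hGU.2.1 hGY.2.1 p, euler_kernel k hGZ1.2.1 hKc h]
    linarith [hχ.1]
  · haveI := hmono hall
    haveI : Epi l := by
      refine (epi_iff_surjective_up_to_refinements l).2 fun {A} x => ?_
      obtain ⟨A₁, π, hπ, n, hn⟩ := surjective_up_to_refinements_of_epi πZ1 (x ≫ kernel.ι h)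
      have hn0 : n ≫ b = 0 := by
        rw [← cancel_mono c, Category.assoc, ← hh, ← Category.assoc, ← hn, Category.assoc, Category.assoc,
          kernel.condition, comp_zero, comp_zero, zero_comp]
      obtain ⟨A₂, π', hπ', v, hv⟩ := hS.exact.exact_up_to_refinements n hn0
      dsimp only at hv
      refine ⟨A₂, π' ≫ π, epi_comp _ _, v, ?_⟩
      rw [← cancel_mono (kernel.ι h), Category.assoc, Category.assoc, hn, ← Category.assoc, hv, Category.assoc,
        Category.assoc, hl]
    haveI : Epi (r ≫ g) := hg.symm ▸ (inferInstance : Epi l)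
    haveI : Epi g := epi_of_epi r g
    have he := hχ.2.2 (isIso_of_mono_of_epi g)
    rw [euler_kernel k hGU.2.1 hGY.2.1 p, euler_kernel k hGZ1.2.1 hKc h]
    linarith

end Groth.Agent.StabH89
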